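import Mathlib
import Cfsg.Agent.Lib.Helper63.PFrattini

set_option autoImplicit false

/-! Nonabelian groups of order `p ^ 4` that are not two-generated (piece Q3 of S5188). -/

namespace Cfsg.Agent.Lib.Helper87.PFour3

open Cfsg.Agent.Lib.Helper63

variable {H : Type*} [Group H]

/-- a subgroup strictly containing a subgroup of order `p ^ n`, of order dividing `p ^ (n+1)`. -/
theorem card_eq_of_lt [Finite H] {p n : ℕ} [Fact p.Prime] {A K : Subgroup H}
    (hA : Nat.card A = p ^ n) (hK : Nat.card K ∣ p ^ (n + 1)) (h : A < K) :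
    Nat.card K = p ^ (n + 1) := by
  have hp : p.Prime := Fact.out
  obtain ⟨k, hk, hKk⟩ := (Nat.dvd_prime_pow hp).mp hK
  have hlt : Nat.card A < Nat.card K := by
    by_contra hcon
    push Not at hcon
    exact h.ne (Subgroup.eq_of_le_of_card_ge h.le hcon)
  rw [hA, hKk] at hlt
  have h1 : n < k := (Nat.pow_lt_pow_iff_right hp.one_lt).mp hlt
  have h2 : k = n + 1 := by omega
  rw [hKk, h2]

/-- in a group of order `p ^ (n+1)`, a subgroup strictly containing one of order `p ^ n` is `⊤` -/
theorem eq_top_of_lt [Finite H] {p n : ℕ} [Fact p.Prime] (hcard : Nat.card H = p ^ (n + 1))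
    {A K : Subgroup H} (hA : Nat.card A = p ^ n) (h : A < K) : K = ⊤ := by
  have h1 : Nat.card K = p ^ (n + 1) :=
    card_eq_of_lt hA (hcard ▸ Subgroup.card_subgroup_dvd_card K) h
  exact Subgroup.eq_top_of_card_eq K (by rw [h1, hcard])

/-- if all commutators with `a` are central, `x ↦ a x a⁻¹ x⁻¹` is a homomorphism -/
def commHom (a : H) (hc : ∀ x : H, a * x * a⁻¹ * x⁻¹ ∈ Subgroup.center H) : H →* H :=
  MonoidHom.mk' (fun x => a * x * a⁻¹ * x⁻¹) (by
    intro x y
    have h' : x⁻¹ * (a * y * a⁻¹ * y⁻¹) = (a * y * a⁻¹ * y⁻¹) * x⁻¹ :=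
      Subgroup.mem_center_iff.mp (hc y) x⁻¹
    calc a * (x * y) * a⁻¹ * (x * y)⁻¹ = a * x * a⁻¹ * ((a * y * a⁻¹ * y⁻¹) * x⁻¹) := by group
      _ = a * x * a⁻¹ * (x⁻¹ * (a * y * a⁻¹ * y⁻¹)) := by rw [h']
      _ = a * x * a⁻¹ * x⁻¹ * (a * y * a⁻¹ * y⁻¹) := by group)

theorem commHom_apply (a : H) (hc : ∀ x : H, a * x * a⁻¹ * x⁻¹ ∈ Subgroup.center H) (x : H) :
    commHom a hc x = a * x * a⁻¹ * x⁻¹ := rfl

theorem mem_ker_commHom (a : H) (hc : ∀ x : H, a * x * a⁻¹ * x⁻¹ ∈ Subgroup.center H) (x : H) :
    x ∈ (commHom a hc).ker ↔ a * x = x * a := by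
  rw [MonoidHom.mem_ker, commHom_apply]
  constructor
  · intro h
    calc a * x = a * x * a⁻¹ * x⁻¹ * (x * a) := by group
      _ = x * a := by rw [h, one_mul]
  · intro h
    calc a * x * a⁻¹ * x⁻¹ = (a * x) * a⁻¹ * x⁻¹ := by group
      _ = 1 := by rw [h]; group

/-- The Frattini subgroup has order `p`. -/
theorem card_frattini [Finite H] {p : ℕ} [Fact p.Prime]
    (hcard : Nat.card H = p ^ 4) (hna : ∃ a b : H, a * b ≠ b * a)
    (hfr : (frattini H).index ≠ p ^ 2) : Nat.card (frattini H) = p := by
  have hp : p.Prime := Fact.out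
  have hP : IsPGroup p H := IsPGroup.of_card hcard
  obtain ⟨a, b, hab⟩ := hna
  have hdvd : Nat.card (frattini H) ∣ p ^ 4 := hcard ▸ Subgroup.card_subgroup_dvd_card _
  obtain ⟨k, hk, hFk⟩ := (Nat.dvd_prime_pow hp).mp hdvd
  have hidx := Subgroup.card_mul_index (frattini H)
  rw [hFk, hcard] at hidx
  have hk4 : k ≤ 4 := hk
  interval_cases k
  · -- trivial Frattini subgroup: abelian
    exfalso
    have hbot : frattini H = ⊥ := Subgroup.eq_bot_of_card_eq _ (by rw [hFk, pow_zero])
    have h1 := PFrattini.comm_mem_frattini hP a b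
    rw [hbot, Subgroup.mem_bot] at h1
    apply hab
    calc a * b = a * b * a⁻¹ * b⁻¹ * (b * a) := by group
      _ = b * a := by rw [h1, one_mul]
  · rw [hFk, pow_one]
  · exfalso
    apply hfr
    have h2 : p ^ 2 * (frattini H).index = p ^ 2 * p ^ 2 := by rw [hidx]; ring
    exact Nat.eq_of_mul_eq_mul_left (pow_pos hp.pos 2) h2
  · -- index `p`: cyclic
    exfalso
    have hne : frattini H ≠ ⊤ := by
      intro h
      have := congrArg (fun K : Subgroup H => Nat.card K) h
      simp only [Subgroup.card_top] at this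
      rw [hFk, hcard] at this
      have h3 : 3 = 4 := Nat.pow_right_injective hp.two_le this
      omega
    obtain ⟨x, hx⟩ : ∃ x : H, x ∉ frattini H := by
      by_contra hcon
      push Not at hcon
      exact hne (eq_top_iff.mpr fun y _ => hcon y)
    have hlt : frattini H < Subgroup.zpowers x ⊔ frattini H := by
      refine lt_of_le_of_ne le_sup_right ?_
      intro h
      apply hx
      rw [h]
      exact (le_sup_left : Subgroup.zpowers x ≤ _) (Subgroup.mem_zpowers x)
    have htop : Subgroup.zpowers x ⊔ frattini H = ⊤ := eq_top_of_lt hcard hFk hlt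
    have hz : Subgroup.zpowers x = ⊤ := frattini_nongenerating htop
    have ha : a ∈ Subgroup.zpowers x := by rw [hz]; trivial
    have hb : b ∈ Subgroup.zpowers x := by rw [hz]; trivial
    obtain ⟨i, rfl⟩ := Subgroup.mem_zpowers_iff.mp ha
    obtain ⟨j, rfl⟩ := Subgroup.mem_zpowers_iff.mp hb
    apply hab
    rw [← zpow_add, ← zpow_add, add_comm]
  · -- Frattini subgroup is everything: impossible
    exfalso
    have htop : frattini H = ⊤ := Subgroup.eq_top_of_card_eq _ (by rw [hFk, hcard])
    have h1 : (⊥ : Subgroup H) = ⊤ := frattini_nongenerating (by rw [htop]; simp)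
    have ha : a ∈ (⊥ : Subgroup H) := by rw [h1]; trivial
    have hb : b ∈ (⊥ : Subgroup H) := by rw [h1]; trivial
    rw [Subgroup.mem_bot] at ha hb
    apply hab
    rw [ha, hb]

/-- [Q3] nonabelian groups of order `p ^ 4` that are not two-generated -/
theorem three_gen_struct {H : Type*} [Group H] [Finite H] {p : ℕ} [Fact p.Prime]
    (hcard : Nat.card H = p ^ 4) (hna : ∃ a b : H, a * b ≠ b * a)
    (hfr : (frattini H).index ≠ p ^ 2) :
    Nat.card (Subgroup.center H) = p ^ 2 ∧ (∀ x : H, x ^ p ^ 2 = 1) ∧
      (¬ IsCyclic (Subgroup.center H) → ∃ E : Subgroup H, Nat.card E = p ^ 3 ∧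
        (∃ a b : E, a * b ≠ b * a) ∧ Nonempty (H ≃* E × Multiplicative (ZMod p))) := by
  classical
  have hp : p.Prime := Fact.out
  have hP : IsPGroup p H := IsPGroup.of_card hcard
  have hF : Nat.card (frattini H) = p := card_frattini hcard hna hfr
  have hFn : (frattini H).Normal := inferInstance
  have hFZ : frattini H ≤ Subgroup.center H := PFrattini.normal_card_prime_le_center hP _ hF
  have hcZ : ∀ a x : H, a * x * a⁻¹ * x⁻¹ ∈ Subgroup.center H := fun a x =>
    hFZ (PFrattini.comm_mem_frattini hP a x)
  -- centralizers of non-central elements have order `p ^ 3`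
  have hker : ∀ a : H, (∃ b : H, a * b ≠ b * a) →
      Nat.card (commHom a (hcZ a)).ker = p ^ 3 := by
    intro a ⟨b, hab⟩
    have h1 : (commHom a (hcZ a)).ker.index = Nat.card (commHom a (hcZ a)).range :=
      Subgroup.index_ker _
    have h2 : (commHom a (hcZ a)).range ≤ frattini H := by
      rintro _ ⟨x, rfl⟩
      rw [commHom_apply]
      exact PFrattini.comm_mem_frattini hP a x
    have h3 : Nat.card (commHom a (hcZ a)).range ∣ p := hF ▸ Subgroup.card_dvd_of_le h2
    have h4 : (commHom a (hcZ a)).ker.index ≠ 1 := by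
      intro h
      have := Subgroup.index_eq_one.mp h
      have hb : b ∈ (commHom a (hcZ a)).ker := by rw [this]; trivial
      exact hab ((mem_ker_commHom a (hcZ a) b).mp hb)
    have h5 : (commHom a (hcZ a)).ker.index = p := by
      rw [h1] at h4 ⊢
      rcases (Nat.dvd_prime hp).mp h3 with h | h
      · exact absurd h h4
      · exact h
    have h6 := Subgroup.card_mul_index (commHom a (hcZ a)).ker
    rw [h5, hcard] at h6
    have h7 : Nat.card (commHom a (hcZ a)).ker * p = p ^ 3 * p := by rw [h6]; ring
    exact Nat.eq_of_mul_eq_mul_right hp.pos h7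
  obtain ⟨a, b, hab⟩ := hna
  obtain ⟨A, hAdef⟩ : ∃ A : Subgroup H, A = (commHom a (hcZ a)).ker := ⟨_, rfl⟩
  obtain ⟨B, hBdef⟩ : ∃ B : Subgroup H, B = (commHom b (hcZ b)).ker := ⟨_, rfl⟩
  have hAmem : ∀ x, x ∈ A ↔ a * x = x * a := fun x => by rw [hAdef, mem_ker_commHom]
  have hBmem : ∀ x, x ∈ B ↔ b * x = x * b := fun x => by rw [hBdef, mem_ker_commHom]
  have hAcard : Nat.card A = p ^ 3 := by rw [hAdef]; exact hker a ⟨b, hab⟩
  have hBcard : Nat.card B = p ^ 3 := by rw [hBdef]; exact hker b ⟨a, fun h => hab h.symm⟩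
  have hBn : B.Normal := by rw [hBdef]; infer_instance
  have haA : a ∈ A := (hAmem a).mpr rfl
  have hbB : b ∈ B := (hBmem b).mpr rfl
  have haB : a ∉ B := fun h => hab ((hBmem a).mp h).symm
  have hbA : b ∉ A := fun h => hab ((hAmem b).mp h)
  -- `D = A ⊓ B` has order `p ^ 2`
  have hABtop : A ⊔ B = ⊤ := by
    apply eq_top_of_lt hcard hAcard
    refine lt_of_le_of_ne le_sup_left ?_
    intro h
    apply hbA
    rw [h]
    exact (le_sup_right : B ≤ A ⊔ B) hbB
  have hBidx : B.index = p := by
    have h6 := Subgroup.card_mul_index B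
    rw [hBcard, hcard] at h6
    have h7 : p ^ 3 * B.index = p ^ 3 * p := by rw [h6]; ring
    exact Nat.eq_of_mul_eq_mul_left (pow_pos hp.pos 3) h7
  have hAidx : A.index = p := by
    have h6 := Subgroup.card_mul_index A
    rw [hAcard, hcard] at h6
    have h7 : p ^ 3 * A.index = p ^ 3 * p := by rw [h6]; ring
    exact Nat.eq_of_mul_eq_mul_left (pow_pos hp.pos 3) h7
  have hDidx : (A ⊓ B).index = p * p := by
    have h1 : (A ⊓ B).relIndex A = p := by
      rw [Subgroup.inf_relIndex_left, ← Subgroup.relIndex_sup_right, hABtop,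
        Subgroup.relIndex_top_right, hBidx]
    have h2 := Subgroup.relIndex_mul_index (inf_le_left : A ⊓ B ≤ A)
    rw [h1, hAidx] at h2
    exact h2.symm
  have hDcard : Nat.card (A ⊓ B : Subgroup H) = p ^ 2 := by
    have h6 := Subgroup.card_mul_index (A ⊓ B)
    rw [hDidx, hcard] at h6
    have h7 : Nat.card (A ⊓ B : Subgroup H) * (p * p) = p ^ 2 * (p * p) := by rw [h6]; ring
    exact Nat.eq_of_mul_eq_mul_right (Nat.mul_pos hp.pos hp.pos) h7
  have hDcomm : ∀ x y : (A ⊓ B : Subgroup H), x * y = y * x := fun x y =>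
    (IsPGroup.isMulCommutative_of_card_eq_prime_sq hDcard).is_comm.comm x y
  -- `D` is the centre
  have hDZ : A ⊓ B ≤ Subgroup.center H := by
    intro d hd
    have hKA : A ≤ Subgroup.centralizer {d} := by
      have hlt : A ⊓ B < Subgroup.centralizer {d} ⊓ A := by
        refine lt_of_le_of_ne (le_inf ?_ inf_le_left) ?_
        · intro y hy
          rw [Subgroup.mem_centralizer_singleton_iff]
          have := congrArg Subtype.val (hDcomm ⟨y, hy⟩ ⟨d, hd⟩)
          exact this
        · intro h
          apply haB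
          have : a ∈ Subgroup.centralizer {d} ⊓ A := by
            refine Subgroup.mem_inf.mpr ⟨?_, haA⟩
            rw [Subgroup.mem_centralizer_singleton_iff]
            exact (hAmem d).mp hd.1
          rw [← h] at this
          exact this.2
      have hc : Nat.card (Subgroup.centralizer {d} ⊓ A : Subgroup H) = p ^ 3 :=
        card_eq_of_lt hDcard (hAcard ▸ Subgroup.card_dvd_of_le inf_le_right) hlt
      have heq : Subgroup.centralizer {d} ⊓ A = A :=
        Subgroup.eq_of_le_of_card_ge inf_le_right (by rw [hc, hAcard])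
      rw [← heq]
      exact inf_le_left
    have hKtop : Subgroup.centralizer {d} = ⊤ := by
      apply eq_top_of_lt hcard hAcard
      refine lt_of_le_of_ne hKA ?_
      intro h
      apply hbA
      rw [h, Subgroup.mem_centralizer_singleton_iff]
      exact (hBmem d).mp hd.2
    rw [Subgroup.mem_center_iff]
    intro g
    have hg : g ∈ Subgroup.centralizer {d} := by rw [hKtop]; trivial
    rw [Subgroup.mem_centralizer_singleton_iff] at hg
    exact hg
  have hZD : Subgroup.center H ≤ A ⊓ B := by
    intro z hz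
    rw [Subgroup.mem_center_iff] at hz
    exact ⟨(hAmem z).mpr (hz a), (hBmem z).mpr (hz b)⟩
  have hZeq : Subgroup.center H = A ⊓ B := le_antisymm hZD hDZ
  have hZcard : Nat.card (Subgroup.center H) = p ^ 2 := by rw [hZeq]; exact hDcard
  have hpowF : ∀ y ∈ frattini H, y ^ p = 1 := by
    intro y hy
    have h1 : (⟨y, hy⟩ : frattini H) ^ p = 1 := by
      rw [← hF]; exact pow_card_eq_one'
    have := congrArg Subtype.val h1
    simpa using this
  refine ⟨hZcard, ?_, ?_⟩
  · intro x
    rw [pow_two, pow_mul]
    exact hpowF _ (PFrattini.pow_mem_frattini hP x)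
  · intro hncyc
    -- a central element outside the Frattini subgroup
    obtain ⟨c, hcZ', hcF⟩ : ∃ c : H, c ∈ Subgroup.center H ∧ c ∉ frattini H := by
      by_contra hcon
      push Not at hcon
      have hle : Subgroup.center H ≤ frattini H := fun y hy => hcon y hy
      have := Subgroup.card_le_of_le hle
      rw [hZcard, hF] at this
      have h2 : p ^ 2 ≤ p ^ 1 := by rw [pow_one]; exact this
      have := (Nat.pow_le_pow_iff_right hp.one_lt).mp h2
      omega
    have hcp : c ^ p = 1 := by
      have h1 : orderOf (⟨c, hcZ'⟩ : Subgroup.center H) ∣ p ^ 2 := by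
        rw [← hZcard]; exact orderOf_dvd_natCard _
      obtain ⟨k, hk, hok⟩ := (Nat.dvd_prime_pow hp).mp h1
      have hk2 : k ≠ 2 := by
        intro h
        apply hncyc
        apply isCyclic_of_orderOf_eq_card (⟨c, hcZ'⟩ : Subgroup.center H)
        rw [hok, h, hZcard]
      have hk1 : k ≤ 1 := by omega
      have h2 : orderOf (⟨c, hcZ'⟩ : Subgroup.center H) ∣ p := by
        rw [hok]
        calc p ^ k ∣ p ^ 1 := pow_dvd_pow p hk1
          _ = p := pow_one p
      have h3 : (⟨c, hcZ'⟩ : Subgroup.center H) ^ p = 1 := orderOf_dvd_iff_pow_eq_one.mp h2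
      have := congrArg Subtype.val h3
      simpa using this
    obtain ⟨M, hM, hcM⟩ : ∃ M : Subgroup H, IsCoatom M ∧ c ∉ M := by
      by_contra hcon
      push Not at hcon
      exact hcF ((PFrattini.mem_frattini_iff c).mpr hcon)
    have hMidx : M.index = p := PFrattini.coatom_index hP M hM
    have hMcard : Nat.card M = p ^ 3 := by
      have h6 := Subgroup.card_mul_index M
      rw [hMidx, hcard] at h6
      have h7 : Nat.card M * p = p ^ 3 * p := by rw [h6]; ring
      exact Nat.eq_of_mul_eq_mul_right hp.pos h7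
    refine ⟨M, hMcard, ?_, ?_⟩
    · by_contra hcon
      push Not at hcon
      have hMZ : M ≤ Subgroup.center H := by
        intro m hm
        have hKtop : Subgroup.centralizer {m} = ⊤ := by
          apply eq_top_of_lt hcard hMcard
          refine lt_of_le_of_ne ?_ ?_
          · intro y hy
            rw [Subgroup.mem_centralizer_singleton_iff]
            exact congrArg Subtype.val (hcon ⟨y, hy⟩ ⟨m, hm⟩)
          · intro h
            apply hcM
            rw [h, Subgroup.mem_centralizer_singleton_iff]
            exact (Subgroup.mem_center_iff.mp hcZ' m).symm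
        rw [Subgroup.mem_center_iff]
        intro g
        have hg : g ∈ Subgroup.centralizer {m} := by rw [hKtop]; trivial
        rw [Subgroup.mem_centralizer_singleton_iff] at hg
        exact hg
      have := Subgroup.card_le_of_le hMZ
      rw [hZcard, hMcard] at this
      have := (Nat.pow_le_pow_iff_right hp.one_lt).mp this
      omega
    · -- the isomorphism
      let c' : Subgroup.center H := ⟨c, hcZ'⟩
      have hc'p : c' ^ p = 1 := Subtype.ext (by simpa using hcp)
      let g0 : ZMod p →+ Additive (Subgroup.center H) :=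
        ZMod.lift p ⟨zmultiplesHom (Additive (Subgroup.center H)) (Additive.ofMul c'), by
          simp only [zmultiplesHom_apply, natCast_zsmul]
          rw [← ofMul_pow, hc'p]; rfl⟩
      let g : Multiplicative (ZMod p) →* Subgroup.center H := AddMonoidHom.toMultiplicativeLeft g0
      have hg1 : g (Multiplicative.ofAdd 1) = c' := by
        show (g0 1).toMul = c'
        have h1 : g0 ((1 : ℤ) : ZMod p) = Additive.ofMul c' := by
          simp only [g0]
          rw [ZMod.lift_coe]
          simp
        rw [Int.cast_one] at h1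
        rw [h1]; rfl
      let f : M × Multiplicative (ZMod p) →* H :=
        MonoidHom.noncommCoprod M.subtype ((Subgroup.center H).subtype.comp g) (by
          intro m n
          exact (Subgroup.mem_center_iff.mp (g n).2 (m : H)))
      have hfapp : ∀ (m : M) (n : Multiplicative (ZMod p)), f (m, n) = (m : H) * (g n : H) :=
        fun m n => rfl
      have hsurj : Function.Surjective f := by
        have hrange : f.range = ⊤ := by
          apply eq_top_of_lt hcard hMcard
          refine lt_of_le_of_ne ?_ ?_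
          · intro y hy
            refine ⟨(⟨y, hy⟩, 1), ?_⟩
            rw [hfapp, map_one]
            simp
          · intro h
            apply hcM
            rw [h]
            refine ⟨(1, Multiplicative.ofAdd 1), ?_⟩
            rw [hfapp, hg1]
            simp [c']
        exact MonoidHom.range_eq_top.mp hrange
      have hcardeq : Nat.card (M × Multiplicative (ZMod p)) = Nat.card H := by
        rw [Nat.card_prod, hMcard, hcard]
        have : Nat.card (Multiplicative (ZMod p)) = p := by
          rw [Nat.card_congr Multiplicative.toAdd, Nat.card_zmod]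
        rw [this]; ring
      have hbij : Function.Bijective f :=
        (Nat.bijective_iff_surjective_and_card f).mpr ⟨hsurj, hcardeq⟩
      exact ⟨(MulEquiv.ofBijective f hbij).symm⟩

end Cfsg.Agent.Lib.Helper87.PFour3
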