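import Mathlib
import Cfsg.Agent.Lib.Helper87.PFour3
import Cfsg.Agent.S4189

set_option autoImplicit false

/-! Nonabelian groups of order 16, not two-generated, with noncyclic centre (piece Q5 of S5188). -/

namespace Cfsg.Agent.Lib.Helper87.PFour5

open Cfsg.Agent.Lib.Helper63 Cfsg.Agent.Lib.Helper87.PFour3

theorem pow_key : ∀ k : ℕ, k ≤ 4 → 2 ^ 2 < 2 ^ k → 2 ^ k ≠ 2 ^ 4 → 2 ^ k = 2 ^ 3 := by
  intro k hk h1 h2
  interval_cases k <;> simp_all

theorem zmod_two_add_self : ∀ j : ZMod 2, j + j = 0 := by decide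

/-- [Q5] a nonabelian group of order 16, not two-generated, with noncyclic centre is
`Q₈ × C₂` or has a chain of characteristic subgroups -/
theorem chain_or_quat {H : Type*} [Group H] [Finite H]
    (hcard : Nat.card H = 2 ^ 4) (hna : ∃ a b : H, a * b ≠ b * a)
    (hfr : (frattini H).index ≠ 2 ^ 2) (hZ : ¬ IsCyclic (Subgroup.center H)) :
    Nonempty (H ≃* QuaternionGroup 2 × Multiplicative (ZMod 2)) ∨
    ∃ C B A : Subgroup H, A ≤ B ∧ B ≤ C ∧ Nat.card C = 2 ^ 3 ∧ Nat.card B = 2 ^ 2 ∧
      Nat.card A = 2 ∧ (∀ α : MulAut H, ∀ x ∈ C, α x ∈ C) ∧ (∀ α : MulAut H, ∀ x ∈ B, α x ∈ B) ∧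
      (∀ α : MulAut H, ∀ x ∈ A, α x ∈ A) := by
  classical
  have : Fact (Nat.Prime 2) := ⟨Nat.prime_two⟩
  have hP : IsPGroup 2 H := IsPGroup.of_card hcard
  have hF : Nat.card (frattini H) = 2 := card_frattini hcard hna hfr
  obtain ⟨hZcard, -, hiso⟩ := three_gen_struct hcard hna hfr
  obtain ⟨E, hEcard, -, ⟨φ⟩⟩ := hiso hZ
  have hFZ : frattini H ≤ Subgroup.center H := PFrattini.normal_card_prime_le_center hP _ hF
  -- two nontrivial elements of the Frattini subgroup are equal
  have hFeq : ∀ x y : H, x ∈ frattini H → y ∈ frattini H → x ≠ 1 → y ≠ 1 → x = y := by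
    intro x y hx hy hx1 hy1
    obtain ⟨w, -, hw⟩ := (Nat.card_eq_two_iff' (1 : frattini H)).mp hF
    have h1 : (⟨x, hx⟩ : frattini H) = w := hw _ (fun h => hx1 (congrArg Subtype.val h))
    have h2 : (⟨y, hy⟩ : frattini H) = w := hw _ (fun h => hy1 (congrArg Subtype.val h))
    exact congrArg Subtype.val (h1.trans h2.symm)
  have hFsq : ∀ y ∈ frattini H, y * y = 1 := by
    intro y hy
    have h1 : (⟨y, hy⟩ : frattini H) ^ 2 = 1 := by
      rw [← hF]; exact pow_card_eq_one'
    have := congrArg Subtype.val h1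
    simpa [pow_two] using this
  by_cases hS : ∀ x y : H, x * x ≠ 1 → y * y ≠ 1 → x * y = y * x
  · right
    -- squares of central elements are trivial
    have hZsq : ∀ c ∈ Subgroup.center H, c * c = 1 := by
      intro c hc
      have h1 : orderOf (⟨c, hc⟩ : Subgroup.center H) ∣ 2 ^ 2 := by
        rw [← hZcard]; exact orderOf_dvd_natCard _
      obtain ⟨k, hk, hok⟩ := (Nat.dvd_prime_pow Nat.prime_two).mp h1
      have hk2 : k ≠ 2 := by
        intro h
        apply hZ
        apply isCyclic_of_orderOf_eq_card (⟨c, hc⟩ : Subgroup.center H)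
        rw [hok, h, hZcard]
      have hk1 : k ≤ 1 := by omega
      have h2 : orderOf (⟨c, hc⟩ : Subgroup.center H) ∣ 2 := by
        rw [hok]
        calc 2 ^ k ∣ 2 ^ 1 := pow_dvd_pow 2 hk1
          _ = 2 := pow_one 2
      have h3 : (⟨c, hc⟩ : Subgroup.center H) ^ 2 = 1 := orderOf_dvd_iff_pow_eq_one.mp h2
      have := congrArg Subtype.val h3
      simpa [pow_two] using this
    obtain ⟨r, hr⟩ : ∃ r : H, r * r ≠ 1 := by
      by_contra hcon
      push Not at hcon
      obtain ⟨a, b, hab⟩ := hna
      apply hab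
      have h1 := hcon (a * b)
      calc a * b = (a * b)⁻¹ := eq_inv_of_mul_eq_one_left h1
        _ = b⁻¹ * a⁻¹ := mul_inv_rev a b
        _ = b * a := by
          rw [← eq_inv_of_mul_eq_one_left (hcon a), ← eq_inv_of_mul_eq_one_left (hcon b)]
    have hrZ : r ∉ Subgroup.center H := fun h => hr (hZsq r h)
    -- `C` := centralizer of the elements with nontrivial square
    obtain ⟨C, hCdef⟩ : ∃ C : Subgroup H, C = Subgroup.centralizer {x : H | x * x ≠ 1} :=
      ⟨_, rfl⟩
    have hCmem : ∀ g, g ∈ C ↔ ∀ x : H, x * x ≠ 1 → x * g = g * x := by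
      intro g
      rw [hCdef, Subgroup.mem_centralizer_iff]
      rfl
    have hZC : Subgroup.center H ≤ C := by rw [hCdef]; exact Subgroup.center_le_centralizer _
    have hrC : r ∈ C := (hCmem r).mpr fun x hx => hS x r hx hr
    have hCtop : C ≠ ⊤ := by
      intro h
      apply hrZ
      rw [Subgroup.mem_center_iff]
      intro g
      have hg : g ∈ C := by rw [h]; trivial
      exact ((hCmem g).mp hg r hr).symm
    have hCcard : Nat.card C = 2 ^ 3 := by
      have hdvd : Nat.card C ∣ 2 ^ 4 := hcard ▸ Subgroup.card_subgroup_dvd_card C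
      obtain ⟨k, hk, hCk⟩ := (Nat.dvd_prime_pow Nat.prime_two).mp hdvd
      have h1 : Nat.card (Subgroup.center H) < Nat.card C := by
        by_contra hcon
        push Not at hcon
        have := Subgroup.eq_of_le_of_card_ge hZC hcon
        exact hrZ (this ▸ hrC)
      have h2 : Nat.card C ≠ 2 ^ 4 := fun h =>
        hCtop (Subgroup.eq_top_of_card_eq C (by rw [h, hcard]))
      rw [hZcard, hCk] at h1
      rw [hCk] at h2 ⊢
      exact pow_key k hk h1 h2
    refine ⟨C, Subgroup.center H, frattini H, hFZ, hZC, hCcard, hZcard, hF, ?_, ?_, ?_⟩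
    · intro α x hx
      rw [hCmem] at hx ⊢
      intro y hy
      have hy' : (α.symm y) * (α.symm y) ≠ 1 := by
        intro h
        apply hy
        have := congrArg α h
        simpa using this
      have := congrArg α (hx _ hy')
      simpa using this
    · intro α x hx
      rw [Subgroup.mem_center_iff] at hx ⊢
      intro g
      have := congrArg α (hx (α.symm g))
      simpa using this
    · intro α x hx
      exact Subgroup.characteristic_iff_le_comap.mp
        (inferInstance : (frattini H).Characteristic) α hx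
  · left
    push Not at hS
    obtain ⟨r, s, hr, hs, hrs⟩ := hS
    have hr2 : r * r ∈ frattini H := by
      have := PFrattini.pow_mem_frattini hP r; rwa [pow_two] at this
    have hs2 : s * s ∈ frattini H := by
      have := PFrattini.pow_mem_frattini hP s; rwa [pow_two] at this
    have hc : s * r * s⁻¹ * r⁻¹ ∈ frattini H := PFrattini.comm_mem_frattini hP s r
    have hc1 : s * r * s⁻¹ * r⁻¹ ≠ 1 := by
      intro h
      apply hrs
      calc r * s = (s * r * s⁻¹ * r⁻¹)⁻¹ * (s * r) := by group
        _ = s * r := by rw [h, inv_one, one_mul]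
    have e1 : s * s = r * r := hFeq _ _ hs2 hr2 hs hr
    have e2 : s * r * s⁻¹ * r⁻¹ = r * r := hFeq _ _ hc hr2 hc1 hr
    have e3 : r ^ 4 = 1 := by
      have := hFsq _ hr2
      rw [show (4 : ℕ) = 2 + 2 from rfl, pow_add, pow_two]
      exact this
    have e4 : s * r * s⁻¹ = r⁻¹ := by
      have h5 : r * r * r * r = 1 := by
        rw [mul_assoc (r * r)]; exact hFsq _ hr2
      calc s * r * s⁻¹ = (s * r * s⁻¹ * r⁻¹) * r := by group
        _ = r * r * r := by rw [e2]
        _ = r⁻¹ := eq_inv_of_mul_eq_one_left h5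
    -- project to `E`
    let π : H →* E := (MonoidHom.fst E (Multiplicative (ZMod 2))).comp φ.toMonoidHom
    have hπ : ∀ x : H, π x = (φ x).1 := fun x => rfl
    have hsq2 : ∀ k : Multiplicative (ZMod 2), k * k = 1 := by
      intro k
      exact congrArg Multiplicative.ofAdd (zmod_two_add_self k.toAdd)
    have hπ1 : ∀ x : H, x * x ≠ 1 → π x * π x ≠ 1 := by
      intro x hx h
      apply hx
      apply φ.injective
      rw [map_one, map_mul]
      apply Prod.ext
      · exact h
      · exact hsq2 _
    have h4 : π s * π r * (π s)⁻¹ = (π r)⁻¹ := by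
      rw [← map_inv, ← map_mul, ← map_mul, e4, map_inv]
    have hgen : Subgroup.closure ({π r, π s} : Set E) = ⊤ := by
      have ho : orderOf (π r) = 2 ^ (1 + 1) := by
        apply orderOf_eq_prime_pow
        · rw [pow_one, pow_two]; exact hπ1 r hr
        · have : (2 : ℕ) ^ (1 + 1) = 4 := by norm_num
          rw [this, ← map_pow, e3, map_one]
      have hzc : Nat.card (Subgroup.zpowers (π r)) = 2 ^ 2 := by rw [Nat.card_zpowers, ho]
      apply eq_top_of_lt hEcard hzc
      refine lt_of_le_of_ne ?_ ?_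
      · rw [Subgroup.zpowers_le]; exact Subgroup.subset_closure (by simp)
      · intro h
        have hs' : π s ∈ Subgroup.zpowers (π r) := by
          rw [h]; exact Subgroup.subset_closure (by simp)
        obtain ⟨i, hi⟩ := Subgroup.mem_zpowers_iff.mp hs'
        have hcomm : π s * π r = π r * π s := by
          rw [← hi]; exact ((Commute.refl (π r)).zpow_left i).eq
        rw [hcomm, mul_inv_cancel_right] at h4
        exact hπ1 r hr (mul_eq_one_iff_eq_inv.mpr h4)
    obtain ⟨e⟩ := Cfsg.Agent.S4189.quaternion_iso (π r) (π s)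
      (by rw [← map_pow, e3, map_one]) (by rw [← map_mul, ← map_mul, e1]) h4 hgen hEcard
    exact ⟨φ.trans (MulEquiv.prodCongr e (MulEquiv.refl _))⟩

end Cfsg.Agent.Lib.Helper87.PFour5
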