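import Mathlib
import Cfsg.Prelude.Def_FusionSystem
import Cfsg.Agent.Lib.Helper87.FSBasic
import Cfsg.Agent.Lib.Helper87.FSSat
import Cfsg.Agent.Lib.Helper87.FSMisc
set_option autoImplicit false
open Cfsg
open Cfsg.Agent.Lib.Helper87.FSBasic
open Cfsg.Agent.Lib.Helper87.FSSat
open Cfsg.Agent.Lib.Helper87.FSMisc

/-! The residual `O^p` of a finite group (`pResidual`), the decomposition `A = O^p(A) R` for a Sylow
`p`-subgroup `R`, and the first properties of the hyperfocal subgroup of a fusion system. -/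

namespace Cfsg.Agent.Lib.Helper87.FSHyp

/-- An injective homomorphism maps `O^p` into `O^p`. -/
theorem map_mem_pResidual {A B : Type*} [Group A] [Group B] (p : ℕ) (f : A →* B)
    (hf : Function.Injective f) {a : A} (ha : a ∈ pResidual p A) : f a ∈ pResidual p B := by
  have h : pResidual p A ≤ (pResidual p B).comap f := by
    unfold pResidual
    rw [Subgroup.closure_le]
    intro x hx
    apply Subgroup.subset_closure
    show Nat.Coprime (orderOf (f x)) p
    rw [orderOf_injective f hf]
    exact hx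
  exact h ha

theorem pResidual_conj_mem {A : Type*} [Group A] (p : ℕ) {n : A} (hn : n ∈ pResidual p A) (g : A) :
    g * n * g⁻¹ ∈ pResidual p A :=
  map_mem_pResidual p (MulAut.conj g).toMonoidHom (MulAut.conj g).injective hn

theorem pResidual_normal {A : Type*} [Group A] (p : ℕ) : (pResidual p A).Normal :=
  ⟨fun _ hn g => pResidual_conj_mem p hn g⟩

/-- In a finite group, some `p`-power of each element lies in `O^p`. -/
theorem pow_mem_pResidual {A : Type*} [Group A] [Finite A] (p : ℕ) [hp : Fact p.Prime] (a : A) :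
    ∃ k : ℕ, a ^ p ^ k ∈ pResidual p A := by
  have ho : orderOf a ≠ 0 := (orderOf_pos a).ne'
  obtain ⟨k, m, hm, hkm⟩ := Nat.exists_eq_pow_mul_and_not_dvd ho p hp.out.ne_one
  refine ⟨k, Subgroup.subset_closure ?_⟩
  show Nat.Coprime (orderOf (a ^ p ^ k)) p
  have hpk : p ^ k ≠ 0 := pow_ne_zero k hp.out.ne_zero
  rw [orderOf_pow' a hpk, hkm, Nat.gcd_eq_right (dvd_mul_right _ _),
    Nat.mul_div_cancel_left m (Nat.pos_of_ne_zero hpk)]
  exact ((Nat.Prime.coprime_iff_not_dvd hp.out).mpr hm).symm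

/-- `A = O^p(A) R` for a Sylow `p`-subgroup `R` of the finite group `A`. -/
theorem exists_mul_pResidual_sylow {A : Type*} [Group A] [Finite A] {p : ℕ} [hp : Fact p.Prime]
    (R : Sylow p A) (a : A) : ∃ n ∈ pResidual p A, ∃ r ∈ (R : Subgroup A), a = n * r := by
  have : (pResidual p A).Normal := pResidual_normal p
  have hq : IsPGroup p (A ⧸ pResidual p A) := by
    intro q
    obtain ⟨a, rfl⟩ := QuotientGroup.mk_surjective q
    obtain ⟨k, hk⟩ := pow_mem_pResidual p a
    refine ⟨k, ?_⟩
    rw [← QuotientGroup.mk_pow]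
    exact (QuotientGroup.eq_one_iff _).mpr hk
  have htop : pResidual p A ⊔ (R : Subgroup A) = ⊤ := by
    rw [← Subgroup.index_eq_one]
    have h1 : (pResidual p A ⊔ (R : Subgroup A)).index ∣ (pResidual p A).index :=
      Subgroup.index_dvd_of_le le_sup_left
    have h2 : (pResidual p A ⊔ (R : Subgroup A)).index ∣ (R : Subgroup A).index :=
      Subgroup.index_dvd_of_le le_sup_right
    obtain ⟨j, hj⟩ := IsPGroup.iff_card.mp hq
    rw [Subgroup.index_eq_card (pResidual p A), hj] at h1
    obtain ⟨i, -, hi⟩ := (Nat.dvd_prime_pow hp.out).mp h1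
    rw [hi] at h2 ⊢
    have hi0 : i = 0 := by
      by_contra hne
      exact R.not_dvd_index ((dvd_pow_self p hne).trans h2)
    rw [hi0, pow_zero]
  have ha : a ∈ ((pResidual p A ⊔ (R : Subgroup A) : Subgroup A) : Set A) := by
    rw [htop]; trivial
  rw [Subgroup.normal_mul] at ha
  obtain ⟨n, hn, r, hr, rfl⟩ := Set.mem_mul.mp ha
  exact ⟨n, hn, r, hr, rfl⟩

variable {Ω : Type*} [Group Ω] {S : Subgroup Ω}

/-- The defining generators of the hyperfocal subgroup. -/
theorem gen_mem (F : FusionSystem S) (p : ℕ) {P : Subgroup Ω} (hP : P ≤ S) (α : F.autGroup P)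
    (hα : α ∈ pResidual p (F.autGroup P)) (x : P) :
    (x : Ω)⁻¹ * ((α : MulAut P) x : P) ∈ F.hyperfocalSubgroup p :=
  Subgroup.subset_closure ⟨P, α, x, hP, hα, rfl⟩

/-- The image of a generator of the hyperfocal subgroup under a map of the system lies in the
hyperfocal subgroup. -/
theorem map_gen_mem (F : FusionSystem S) (p : ℕ) {P : Subgroup Ω} {θ : P →* Ω}
    (hθ : θ ∈ F.Hom P) (α : F.autGroup P) (hα : α ∈ pResidual p (F.autGroup P)) (x : P) :
    (θ x)⁻¹ * θ ((α : MulAut P) x) ∈ F.hyperfocalSubgroup p := by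
  let f : F.autGroup P →* F.autGroup θ.range :=
    ((MulAut.congr (MonoidHom.ofInjective (F.injective_of_mem hθ))).toMonoidHom.comp
      (F.autGroup P).subtype).codRestrict _ (fun a => congr_mem_autGroup F hθ a.2)
  have hf : Function.Injective f := by
    intro a b hab
    have h1 : MulAut.congr (MonoidHom.ofInjective (F.injective_of_mem hθ)) (a : MulAut P) =
        MulAut.congr (MonoidHom.ofInjective (F.injective_of_mem hθ)) (b : MulAut P) :=
      congrArg Subtype.val hab
    exact Subtype.ext ((MulAut.congr (MonoidHom.ofInjective (F.injective_of_mem hθ))).injective h1)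
  have h2 := gen_mem F p (range_le F hθ) (f α) (map_mem_pResidual p f hf hα)
    (MonoidHom.ofInjective (F.injective_of_mem hθ) x)
  have e1 : ((MonoidHom.ofInjective (F.injective_of_mem hθ) x : θ.range) : Ω) = θ x :=
    MonoidHom.ofInjective_apply _
  have e2 : ((((f α : F.autGroup θ.range) : MulAut θ.range)
      (MonoidHom.ofInjective (F.injective_of_mem hθ) x) : θ.range) : Ω) =
      θ ((α : MulAut P) x) := by
    show ((MonoidHom.ofInjective (F.injective_of_mem hθ)
      ((α : MulAut P) ((MonoidHom.ofInjective (F.injective_of_mem hθ)).symm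
        (MonoidHom.ofInjective (F.injective_of_mem hθ) x))) : θ.range) : Ω) = _
    rw [MulEquiv.symm_apply_apply]
    exact MonoidHom.ofInjective_apply _
  rw [e1, e2] at h2
  exact h2

theorem hyperfocal_le (F : FusionSystem S) (p : ℕ) : F.hyperfocalSubgroup p ≤ S := by
  unfold FusionSystem.hyperfocalSubgroup
  rw [Subgroup.closure_le]
  rintro _ ⟨P, α, x, hP, -, rfl⟩
  exact S.mul_mem (S.inv_mem (hP x.2)) (hP (((α : MulAut P) x)).2)

/-- The hyperfocal subgroup is normalized by `S`. -/
theorem le_normalizer_hyperfocal (F : FusionSystem S) (p : ℕ) :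
    S ≤ Subgroup.normalizer (F.hyperfocalSubgroup p : Set Ω) := by
  apply le_normalizer_of_conj_mem
  intro s hs r hr
  have h : F.hyperfocalSubgroup p ≤
      (F.hyperfocalSubgroup p).comap (MulAut.conj s).toMonoidHom := by
    conv_lhs => unfold FusionSystem.hyperfocalSubgroup
    rw [Subgroup.closure_le]
    rintro _ ⟨P, α, x, hP, hα, rfl⟩
    show s * ((x : Ω)⁻¹ * ((α : MulAut P) x : P)) * s⁻¹ ∈ F.hyperfocalSubgroup p
    have h := map_gen_mem F p (F.conj_mem hP hs) α hα x
    have e : s * ((x : Ω)⁻¹ * ((α : MulAut P) x : P)) * s⁻¹ =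
        (conjHom P s x)⁻¹ * conjHom P s ((α : MulAut P) x) := by
      show _ = (s * (x : Ω) * s⁻¹)⁻¹ * (s * (((α : MulAut P) x : P) : Ω) * s⁻¹)
      group
    rw [e]
    exact h
  exact h hr

/-- For a fully automized `Y`: `Aut_F(Y) = O^p(Aut_F(Y)) Aut_S(Y)`. -/
theorem autGroup_decomp [Finite S] {p : ℕ} [Fact p.Prime] (F : FusionSystem S) {Y : Subgroup Ω}
    (hfa : F.IsFullyAutomized p Y) (a : MulAut Y) (ha : a ∈ F.autGroup Y) :
    ∃ n : F.autGroup Y, n ∈ pResidual p (F.autGroup Y) ∧
      ∃ r ∈ autInducedBy S Y, a = (n : MulAut Y) * r := by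
  obtain ⟨hY, R, hR⟩ := hfa
  have : Finite Y := finite_of_le hY
  obtain ⟨n, hn, r, hr, h⟩ := exists_mul_pResidual_sylow R ⟨a, ha⟩
  refine ⟨n, hn, (r : MulAut Y), ?_, congrArg Subtype.val h⟩
  have h1 : r ∈ (autInducedBy S Y).subgroupOf (F.autGroup Y) := by
    rw [← hR]; exact hr
  exact Subgroup.mem_subgroupOf.mp h1

end Cfsg.Agent.Lib.Helper87.FSHyp
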