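import Mathlib
import Cfsg.Prelude.Def_FusionSystem
import Cfsg.Prelude.Def_FusionComponents
import Cfsg.Agent.H85.Basic
import Cfsg.Agent.H85.Aut
import Cfsg.Agent.H85.InvSys
import Cfsg.Agent.Lib.Helper88.PResStmt

/-! Statements of the pieces for S5142: for `E`, `D` weakly normal in the saturated `F`, both over
the same `T`, the system `D` is closed relative to `E` (in the sense of `Helper88.PResStmt.Closed`),
so that the `p'`-residual subsystem of `E` lies in `D`. -/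

set_option autoImplicit false

namespace Cfsg.Agent.Lib.Helper87.NRStmt

open Cfsg Cfsg.FusionSystem

universe u

/-- The intersection of two fusion systems over the same subgroup. -/
def infSys {Ω : Type*} [Group Ω] {T : Subgroup Ω} (E D : FusionSystem T) : FusionSystem T where
  Hom P := {φ | φ ∈ E.Hom P ∧ φ ∈ D.Hom P}
  le_of_mem h := E.le_of_mem h.1
  injective_of_mem h := E.injective_of_mem h.1
  conj_mem := fun hP hg => ⟨E.conj_mem hP hg, D.conj_mem hP hg⟩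
  comp_mem := fun hφ hψ h => ⟨E.comp_mem hφ.1 hψ.1 h, D.comp_mem hφ.2 hψ.2 h⟩
  inv_mem := by
    intro P φ hφ
    obtain ⟨ψ, hψ, hψx⟩ := E.inv_mem hφ.1
    refine ⟨ψ, ⟨hψ, ?_⟩, hψx⟩
    obtain ⟨ψ', hψ', hψ'x⟩ := D.inv_mem hφ.2
    have e : ψ = ψ' := by
      ext ⟨_, x, rfl⟩
      rw [hψx, hψ'x]
    rw [e]; exact hψ'

theorem mem_infSys_iff {Ω : Type*} [Group Ω] {T : Subgroup Ω} (E D : FusionSystem T)
    {P : Subgroup Ω} (φ : P →* Ω) : φ ∈ (infSys E D).Hom P ↔ φ ∈ E.Hom P ∧ φ ∈ D.Hom P :=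
  Iff.rfl

/-- PP: for `E`, `D` weakly normal in `F` over the same `T`, the elements of `p`-power order of
`Aut_E(Q)` lie in `Aut_D(Q)`, for every `Q ≤ T`. -/
def PPIn : Prop :=
  ∀ {Ω : Type u} [Group Ω] {S : Subgroup Ω} [Finite S] (p : ℕ) [Fact p.Prime] (_ : IsPGroup p S)
    (F : FusionSystem S) (_ : F.IsSaturated p) {T : Subgroup Ω} (E D : FusionSystem T)
    (_ : E.IsWeaklyNormalIn F p) (_ : D.IsWeaklyNormalIn F p) (Q : Subgroup Ω) (_ : Q ≤ T),
    (Subgroup.closure {α : ↥(E.autGroup Q) | ∃ k : ℕ, orderOf α = p ^ k}).map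
      (E.autGroup Q).subtype ≤ D.autGroup Q

/-- CEN: for `E`, `D` weakly normal in `F` over the same `T`, an `E`-centric subgroup is
`D`-centric. -/
def CentricTransfer : Prop :=
  ∀ {Ω : Type u} [Group Ω] {S : Subgroup Ω} [Finite S] (p : ℕ) [Fact p.Prime] (_ : IsPGroup p S)
    (F : FusionSystem S) (_ : F.IsSaturated p) {T : Subgroup Ω} (E D : FusionSystem T)
    (_ : E.IsWeaklyNormalIn F p) (_ : D.IsWeaklyNormalIn F p) (P : Subgroup Ω),
    E.IsCentric P → D.IsCentric P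

/-- IDX: for `E`, `D` weakly normal in `F` over the same `T`, every element of
`Aut_E(T) Aut_D(T)` has a power of exponent prime to `p` in `Aut_E(T) ∩ Aut_D(T)`. -/
def IndexCoprime : Prop :=
  ∀ {Ω : Type u} [Group Ω] {S : Subgroup Ω} [Finite S] (p : ℕ) [Fact p.Prime] (_ : IsPGroup p S)
    (F : FusionSystem S) (_ : F.IsSaturated p) {T : Subgroup Ω} (E D : FusionSystem T)
    (_ : E.IsWeaklyNormalIn F p) (_ : D.IsWeaklyNormalIn F p),
    ∀ γ ∈ E.autGroup T ⊔ D.autGroup T, ∃ m : ℕ, Nat.Coprime m p ∧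
      γ ^ m ∈ E.autGroup T ⊓ D.autGroup T

/-- PELT: let `I` be a fusion system over `T` invariant under a group `Γ` of automorphisms of `T`
each of whose elements has a power of exponent prime to `p` in `Aut_I(T)`. If `γ ∈ Γ`, `ρ` is a
map of `I` with source `N` and `ρ = γ ∘ μ` for an automorphism `μ` of `N` of `p`-power order, then
`μ ∈ Aut_I(N)`. -/
def PElt : Prop :=
  ∀ {Ω : Type u} [Group Ω] {T : Subgroup Ω} [Finite T] (p : ℕ) [Fact p.Prime]
    (I : FusionSystem T) (Γ : Subgroup (MulAut T))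
    (_ : ∀ γ ∈ Γ, ∀ (P : Subgroup Ω) (hPT : P ≤ T) (φ : P →* Ω), φ ∈ I.Hom P →
      H85.ConjMem I γ hPT φ)
    (_ : ∀ γ ∈ Γ, ∃ m : ℕ, Nat.Coprime m p ∧ γ ^ m ∈ I.autGroup T)
    (N : Subgroup Ω) (hN : N ≤ T) (γ : MulAut T) (_ : γ ∈ Γ) (ρ : N →* Ω) (_ : ρ ∈ I.Hom N)
    (μ : MulAut N) (_ : ∀ x : N, ρ x = ((γ ⟨((μ x : N) : Ω), hN (μ x).2⟩ : T) : Ω))
    (k : ℕ) (_ : orderOf μ = p ^ k), μ ∈ I.autGroup N

/-- EXT: let `D` be saturated over the finite `p`-group `T`, `I` a subsystem of `D`, `Γ` a group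
of automorphisms of `T` containing `Aut_D(T)`, such that every map of `D` is an element of
`Aut_D(T)` composed with a map of `I` (Frattini), and such that the conclusion of `PElt` holds for
`I` and `Γ`. If `γ ∈ Γ` restricts to a map of `I` on some `D`-centric `P`, then `γ ∈ Aut_D(T)`. -/
def ExtUp : Prop :=
  ∀ {Ω : Type u} [Group Ω] {T : Subgroup Ω} [Finite T] (p : ℕ) [Fact p.Prime] (_ : IsPGroup p T)
    (D : FusionSystem T) (_ : D.IsSaturated p) (I : FusionSystem T) (_ : I.IsSubsystemOf D)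
    (Γ : Subgroup (MulAut T)) (_ : D.autGroup T ≤ Γ)
    (_ : ∀ (P : Subgroup Ω) (φ : P →* Ω), φ ∈ D.Hom P → ∃ β ∈ D.autGroup T, ∃ φ₀ ∈ I.Hom P,
        ∀ (x : P) (hx : φ₀ x ∈ T), φ x = ((β ⟨φ₀ x, hx⟩ : T) : Ω))
    (_ : ∀ (N : Subgroup Ω) (hN : N ≤ T) (γ : MulAut T), γ ∈ Γ → ∀ (ρ : N →* Ω), ρ ∈ I.Hom N →
        ∀ (μ : MulAut N), (∀ x : N, ρ x = ((γ ⟨((μ x : N) : Ω), hN (μ x).2⟩ : T) : Ω)) →
        ∀ k : ℕ, orderOf μ = p ^ k → μ ∈ I.autGroup N)
    (γ : MulAut T) (_ : γ ∈ Γ) (P : Subgroup Ω) (hP : D.IsCentric P),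
    Helper88.PResStmt.resAut γ P hP.1 ∈ I.Hom P → γ ∈ D.autGroup T

end Cfsg.Agent.Lib.Helper87.NRStmt
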