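import Mathlib
import Cfsg.Prelude.Def_FusionSystem
import Cfsg.Prelude.Def_FusionComponents
import Cfsg.Agent.H85.Basic
import Cfsg.Agent.H85.Aut
import Cfsg.Agent.H85.Sat
import Cfsg.Agent.H85.InvSys
import Cfsg.Agent.H85.Invariant
import Cfsg.Agent.H85.Invariant2
import Cfsg.Agent.H85.PrimeIdx
import Cfsg.Agent.Lib.Helper88.PResStmt
import Cfsg.Agent.Lib.Helper88.WNStmt
import Cfsg.Agent.Lib.Helper89.NRPP
import Cfsg.Agent.Lib.Helper23.NRIDX

/-! Piece INV of S5141: `resSys p E` is invariant under `Aut_F(T)`. -/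

set_option autoImplicit false

namespace Cfsg.Agent.Lib.Helper87.WNINV

open Cfsg Cfsg.FusionSystem Cfsg.Agent.Lib.Helper88.PResStmt Cfsg.Agent.Lib.Helper88.WNStmt

universe u

/-- For `E` invariant in `F`, the image of an `E`-centric subgroup under a map of `F` contains its
centralizer in `T`. -/
theorem fcen {Ω : Type*} [Group Ω] {S T : Subgroup Ω} (F : FusionSystem S) (E : FusionSystem T)
    (hinv : E.IsInvariantIn F) {P : Subgroup Ω} (hP : E.IsCentric P) {ψ : P →* Ω}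
    (hψF : ψ ∈ F.Hom P) : centralizerIn T ψ.range ≤ ψ.range := by
  obtain ⟨hPT, hcen⟩ := hP
  obtain ⟨α, hα, φ₀, hφ₀, hfac⟩ := hinv.2.2.2 P hPT ψ hψF
  have hφ₀T : ∀ x : P, φ₀ x ∈ T := (E.le_of_mem hφ₀).2
  have hc0 := hcen φ₀.range ⟨φ₀, hφ₀, rfl⟩
  intro c hc
  obtain ⟨hcT, hcc⟩ := hc
  have hcT : c ∈ T := hcT
  have hcc : c ∈ Subgroup.centralizer (ψ.range : Set Ω) := hcc
  have hαc : α (α.symm ⟨c, hcT⟩) = ⟨c, hcT⟩ := α.apply_symm_apply _
  have hc₀mem : ((α.symm ⟨c, hcT⟩ : T) : Ω) ∈ centralizerIn T φ₀.range := by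
    refine ⟨(α.symm ⟨c, hcT⟩ : T).2, ?_⟩
    show ((α.symm ⟨c, hcT⟩ : T) : Ω) ∈ Subgroup.centralizer (φ₀.range : Set Ω)
    rw [Subgroup.mem_centralizer_iff]
    rintro _ ⟨x, rfl⟩
    have h1 : ψ x * c = c * ψ x := (Subgroup.mem_centralizer_iff.1 hcc) (ψ x) ⟨x, rfl⟩
    rw [hfac x (hφ₀T x)] at h1
    have h2 : α (⟨φ₀ x, hφ₀T x⟩ * α.symm ⟨c, hcT⟩) = α (α.symm ⟨c, hcT⟩ * ⟨φ₀ x, hφ₀T x⟩) := by
      rw [map_mul, map_mul, hαc]
      exact Subtype.ext h1
    have h3 := α.injective h2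
    exact congrArg Subtype.val h3
  obtain ⟨x, hx⟩ := hc0 hc₀mem
  refine ⟨x, ?_⟩
  rw [hfac x (hφ₀T x)]
  have e : (⟨φ₀ x, hφ₀T x⟩ : T) = α.symm ⟨c, hcT⟩ := Subtype.ext hx
  rw [e, hαc]

/-- The image of an `E`-centric subgroup under an element of `Aut_F(T)` is `E`-centric. -/
theorem isCentric_autImage {Ω : Type*} [Group Ω] {S T : Subgroup Ω} (F : FusionSystem S)
    (E : FusionSystem T) (hinv : E.IsInvariantIn F) {P : Subgroup Ω} (hP : E.IsCentric P)
    {α : MulAut T} (hα : α ∈ F.autGroup T) : E.IsCentric (H85.autImage α P) := by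
  refine ⟨H85.autImage_le α P, ?_⟩
  rintro Q ⟨ψ, hψ, rfl⟩
  have hTS := hinv.2.1.1
  have he := H85.isIso_autRes F hTS hα hP.1
  have hψF := hinv.1 _ hψ
  have hcomp : ψ.comp (H85.autRes α hP.1).toMonoidHom ∈ F.Hom P :=
    H85.comp_mem' F he hψF (fun x => (H85.autRes α hP.1 x).2) (fun x => rfl)
  have h := fcen F E hinv hP hcomp
  have hr : (ψ.comp (H85.autRes α hP.1).toMonoidHom).range = ψ.range := by
    ext y
    constructor
    · rintro ⟨x, rfl⟩
      exact ⟨_, rfl⟩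
    · rintro ⟨z, rfl⟩
      obtain ⟨x, rfl⟩ := (H85.autRes α hP.1).surjective z
      exact ⟨x, rfl⟩
  rw [hr] at h
  exact h

theorem main : ResInvariant.{u} := by
  intro Ω _ S _ p _ hS F hF T E hE
  have hinv := hE.2.2
  have hTS : T ≤ S := hinv.2.1.1
  have hfinT : Finite T := H85.finite_of_le hTS
  have hSI : H85.StrongInv E F :=
    (H85.invariant_iff_strongInv p hS F hF E hinv.1 hinv.2.1).mp hinv
  have hcl := closed_resSys p E
  obtain ⟨R, hRdef⟩ : ∃ R : FusionSystem T, R = resSys p E := ⟨_, rfl⟩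
  rw [← hRdef] at hcl ⊢
  obtain ⟨A, hAdef⟩ : ∃ A : Subgroup (MulAut T), A = F.autGroup T := ⟨_, rfl⟩
  have hX : Closed p E (H85.invSys R A) := by
    refine ⟨fun P hP => ?_, fun α₀ hα₀ P hP hres => ?_⟩
    · rintro _ ⟨β, hβ, rfl⟩
      refine H85.aut_mem_invSys R A hP.1 _ (hcl.1 P hP ⟨β, hβ, rfl⟩) (fun α hα => ?_)
      rw [hAdef] at hα
      have he := H85.isIso_autRes F hTS hα hP.1
      have hmem : ∀ a : E.autGroup P, MulAut.congr (H85.autRes α hP.1) (a : MulAut P) ∈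
          E.autGroup (H85.autImage α P) :=
        fun a => Helper89.NRPP.transport E F hSI hP.1 (H85.autImage_le α P) _ he a a.2
      obtain ⟨f, hf⟩ : ∃ f : ↥(E.autGroup P) →* ↥(E.autGroup (H85.autImage α P)),
          ∀ a, ((f a : ↥(E.autGroup (H85.autImage α P))) : MulAut ↥(H85.autImage α P)) =
            MulAut.congr (H85.autRes α hP.1) (a : MulAut P) :=
        ⟨((MulAut.congr (H85.autRes α hP.1)).toMonoidHom.comp (E.autGroup P).subtype).codRestrict
          _ hmem, fun a => rfl⟩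
      have hfinj : Function.Injective f := by
        intro a b hab
        have h1 : MulAut.congr (H85.autRes α hP.1) (a : MulAut P) =
            MulAut.congr (H85.autRes α hP.1) (b : MulAut P) := by
          rw [← hf a, ← hf b, hab]
        exact Subtype.ext ((MulAut.congr _).injective h1)
      have h1 := H85.ppGen_map_of_injective f hfinj hβ
      have h2 := hcl.1 (H85.autImage α P) (isCentric_autImage F E hinv hP hα) ⟨_, h1, rfl⟩
      have h3 : MulAut.congr (H85.autRes α hP.1) ((E.autGroup P).subtype β) =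
          (E.autGroup (H85.autImage α P)).subtype (f β) := (hf β).symm
      rw [h3]
      exact h2
    · have hα₀R : α₀ ∈ R.autGroup T := hcl.2 α₀ hα₀ P hP hres.1
      refine H85.aut_mem_invSys R A le_rfl α₀ hα₀R (fun α hα => ?_)
      have hαF : α ∈ F.autGroup T := by rw [← hAdef]; exact hα
      have hα₁E : α * α₀ * α⁻¹ ∈ E.autGroup T :=
        Helper23.NRIDX.conj_mem_autGroup F E hinv α hαF α₀ hα₀
      obtain ⟨χ, hχ, hχx⟩ := hres.2 hP.1 α hα
      have hcen := isCentric_autImage F E hinv hP hαF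
      have hres₁ : resAut (α * α₀ * α⁻¹) (H85.autImage α P) hcen.1 ∈
          R.Hom (H85.autImage α P) := by
        refine H85.hom_congr R hχ (fun y => ?_)
        obtain ⟨x, rfl⟩ := (H85.autRes α hP.1).surjective y
        rw [hχx x (α₀ ⟨x, hP.1 x.2⟩).2, resAut_apply]
        show (((α * α₀ * α⁻¹) ⟨((α ⟨x, hP.1 x.2⟩ : T) : Ω), _⟩ : T) : Ω) = _
        show ((α (α₀ (α⁻¹ (α ⟨x, hP.1 x.2⟩))) : T) : Ω) = _
        rw [MulAut.inv_apply_self]
        rfl
      have hα₁R : α * α₀ * α⁻¹ ∈ R.autGroup T := hcl.2 _ hα₁E _ hcen hres₁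
      rw [H85.mem_autGroup_iff R (H85.autImage_le α T)]
      have h2 := H85.restrict_mem R ((H85.mem_autGroup_iff R le_rfl _).mp hα₁R)
        (H85.autImage_le α T)
      refine H85.hom_congr R h2 (fun y => ?_)
      obtain ⟨x, rfl⟩ := (H85.autRes α (le_refl T)).surjective y
      show (((H85.autRes α (le_refl T)) (α₀ ((H85.autRes α (le_refl T)).symm
        (H85.autRes α (le_refl T) x))) : H85.autImage α T) : Ω) = _
      rw [MulEquiv.symm_apply_apply, H85.coe_autRes]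
      show _ = ((α (α₀ (α⁻¹ (α x))) : T) : Ω)
      rw [MulAut.inv_apply_self]
  have hle : R.IsSubsystemOf (H85.invSys R A) := by
    rw [hRdef]
    rw [hRdef] at hX
    exact resSys_min p E hX
  rw [hAdef] at hle
  exact H85.invCond_of_le_invSys R F hle

end Cfsg.Agent.Lib.Helper87.WNINV
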