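import Mathlib
import Cfsg.Prelude.Def_FusionSystem
import Cfsg.Prelude.Def_FusionComponents
import Cfsg.Agent.H85.Basic
import Cfsg.Agent.H85.Aut
import Cfsg.Agent.H85.Sat
import Cfsg.Agent.H85.FullyNorm
import Cfsg.Agent.Lib.Helper88.PResStmt
import Cfsg.Agent.Lib.Helper88.WNStmt

/-! Piece TE of S5141: a map of `F` from `P C` to itself that is the identity on the `E`-centric
subgroup `P` extends to `N_T(P) C`. -/

set_option autoImplicit false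

namespace Cfsg.Agent.Lib.Helper87.WNTE

open Cfsg Cfsg.FusionSystem Cfsg.Agent.Lib.Helper88.PResStmt Cfsg.Agent.Lib.Helper88.WNStmt

universe u

theorem main (hXC : ExtCond.{u}) (hFC : FCentric.{u}) : ThetaExt.{u} := by
  intro Ω _ S _ p _ hS F hF T E hE P hP θ hθ hθP hθR
  have hinv := hE.2.2
  have hTcl : F.StronglyClosed T := hinv.2.1
  have hTS : T ≤ S := hTcl.1
  have hPT : P ≤ T := hP.1
  have hCS : centralizerIn S T ≤ S := inf_le_left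
  have hRS : P ⊔ centralizerIn S T ≤ S := sup_le (hPT.trans hTS) hCS
  have hNT : normalizerIn T P ≤ T := inf_le_left
  have hPN : P ≤ normalizerIn T P := fun x hx => ⟨hPT hx, Subgroup.le_normalizer hx⟩
  have hRN' : P ⊔ centralizerIn S T ≤ normalizerIn T P ⊔ centralizerIn S T :=
    sup_le_sup_right hPN _
  have hN'S : normalizerIn T P ⊔ centralizerIn S T ≤ S := sup_le (hNT.trans hTS) hCS
  have hfinR : Finite ↥(P ⊔ centralizerIn S T) := H85.finite_of_le hRS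
  -- elements of `T` commute with elements of `C`
  have hcomm : ∀ t ∈ T, ∀ c ∈ centralizerIn S T, t * c = c * t := fun t ht c hc =>
    (Subgroup.mem_centralizer_iff.mp hc.2) t ht
  -- conjugation by `g ∈ N` preserves `R`
  have hconjR : ∀ g ∈ normalizerIn T P, ∀ y ∈ P ⊔ centralizerIn S T,
      g * y * g⁻¹ ∈ P ⊔ centralizerIn S T := by
    intro g hg
    have h : P ⊔ centralizerIn S T ≤
        (P ⊔ centralizerIn S T).comap (MulAut.conj g).toMonoidHom := by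
      refine sup_le ?_ ?_
      · intro x hx
        exact Subgroup.mem_sup_left ((Subgroup.mem_normalizer_iff.mp hg.2 x).mp hx)
      · intro c hc
        have e : g * c * g⁻¹ = c := by rw [hcomm g hg.1 c hc, mul_inv_cancel_right]
        show g * c * g⁻¹ ∈ P ⊔ centralizerIn S T
        rw [e]
        exact Subgroup.mem_sup_right hc
    exact fun y hy => h hy
  have hNnormR : ∀ g ∈ normalizerIn T P,
      g ∈ Subgroup.normalizer ((P ⊔ centralizerIn S T : Subgroup Ω) : Set Ω) := by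
    intro g hg
    refine H85.mem_normalizer_of_forall (hconjR g hg) (fun t ht => ?_)
    have hg' : g⁻¹ ∈ normalizerIn T P := Subgroup.inv_mem _ hg
    have := hconjR g⁻¹ hg' t ht
    rwa [inv_inv] at this
  have hN'norm : normalizerIn T P ⊔ centralizerIn S T ≤
      normalizerIn S (P ⊔ centralizerIn S T) := by
    refine sup_le ?_ ?_
    · intro g hg
      exact ⟨hTS hg.1, hNnormR g hg⟩
    · intro c hc
      exact ⟨hc.1, Subgroup.le_normalizer (Subgroup.mem_sup_right hc)⟩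
  have hRnorm : P ⊔ centralizerIn S T ≤ normalizerIn S (P ⊔ centralizerIn S T) :=
    hRN'.trans hN'norm
  -- θ is a bijection of `R`
  have hθinj : Function.Injective (θ.codRestrict (P ⊔ centralizerIn S T) hθR) := by
    intro a b hab
    exact F.injective_of_mem hθ (congrArg Subtype.val hab)
  have hθsurj : ∀ y : ↥(P ⊔ centralizerIn S T), ∃ y' : ↥(P ⊔ centralizerIn S T),
      θ y' = (y : Ω) := by
    intro y
    obtain ⟨y', hy'⟩ := Finite.surjective_of_injective hθinj y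
    exact ⟨y', congrArg Subtype.val hy'⟩
  -- saturation
  obtain ⟨R', hconj, hfa, hrec⟩ := hF (P ⊔ centralizerIn S T) hRS
  obtain ⟨e, he⟩ := H85.exists_isIso_of_isConj F hconj
  obtain ⟨χ, ψ, hχ, hψ, hψe⟩ := H85.exists_normalizer_extension hS F he hfa hrec
  have hψR : ψ.comp (Subgroup.inclusion hRnorm) ∈ F.Hom (P ⊔ centralizerIn S T) :=
    H85.restrict_mem F hψ hRnorm
  have hψRrange : (ψ.comp (Subgroup.inclusion hRnorm)).range = R' := by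
    ext y'
    constructor
    · rintro ⟨y, rfl⟩
      show ψ ⟨y, hRnorm y.2⟩ ∈ R'
      rw [hψe y (hRnorm y.2)]
      exact (χ (e y)).2
    · intro hy'
      refine ⟨e.symm (χ⁻¹ ⟨y', hy'⟩), ?_⟩
      show ψ ⟨(e.symm (χ⁻¹ ⟨y', hy'⟩) : ↥(P ⊔ centralizerIn S T)), hRnorm (e.symm _).2⟩ = y'
      rw [hψe _ (hRnorm (e.symm (χ⁻¹ ⟨y', hy'⟩)).2), MulEquiv.apply_symm_apply,
        MulAut.apply_inv_self]
  -- φ = ψ ∘ θ
  have hφ : (ψ.comp (Subgroup.inclusion hRnorm)).comp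
      (θ.codRestrict (P ⊔ centralizerIn S T) hθR) ∈ F.Hom (P ⊔ centralizerIn S T) :=
    F.comp_mem hθ hψR hθR
  obtain ⟨φ, hφdef⟩ : ∃ φ : ↥(P ⊔ centralizerIn S T) →* Ω, φ =
      (ψ.comp (Subgroup.inclusion hRnorm)).comp (θ.codRestrict (P ⊔ centralizerIn S T) hθR) :=
    ⟨_, rfl⟩
  rw [← hφdef] at hφ
  have hφx : ∀ y : ↥(P ⊔ centralizerIn S T),
      φ y = (ψ.comp (Subgroup.inclusion hRnorm)) ⟨θ y, hθR y⟩ := fun y => by rw [hφdef]; rfl
  have hφrange : φ.range = R' := by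
    rw [← hψRrange]
    ext y'
    constructor
    · rintro ⟨y, rfl⟩
      exact ⟨⟨θ y, hθR y⟩, (hφx y).symm⟩
    · rintro ⟨z, rfl⟩
      obtain ⟨z', hz'⟩ := hθsurj z
      refine ⟨z', ?_⟩
      rw [hφx z']
      congr 1
      exact Subtype.ext hz'
  obtain ⟨φ₁, hφ₁, hφ₁x⟩ := hrec.2 (P ⊔ centralizerIn S T) φ hφ hφrange
  -- N' ≤ extender
  have hN'ext : normalizerIn T P ⊔ centralizerIn S T ≤
      extender S (P ⊔ centralizerIn S T) φ := by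
    refine sup_le ?_ ?_
    · intro g hg
      have hgNR : g ∈ normalizerIn S (P ⊔ centralizerIn S T) :=
        hN'norm (Subgroup.mem_sup_left hg)
      have hg'S : ψ ⟨g, hgNR⟩ ∈ S := (F.le_of_mem hψ).2 _
      obtain ⟨h, hhS, hh⟩ := hXC p hS F hF E hE P hP θ hθ hθP hθR R' hfa
        (ψ.comp (Subgroup.inclusion hRnorm)) hψR hψRrange g hg (ψ ⟨g, hgNR⟩) hg'S (by
          intro y hy
          show ψ ⟨g * (y : Ω) * g⁻¹, hRnorm hy⟩ = ψ ⟨g, hgNR⟩ * ψ ⟨y, hRnorm y.2⟩ * (ψ ⟨g, hgNR⟩)⁻¹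
          have e1 : (⟨g * (y : Ω) * g⁻¹, hRnorm hy⟩ : ↥(normalizerIn S (P ⊔ centralizerIn S T))) =
              ⟨g, hgNR⟩ * ⟨y, hRnorm y.2⟩ * ⟨g, hgNR⟩⁻¹ := Subtype.ext rfl
          rw [e1, map_mul, map_mul, map_inv])
      refine Subgroup.subset_closure ⟨hTS hg.1, hNnormR g hg, h, hhS, fun x hx => ?_⟩
      rw [hφx, hφx]
      exact hh x hx
    · exact le_sup_right.trans (H85.le_extender S _ φ hRS (fun x => (F.le_of_mem hφ).2 x))
  have hφ₁' : φ₁.comp (Subgroup.inclusion hN'ext) ∈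
      F.Hom (normalizerIn T P ⊔ centralizerIn S T) := H85.restrict_mem F hφ₁ hN'ext
  have hψN' : ψ.comp (Subgroup.inclusion hN'norm) ∈
      F.Hom (normalizerIn T P ⊔ centralizerIn S T) := H85.restrict_mem F hψ hN'norm
  obtain ⟨φ₁', hφ₁'def⟩ : ∃ φ₁' : ↥(normalizerIn T P ⊔ centralizerIn S T) →* Ω,
      φ₁' = φ₁.comp (Subgroup.inclusion hN'ext) := ⟨_, rfl⟩
  obtain ⟨ψN', hψN'def⟩ : ∃ ψN' : ↥(normalizerIn T P ⊔ centralizerIn S T) →* Ω,
      ψN' = ψ.comp (Subgroup.inclusion hN'norm) := ⟨_, rfl⟩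
  rw [← hφ₁'def] at hφ₁'
  rw [← hψN'def] at hψN'
  have hψN'x : ∀ y : ↥(normalizerIn T P ⊔ centralizerIn S T),
      ψN' y = ψ ⟨y, hN'norm y.2⟩ := fun y => by rw [hψN'def]; rfl
  -- φ₁' on elements of R
  have hφ₁'R : ∀ (y : ↥(P ⊔ centralizerIn S T)),
      φ₁' ⟨y, hRN' y.2⟩ = ψN' ⟨θ y, hRN' (hθR y)⟩ := by
    intro y
    have h1 : φ₁' ⟨y, hRN' y.2⟩ = φ₁ ⟨y, hN'ext (hRN' y.2)⟩ := by rw [hφ₁'def]; rfl
    rw [h1, hφ₁x y y.2 (hN'ext (hRN' y.2)), hφx, hψN'x]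
    rfl
  -- φ₁' on elements of P
  have hφ₁'P : ∀ (x : Ω) (hx : x ∈ P),
      φ₁' ⟨x, hRN' (Subgroup.mem_sup_left hx)⟩ = ψN' ⟨x, hRN' (Subgroup.mem_sup_left hx)⟩ := by
    intro x hx
    have h1 := hφ₁'R ⟨x, Subgroup.mem_sup_left hx⟩
    have h2 : θ ⟨x, Subgroup.mem_sup_left hx⟩ = x := hθP ⟨x, hx⟩
    rw [h1]
    congr 1
    exact Subtype.ext h2
  -- the key range statement
  have hψP : ψN'.comp (Subgroup.inclusion (hPN.trans le_sup_left)) ∈ F.Hom P :=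
    H85.restrict_mem F hψN' (hPN.trans le_sup_left)
  have hcenP := hFC F E hinv P hP _ hψP
  have hmemN : ∀ g ∈ normalizerIn T P, ∀ hg' : g ∈ normalizerIn T P ⊔ centralizerIn S T,
      φ₁' ⟨g, hg'⟩ ∈ ψN'.range := by
    intro g hg hg'
    have hψNT : ψN' ⟨g, hg'⟩ ∈ T :=
      hTcl.2 _ hNT _ (H85.restrict_mem F hψN' (le_sup_left : normalizerIn T P ≤ _)) ⟨g, hg⟩
    have hφNT : φ₁' ⟨g, hg'⟩ ∈ T :=
      hTcl.2 _ hNT _ (H85.restrict_mem F hφ₁' (le_sup_left : normalizerIn T P ≤ _)) ⟨g, hg⟩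
    have hd : (ψN' ⟨g, hg'⟩)⁻¹ * φ₁' ⟨g, hg'⟩ ∈
        centralizerIn T (ψN'.comp (Subgroup.inclusion (hPN.trans le_sup_left))).range := by
      refine ⟨T.mul_mem (T.inv_mem hψNT) hφNT, Subgroup.mem_centralizer_iff.mpr ?_⟩
      rintro _ ⟨x, rfl⟩
      have hw : g * (x : Ω) * g⁻¹ ∈ P := (Subgroup.mem_normalizer_iff.mp hg.2 x).mp x.2
      have e1 : (⟨g * (x : Ω) * g⁻¹, hRN' (Subgroup.mem_sup_left hw)⟩ :
          ↥(normalizerIn T P ⊔ centralizerIn S T)) =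
          ⟨g, hg'⟩ * ⟨x, hRN' (Subgroup.mem_sup_left x.2)⟩ * ⟨g, hg'⟩⁻¹ := Subtype.ext rfl
      have h1 := hφ₁'P _ hw
      rw [e1, map_mul, map_mul, map_inv, map_mul, map_mul, map_inv, hφ₁'P x x.2] at h1
      show ψN' ⟨x, hRN' (Subgroup.mem_sup_left x.2)⟩ * ((ψN' ⟨g, hg'⟩)⁻¹ * φ₁' ⟨g, hg'⟩) =
        (ψN' ⟨g, hg'⟩)⁻¹ * φ₁' ⟨g, hg'⟩ * ψN' ⟨x, hRN' (Subgroup.mem_sup_left x.2)⟩
      generalize ψN' ⟨x, hRN' (Subgroup.mem_sup_left x.2)⟩ = u at h1 ⊢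
      generalize ψN' ⟨g, hg'⟩ = a at h1 ⊢
      generalize φ₁' ⟨g, hg'⟩ = b at h1 ⊢
      have h2 : u * (a⁻¹ * b) = a⁻¹ * (a * u * a⁻¹) * b := by group
      rw [h2, ← h1]
      group
    obtain ⟨x₀, hx₀⟩ := hcenP hd
    refine ⟨⟨g, hg'⟩ * ⟨x₀, hRN' (Subgroup.mem_sup_left x₀.2)⟩, ?_⟩
    rw [map_mul]
    have h3 : ψN' ⟨x₀, hRN' (Subgroup.mem_sup_left x₀.2)⟩ =
        (ψN' ⟨g, hg'⟩)⁻¹ * φ₁' ⟨g, hg'⟩ := hx₀
    rw [h3]
    group
  have hmemC : ∀ c ∈ centralizerIn S T, ∀ hc' : c ∈ normalizerIn T P ⊔ centralizerIn S T,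
      φ₁' ⟨c, hc'⟩ ∈ ψN'.range := by
    intro c hc hc'
    exact ⟨_, (hφ₁'R ⟨c, Subgroup.mem_sup_right hc⟩).symm⟩
  have hkey : ∀ y : ↥(normalizerIn T P ⊔ centralizerIn S T), φ₁' y ∈ ψN'.range := by
    have hle : normalizerIn T P ⊔ centralizerIn S T ≤
        ((ψN'.range).comap φ₁').map (normalizerIn T P ⊔ centralizerIn S T).subtype := by
      refine sup_le ?_ ?_
      · intro g hg
        exact ⟨⟨g, Subgroup.mem_sup_left hg⟩, hmemN g hg _, rfl⟩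
      · intro c hc
        exact ⟨⟨c, Subgroup.mem_sup_right hc⟩, hmemC c hc _, rfl⟩
    intro y
    obtain ⟨z, hz, hzy⟩ := hle y.2
    have : z = y := Subtype.ext hzy
    rw [← this]
    exact hz
  obtain ⟨ι, hι, hιx⟩ := F.inv_mem hψN'
  refine ⟨ι.comp (φ₁'.codRestrict ψN'.range hkey), F.comp_mem hφ₁' hι hkey, ?_, ?_⟩
  · intro y hy
    show ι ⟨φ₁' ⟨y, hy⟩, hkey _⟩ = θ y
    have e1 : (⟨φ₁' ⟨y, hy⟩, hkey _⟩ : ψN'.range) =
        ⟨ψN' ⟨θ y, hRN' (hθR y)⟩, ⟨_, rfl⟩⟩ := Subtype.ext (hφ₁'R y)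
    rw [e1, hιx]
  · intro y
    obtain ⟨x, hx⟩ := hkey y
    show ι ⟨φ₁' y, hkey y⟩ ∈ _
    have e1 : (⟨φ₁' y, hkey y⟩ : ψN'.range) = ⟨ψN' x, ⟨x, rfl⟩⟩ := Subtype.ext hx.symm
    rw [e1, hιx]
    exact x.2

end Cfsg.Agent.Lib.Helper87.WNTE
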