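import Mathlib
import Cfsg.Prelude.Def_FusionSystem
import Cfsg.Agent.Lib.Helper87.FSBasic
import Cfsg.Agent.Lib.Helper87.FSHyp
set_option autoImplicit false
open Cfsg
open Cfsg.Agent.Lib.Helper87.FSBasic
open Cfsg.Agent.Lib.Helper87.FSHyp

/-! Induction principles for the hyperfocal subgroup: it is enough to treat the automorphisms of
order prime to `p`. -/

namespace Cfsg.Agent.Lib.Helper87.FSHyp2

variable {Ω : Type*} [Group Ω] {S : Subgroup Ω}

/-- If `x⁻¹ g(x) ∈ M` for all `F`-automorphisms `g` of `P` of order prime to `p`, the same holds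
for all elements of `O^p(Aut_F(P))`. -/
theorem resid_induction (F : FusionSystem S) (p : ℕ) {P : Subgroup Ω} (M : Subgroup Ω)
    (h : ∀ g : F.autGroup P, Nat.Coprime (orderOf g) p →
      ∀ x : P, (x : Ω)⁻¹ * ((g : MulAut P) x : P) ∈ M)
    (a : F.autGroup P) (ha : a ∈ pResidual p (F.autGroup P)) :
    ∀ x : P, (x : Ω)⁻¹ * ((a : MulAut P) x : P) ∈ M := by
  unfold pResidual at ha
  induction ha using Subgroup.closure_induction with
  | mem g hg => exact h g hg
  | one =>
    intro x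
    have e : (x : Ω)⁻¹ * ((((1 : F.autGroup P) : MulAut P) x : P) : Ω) = 1 := by
      show (x : Ω)⁻¹ * (x : Ω) = 1
      group
    rw [e]
    exact M.one_mem
  | mul a b _ _ iha ihb =>
    intro x
    have h1 := ihb x
    have h2 := iha ((b : MulAut P) x)
    have h3 := M.mul_mem h1 h2
    have e : (x : Ω)⁻¹ * (((b : MulAut P) x : P) : Ω) *
        ((((b : MulAut P) x : P) : Ω)⁻¹ * (((a : MulAut P) ((b : MulAut P) x) : P) : Ω)) =
        (x : Ω)⁻¹ * (((a : MulAut P) ((b : MulAut P) x) : P) : Ω) := by group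
    rw [e] at h3
    exact h3
  | inv a _ iha =>
    intro x
    have h1 := iha ((a : MulAut P)⁻¹ x)
    have h2 := M.inv_mem h1
    have e : ((((a : MulAut P)⁻¹ x : P) : Ω)⁻¹ *
        (((a : MulAut P) ((a : MulAut P)⁻¹ x) : P) : Ω))⁻¹ =
        (x : Ω)⁻¹ * (((a : MulAut P)⁻¹ x : P) : Ω) := by
      have e2 : (a : MulAut P) ((a : MulAut P)⁻¹ x) = x := by simp
      rw [e2]
      group
    rw [e] at h2
    exact h2

/-- The hyperfocal subgroup lies in `M` as soon as `x⁻¹ g(x) ∈ M` for all `F`-automorphisms `g`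
of order prime to `p` of subgroups of `S`. -/
theorem hyperfocal_le_of (F : FusionSystem S) (p : ℕ) (M : Subgroup Ω)
    (h : ∀ (P : Subgroup Ω), P ≤ S → ∀ g : F.autGroup P, Nat.Coprime (orderOf g) p →
      ∀ x : P, (x : Ω)⁻¹ * ((g : MulAut P) x : P) ∈ M) : F.hyperfocalSubgroup p ≤ M := by
  unfold FusionSystem.hyperfocalSubgroup
  rw [Subgroup.closure_le]
  rintro _ ⟨P, α, x, hP, hα, rfl⟩
  exact resid_induction F p M (h P hP) α hα x

end Cfsg.Agent.Lib.Helper87.FSHyp2
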