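import Mathlib
import Cfsg.Agent.Lib.Helper87.Transfer

/-!
# Twisted transfer

In the setting of `Transfer` (a group `B` acting freely on `X` through `r : B →* G`), let `N` be a
normal subgroup of `B` and `lam : N →* A` a homomorphism to a commutative group which is invariant
under conjugation by `B`.  For a choice `ε` of a section of the orbit map we consider the cocycle
`c ε σ o` of a permutation `σ` commuting with `B`, and the products of `lam` over the cocycle
values, which make sense as soon as these values lie in `N`.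
-/

set_option autoImplicit false

namespace Cfsg.Agent.Lib.Helper87.TwistedTransfer

open Cfsg.Agent.Lib.Helper87.Transfer

variable {G : Type*} [Group G] {X : Type*} [MulAction G X] {B : Type*} [Group B]
  {r : B →* G} {A : Type*} [CommGroup A] {N : Subgroup B}

open Classical in
/-- A homomorphism on the subgroup `N`, extended by `1` to all of `B`. -/
noncomputable def lamN (lam : N →* A) (h : B) : A :=
  if hh : h ∈ N then lam ⟨h, hh⟩ else 1

theorem lamN_of_mem (lam : N →* A) {h : B} (hh : h ∈ N) : lamN lam h = lam ⟨h, hh⟩ := by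
  unfold lamN
  exact dif_pos hh

theorem lamN_one (lam : N →* A) : lamN lam 1 = 1 := by
  rw [lamN_of_mem lam N.one_mem]
  exact map_one lam

theorem lamN_mul (lam : N →* A) {h h' : B} (hh : h ∈ N) (hh' : h' ∈ N) :
    lamN lam (h * h') = lamN lam h * lamN lam h' := by
  rw [lamN_of_mem lam hh, lamN_of_mem lam hh', lamN_of_mem lam (N.mul_mem hh hh'), ← map_mul]
  rfl

theorem lamN_conj [hN : N.Normal] (lam : N →* A)
    (hinv : ∀ (b : B) (m : N) (h : b * (m : B) * b⁻¹ ∈ N), lam ⟨b * (m : B) * b⁻¹, h⟩ = lam m)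
    (b : B) {m : B} (hm : m ∈ N) : lamN lam (b * m * b⁻¹) = lamN lam m := by
  rw [lamN_of_mem lam (hN.conj_mem m hm b), lamN_of_mem lam hm]
  exact hinv b ⟨m, hm⟩ _

/-- The cocycle of `σ` with respect to the section `o ↦ ε o • out o`. -/
noncomputable def c (r : B →* G) (ε : ROrb r X → B) (σ : rPerm r X) (o : ROrb r X) : B :=
  ε o * d r σ o * (ε (bar r X σ o))⁻¹

theorem c_mul (hfree : ∀ (b : B) (x : X), r b • x = x → b = 1) (ε : ROrb r X → B)
    (σ τ : rPerm r X) (o : ROrb r X) :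
    c r ε (σ * τ) o = c r ε τ o * c r ε σ (bar r X τ o) := by
  have h1 : bar r X (σ * τ) o = bar r X σ (bar r X τ o) := by
    rw [map_mul]
    rfl
  unfold c
  rw [d_mul hfree, h1]
  group

theorem c_spec (ε : ROrb r X → B) (σ : rPerm r X) (o : ROrb r X) :
    r (c r ε σ o) • r (ε (bar r X σ o)) • (bar r X σ o).out =
      (σ : Equiv.Perm X) (r (ε o) • o.out) := by
  rw [σ.2, ← d_spec σ o, smul_smul, smul_smul, ← map_mul, ← map_mul]
  unfold c
  congr 2
  group

/-- The product of `lam` over the cocycle values of `σ`. -/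
noncomputable def Wt (lam : N →* A) (ε : ROrb r X → B) (σ : rPerm r X) : A :=
  ∏ᶠ o : ROrb r X, lamN lam (c r ε σ o)

theorem Wt_mul [Finite X] (hfree : ∀ (b : B) (x : X), r b • x = x → b = 1) (lam : N →* A)
    (ε : ROrb r X → B) {σ τ : rPerm r X} (hσ : ∀ o, c r ε σ o ∈ N) (hτ : ∀ o, c r ε τ o ∈ N) :
    Wt lam ε (σ * τ) = Wt lam ε σ * Wt lam ε τ := by
  unfold Wt
  have h1 : ∀ o : ROrb r X, lamN lam (c r ε (σ * τ) o) =
      lamN lam (c r ε τ o) * lamN lam (c r ε σ (bar r X τ o)) :=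
    fun o => by rw [c_mul hfree, lamN_mul lam (hτ o) (hσ _)]
  rw [finprod_congr h1, finprod_mul_distrib (Set.toFinite _) (Set.toFinite _), mul_comm]
  congr 1
  exact finprod_comp_equiv (bar r X τ) (f := fun o => lamN lam (c r ε σ o))

/-- The section `ε` transported by a permutation `e` commuting with `B`. -/
noncomputable def twist (r : B →* G) (ε : ROrb r X → B) (e : rPerm r X) (o : ROrb r X) : B :=
  ε (bar r X e o) * (d r e o)⁻¹

theorem c_twist (hfree : ∀ (b : B) (x : X), r b • x = x → b = 1) (ε : ROrb r X → B)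
    {e σ σ' : rPerm r X} (h : e * σ = σ' * e) (o : ROrb r X) :
    c r (twist r ε e) σ o = c r ε σ' (bar r X e o) := by
  have h1 := d_mul hfree e σ o
  have h2 := d_mul hfree σ' e o
  rw [h] at h1
  have h3 : d r σ' (bar r X e o) = (d r e o)⁻¹ * d r σ o * d r e (bar r X σ o) := by
    rw [mul_assoc, ← h1, h2]
    group
  have h4 : bar r X e (bar r X σ o) = bar r X σ' (bar r X e o) := by
    have h5 : bar r X (e * σ) o = bar r X (σ' * e) o := by rw [h]
    rw [map_mul, map_mul] at h5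
    exact h5
  unfold c twist
  rw [h3, h4]
  group

theorem Wt_twist [Finite X] (hfree : ∀ (b : B) (x : X), r b • x = x → b = 1) (lam : N →* A)
    (ε : ROrb r X → B) {e σ σ' : rPerm r X} (h : e * σ = σ' * e) :
    Wt lam (twist r ε e) σ = Wt lam ε σ' := by
  unfold Wt
  rw [finprod_congr (fun o => by rw [c_twist hfree ε h o])]
  exact finprod_comp_equiv (bar r X e) (f := fun o => lamN lam (c r ε σ' o))

/-- Independence of the section. -/
theorem Wt_eq [Finite X] [hN : N.Normal] (lam : N →* A)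
    (hinv : ∀ (b : B) (m : N) (h : b * (m : B) * b⁻¹ ∈ N), lam ⟨b * (m : B) * b⁻¹, h⟩ = lam m)
    (ε ε' : ROrb r X → B) (σ : rPerm r X)
    (h : ∀ o, c r ε σ o ∈ N) (h' : ∀ o, c r ε' σ o ∈ N) : Wt lam ε' σ = Wt lam ε σ := by
  obtain ⟨δ, hδ⟩ : ∃ δ : ROrb r X → B, δ = fun o => ε' o * (ε o)⁻¹ := ⟨_, rfl⟩
  obtain ⟨π, hπ⟩ : ∃ π : Equiv.Perm (ROrb r X), π = bar r X σ := ⟨_, rfl⟩
  have e1 : ∀ o, c r ε' σ o =
      (δ o * (δ (π o))⁻¹) * (δ (π o) * c r ε σ o * (δ (π o))⁻¹) := by
    intro o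
    rw [hδ, hπ]
    unfold c
    group
  have hm : ∀ o, δ o * (δ (π o))⁻¹ ∈ N := by
    intro o
    have h1 : δ o * (δ (π o))⁻¹ =
        c r ε' σ o * (δ (π o) * c r ε σ o * (δ (π o))⁻¹)⁻¹ := by
      rw [e1 o]
      group
    rw [h1]
    exact N.mul_mem (h' o) (N.inv_mem (hN.conj_mem _ (h o) _))
  have e2 : ∀ o, lamN lam (c r ε' σ o) =
      lamN lam (δ o * (δ (π o))⁻¹) * lamN lam (c r ε σ o) := by
    intro o
    rw [e1 o, lamN_mul lam (hm o) (hN.conj_mem _ (h o) _), lamN_conj lam hinv _ (h o)]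
  unfold Wt
  rw [finprod_congr e2, finprod_mul_distrib (Set.toFinite _) (Set.toFinite _)]
  have h3 : ∏ᶠ o : ROrb r X, lamN lam (δ o * (δ (π o))⁻¹) = 1 := by
    apply finprod_eq_one_of_cycles π
    intro o k hk
    have key : ∀ k : ℕ, δ o * (δ ((π ^ k) o))⁻¹ ∈ N ∧
        ∏ i ∈ Finset.range k, lamN lam (δ ((π ^ i) o) * (δ (π ((π ^ i) o)))⁻¹) =
          lamN lam (δ o * (δ ((π ^ k) o))⁻¹) := by
      intro k
      induction k with
      | zero =>
        have e0 : δ o * (δ ((π ^ 0) o))⁻¹ = 1 := by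
          rw [pow_zero]
          exact mul_inv_cancel _
        rw [e0, Finset.prod_range_zero, lamN_one]
        exact ⟨N.one_mem, rfl⟩
      | succ k ih =>
        have e3 : δ o * (δ ((π ^ (k + 1)) o))⁻¹ =
            (δ o * (δ ((π ^ k) o))⁻¹) * (δ ((π ^ k) o) * (δ (π ((π ^ k) o)))⁻¹) := by
          rw [pow_succ']
          show δ o * (δ (π ((π ^ k) o)))⁻¹ = _
          group
        rw [e3, Finset.prod_range_succ, ih.2, lamN_mul lam ih.1 (hm _)]
        exact ⟨N.mul_mem ih.1 (hm _), rfl⟩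
    rw [(key k).2, hk, mul_inv_cancel, lamN_one]
  rw [h3, one_mul]

/-- Invariance under conjugation by a permutation commuting with `B`. -/
theorem Wt_eq_of_conj [Finite X] [hN : N.Normal]
    (hfree : ∀ (b : B) (x : X), r b • x = x → b = 1) (lam : N →* A)
    (hinv : ∀ (b : B) (m : N) (h : b * (m : B) * b⁻¹ ∈ N), lam ⟨b * (m : B) * b⁻¹, h⟩ = lam m)
    (ε : ROrb r X → B) {e σ σ' : rPerm r X} (h : e * σ = σ' * e)
    (hσ : ∀ o, c r ε σ o ∈ N) (hσ' : ∀ o, c r ε σ' o ∈ N) : Wt lam ε σ' = Wt lam ε σ := by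
  rw [← Wt_twist hfree lam ε h]
  exact Wt_eq lam hinv ε (twist r ε e) σ hσ (fun o => by rw [c_twist hfree ε h o]; exact hσ' _)

/-- The twisted transfer along the diagonal: a homomorphism `B →* A` whose restriction to `N`
is `lam ^ |X/B|` times the left transfer. -/
theorem exists_mu [Finite X] [hN : N.Normal]
    (hfree : ∀ (b : B) (x : X), r b • x = x → b = 1) (lam : N →* A)
    (hinv : ∀ (b : B) (m : N) (h : b * (m : B) * b⁻¹ ∈ N), lam ⟨b * (m : B) * b⁻¹, h⟩ = lam m)
    (ε : ROrb r X → B) (L : B →* rPerm r X)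
    (hL : ∀ (g : B) (o : ROrb r X), g * c r ε (L g) o ∈ N) :
    ∃ μ : B →* A, ∀ u : N, μ u = lam u ^ Nat.card (ROrb r X) * Wt lam ε (L u) := by
  classical
  have hmul : ∀ g h : B, (∏ᶠ o : ROrb r X, lamN lam ((g * h) * c r ε (L (g * h)) o)) =
      (∏ᶠ o : ROrb r X, lamN lam (g * c r ε (L g) o)) *
        ∏ᶠ o : ROrb r X, lamN lam (h * c r ε (L h) o) := by
    intro g h
    have h1 : ∀ o : ROrb r X, lamN lam ((g * h) * c r ε (L (g * h)) o) =
        lamN lam (h * c r ε (L h) o) * lamN lam (g * c r ε (L g) (bar r X (L h) o)) := by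
      intro o
      have e1 : (g * h) * c r ε (L (g * h)) o =
          (g * (h * c r ε (L h) o) * g⁻¹) * (g * c r ε (L g) (bar r X (L h) o)) := by
        rw [map_mul, c_mul hfree]
        group
      rw [e1, lamN_mul lam (hN.conj_mem _ (hL h o) g) (hL g _), lamN_conj lam hinv g (hL h o)]
    rw [finprod_congr h1, finprod_mul_distrib (Set.toFinite _) (Set.toFinite _), mul_comm]
    congr 1
    exact finprod_comp_equiv (bar r X (L h)) (f := fun o => lamN lam (g * c r ε (L g) o))
  refine ⟨MonoidHom.mk' (fun g => ∏ᶠ o : ROrb r X, lamN lam (g * c r ε (L g) o)) hmul, ?_⟩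
  intro u
  show (∏ᶠ o : ROrb r X, lamN lam ((u : B) * c r ε (L u) o)) = _
  have hc : ∀ o, c r ε (L u) o ∈ N := fun o => by
    have := N.mul_mem (N.inv_mem u.2) (hL u o)
    rwa [inv_mul_cancel_left] at this
  have h1 : ∀ o : ROrb r X, lamN lam ((u : B) * c r ε (L u) o) =
      lam u * lamN lam (c r ε (L u) o) := fun o => by
    rw [lamN_mul lam u.2 (hc o), lamN_of_mem lam u.2]
  rw [finprod_congr h1, finprod_mul_distrib (Set.toFinite _) (Set.toFinite _)]
  congr 1
  haveI : Fintype (ROrb r X) := Fintype.ofFinite _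
  rw [finprod_eq_prod_of_fintype, Finset.prod_const, Finset.card_univ, Nat.card_eq_fintype_card]

end Cfsg.Agent.Lib.Helper87.TwistedTransfer
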