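import Mathlib
import Cfsg.Prelude.Def_FusionSystem
import Cfsg.Agent.Lib.Helper87.FSBasic
import Cfsg.Agent.Lib.Helper87.FSSat
import Cfsg.Agent.Lib.Helper87.FSHyp
import Cfsg.Agent.Lib.Helper87.FSHyp2
import Cfsg.Agent.Lib.Helper87.TwistDiag
import Cfsg.Agent.Lib.Helper87.CharBiset
import Cfsg.Agent.Lib.Helper87.Transfer
import Cfsg.Agent.Lib.Helper87.BisetTransfer
import Cfsg.Agent.Lib.Helper87.TwistedTransfer
import Cfsg.Agent.H84.FusInd

/-!
# Extending invariant homomorphisms of the hyperfocal subgroup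

For a saturated fusion system `F` over a finite `p`-group `S`, every homomorphism from the
hyperfocal subgroup of `F` to a commutative group which is invariant under conjugation by `S`
extends, up to a power prime to `p`, to a homomorphism defined on `S`.  This is the key step in
Tate's theorem for fusion systems; it is proved with a twisted transfer on a characteristic biset.
-/

set_option autoImplicit false
open Cfsg

namespace Cfsg.Agent.Lib.Helper87.HypExt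

open Cfsg.Agent.Lib.Helper87.FSBasic Cfsg.Agent.Lib.Helper87.FSSat
  Cfsg.Agent.Lib.Helper87.FSHyp Cfsg.Agent.Lib.Helper87.FSHyp2
  Cfsg.Agent.Lib.Helper87.TwistDiag Cfsg.Agent.Lib.Helper87.CharBiset
  Cfsg.Agent.Lib.Helper87.Transfer Cfsg.Agent.Lib.Helper87.BisetTransfer
  Cfsg.Agent.Lib.Helper87.TwistedTransfer MulAction

universe u

variable {Ω : Type u} [Group Ω] {S : Subgroup Ω}

theorem hyp_conj_mem (F : FusionSystem S) (p : ℕ) {s : Ω} (hs : s ∈ S) {r : Ω}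
    (hr : r ∈ F.hyperfocalSubgroup p) : s * r * s⁻¹ ∈ F.hyperfocalSubgroup p :=
  ((Subgroup.mem_normalizer_iff.mp (le_normalizer_hyperfocal F p hs)) r).mp hr

/-- Every isomorphism of a saturated fusion system is, modulo the hyperfocal subgroup, a
conjugation by an element of `S`. -/
theorem iso_conj_mod_hyp [Finite S] {p : ℕ} [Fact p.Prime] (hS : IsPGroup p S)
    (F : FusionSystem S) (hF : F.IsSaturated p) :
    ∀ (P Q : Subgroup Ω) (e : P ≃* Q), Cfsg.Agent.H84.IsIso F e →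
      ∃ s ∈ S, ∀ u : P, (s * (u : Ω) * s⁻¹)⁻¹ * (e u : Ω) ∈ F.hyperfocalSubgroup p := by
  refine Cfsg.Agent.H84.iso_induction hS F hF (fun P Q e => ∃ s ∈ S, ∀ u : P,
    (s * (u : Ω) * s⁻¹)⁻¹ * (e u : Ω) ∈ F.hyperfocalSubgroup p) ?_ ?_ ?_ ?_
  · rintro P Q e he ⟨s, hs, h⟩
    refine ⟨s⁻¹, S.inv_mem hs, fun v => ?_⟩
    have h1 := h (e.symm v)
    rw [e.apply_symm_apply] at h1
    have h2 := hyp_conj_mem F p (S.inv_mem hs) (Subgroup.inv_mem _ h1)
    have e1 : s⁻¹ * ((s * ((e.symm v : P) : Ω) * s⁻¹)⁻¹ * (v : Ω))⁻¹ * s⁻¹⁻¹ =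
        (s⁻¹ * (v : Ω) * s⁻¹⁻¹)⁻¹ * ((e.symm v : P) : Ω) := by group
    rw [e1] at h2
    exact h2
  · rintro P Q R e₁ e₂ he₁ he₂ ⟨s, hs, h⟩ ⟨t, ht, h'⟩
    refine ⟨t * s, S.mul_mem ht hs, fun u => ?_⟩
    have h1 := hyp_conj_mem F p ht (h u)
    have h2 := h' (e₁ u)
    have h3 := Subgroup.mul_mem _ h1 h2
    have e1 : t * ((s * (u : Ω) * s⁻¹)⁻¹ * ((e₁ u : Q) : Ω)) * t⁻¹ *
        ((t * ((e₁ u : Q) : Ω) * t⁻¹)⁻¹ * ((e₂ (e₁ u) : R) : Ω)) =
        (t * s * (u : Ω) * (t * s)⁻¹)⁻¹ * ((e₂ (e₁ u) : R) : Ω) := by group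
    rw [e1] at h3
    exact h3
  · rintro P Q R R' e hR e' he ⟨s, hs, h⟩ hee'
    exact ⟨s, hs, fun x => by rw [hee' x]; exact h ⟨x, hR x.2⟩⟩
  · intro R hRa hRr _ α hα
    obtain ⟨n, hn, r, hr, hαnr⟩ := autGroup_decomp F hRa α hα
    obtain ⟨s, hs, hst⟩ := (Cfsg.Agent.Lib.Helper87.FSBasic.mem_autInducedBy_iff r).1 hr
    refine ⟨s, hs, fun u => ?_⟩
    have h1 := gen_mem F p hRa.1 n hn (r u)
    rw [hst u] at h1
    rw [hαnr]
    exact h1

/-- Every map of a saturated fusion system is, modulo the hyperfocal subgroup, a conjugation by an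
element of `S`. -/
theorem hom_conj_mod_hyp [Finite S] {p : ℕ} [Fact p.Prime] (hS : IsPGroup p S)
    (F : FusionSystem S) (hF : F.IsSaturated p) {P : Subgroup Ω} {φ : P →* Ω}
    (hφ : φ ∈ F.Hom P) :
    ∃ s ∈ S, ∀ u : P, (s * (u : Ω) * s⁻¹)⁻¹ * φ u ∈ F.hyperfocalSubgroup p := by
  obtain ⟨s, hs, h⟩ := iso_conj_mod_hyp hS F hF P φ.range _ (Cfsg.Agent.H84.isIso_ofInjective hφ)
  exact ⟨s, hs, fun u => h u⟩

/-- The hyperfocal subgroup of a saturated fusion system is strongly closed. -/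
theorem hyp_map_mem [Finite S] {p : ℕ} [Fact p.Prime] (hS : IsPGroup p S)
    (F : FusionSystem S) (hF : F.IsSaturated p) {P : Subgroup Ω} {φ : P →* Ω}
    (hφ : φ ∈ F.Hom P) {u : P} (hu : (u : Ω) ∈ F.hyperfocalSubgroup p) :
    φ u ∈ F.hyperfocalSubgroup p := by
  obtain ⟨s, hs, h⟩ := hom_conj_mod_hyp hS F hF hφ
  have h1 := Subgroup.mul_mem _ (hyp_conj_mem F p hs hu) (h u)
  rw [mul_inv_cancel_left] at h1
  exact h1

/-- If every point of `X` can be moved to a point with stabilizer inside `Γ`, there is a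
`Γ`-stable subset of `X` meeting every orbit such that only the elements of `Γ` move one of
its points to another. -/
theorem exists_block {G : Type*} [Group G] {X : Type*} [MulAction G X] (Γ : Subgroup G)
    (h : ∀ x : X, ∃ g : G, stabilizer G (g • x) ≤ Γ) :
    ∃ X₁ : Set X, (∀ x ∈ X₁, ∀ g ∈ Γ, g • x ∈ X₁) ∧ (∀ x : X, ∃ g : G, g • x ∈ X₁) ∧
      (∀ x ∈ X₁, ∀ g : G, g • x ∈ X₁ → g ∈ Γ) := by
  classical
  have h1 : ∀ T : {T : Set X // ∃ x, T = orbit G x}, ∃ y : X, y ∈ T.1 ∧ stabilizer G y ≤ Γ := by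
    rintro ⟨T, x, rfl⟩
    obtain ⟨g, hg⟩ := h x
    exact ⟨g • x, mem_orbit x g, hg⟩
  choose f hf using h1
  obtain ⟨z, hz⟩ : ∃ z : X → X, ∀ x, z x = f ⟨orbit G x, x, rfl⟩ := ⟨_, fun _ => rfl⟩
  have hz1 : ∀ (g : G) (x : X), z (g • x) = z x := by
    intro g x
    rw [hz, hz]
    congr 1
    exact Subtype.ext (orbit_smul g x)
  have hz2 : ∀ x : X, ∃ g : G, g • x = z x := by
    intro x
    have := (hf ⟨orbit G x, x, rfl⟩).1
    rw [← hz] at this
    exact mem_orbit_iff.mp this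
  have hz3 : ∀ x : X, stabilizer G (z x) ≤ Γ := by
    intro x
    rw [hz]
    exact (hf ⟨orbit G x, x, rfl⟩).2
  refine ⟨{x | ∃ g ∈ Γ, g • z x = x}, ?_, ?_, ?_⟩
  · rintro x ⟨g₀, hg₀, e₀⟩ g hg
    refine ⟨g * g₀, Γ.mul_mem hg hg₀, ?_⟩
    rw [hz1, mul_smul, e₀]
  · intro x
    obtain ⟨g, hg⟩ := hz2 x
    refine ⟨g, 1, Γ.one_mem, ?_⟩
    rw [hz1, one_smul, hg]
  · rintro x ⟨g₀, hg₀, e₀⟩ g ⟨g₁, hg₁, e₁⟩
    rw [hz1] at e₁
    have h2 : g₁⁻¹ * g * g₀ ∈ stabilizer G (z x) := by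
      rw [mem_stabilizer_iff, mul_smul, mul_smul, e₀, ← e₁, inv_smul_smul]
    have h3 := Γ.mul_mem (Γ.mul_mem hg₁ (hz3 x h2)) (Γ.inv_mem hg₀)
    have e2 : g₁ * (g₁⁻¹ * g * g₀) * g₀⁻¹ = g := by group
    rw [e2] at h3
    exact h3

/-- **Extension of invariant homomorphisms of the hyperfocal subgroup.** -/
theorem exists_extension [Finite S] {p : ℕ} [Fact p.Prime] (hS : IsPGroup p S)
    (F : FusionSystem S) (hF : F.IsSaturated p) {A : Type*} [CommGroup A]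
    (lam : ((F.hyperfocalSubgroup p).subgroupOf S) →* A)
    (hinv : ∀ (s : S) (u : (F.hyperfocalSubgroup p).subgroupOf S)
      (h : s * (u : S) * s⁻¹ ∈ (F.hyperfocalSubgroup p).subgroupOf S),
      lam ⟨s * (u : S) * s⁻¹, h⟩ = lam u) :
    ∃ (n : ℕ) (μ : S →* A), ¬ p ∣ n ∧
      ∀ u : (F.hyperfocalSubgroup p).subgroupOf S, μ u = lam u ^ n := by
  classical
  obtain ⟨X, i1, i2, hstab, hstable, n, hn, hpn⟩ := exists_charBiset hS F hF
  letI := i1
  haveI := i2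
  have hfree : ∀ (b : S) (x : X), (MonoidHom.inr S S) b • x = x → b = 1 := right_free F hstab
  have hcardO : Nat.card (ROrb (MonoidHom.inr S S) X) = n := by
    have h1 := card_eq (r := MonoidHom.inr S S) (X := X) hfree
    rw [hn] at h1
    exact (Nat.eq_of_mul_eq_mul_right Nat.card_pos h1).symm
  haveI hNn : ((F.hyperfocalSubgroup p).subgroupOf S).Normal := ⟨fun m hm g => by
    rw [Subgroup.mem_subgroupOf] at hm ⊢
    exact hyp_conj_mem F p g.2 hm⟩
  have hmemN : ∀ a : S, a ∈ (F.hyperfocalSubgroup p).subgroupOf S ↔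
      (a : Ω) ∈ F.hyperfocalSubgroup p := fun a => Subgroup.mem_subgroupOf
  -- the subgroup `Γ` of pairs congruent modulo the hyperfocal subgroup
  obtain ⟨Γ, hΓ⟩ : ∃ Γ : Subgroup (S × S), ∀ g : S × S,
      g ∈ Γ ↔ g.1⁻¹ * g.2 ∈ (F.hyperfocalSubgroup p).subgroupOf S :=
    ⟨MonoidHom.eqLocus
      ((QuotientGroup.mk' ((F.hyperfocalSubgroup p).subgroupOf S)).comp (MonoidHom.fst S S))
      ((QuotientGroup.mk' ((F.hyperfocalSubgroup p).subgroupOf S)).comp (MonoidHom.snd S S)),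
      fun g => QuotientGroup.eq⟩
  have hgood : ∀ x : X, ∃ g : S × S, stabilizer (S × S) (g • x) ≤ Γ := by
    intro x
    obtain ⟨P, φ, hφ, hPφ⟩ := hstab x
    obtain ⟨s, hs, h⟩ := hom_conj_mod_hyp hS F hF hφ
    refine ⟨((⟨s, hs⟩ : S), (1 : S)), ?_⟩
    rintro ⟨a, b⟩ hg
    rw [mem_stabilizer_iff] at hg
    have h1 : (((⟨s, hs⟩ : S), (1 : S)) : S × S)⁻¹ * (a, b) * ((⟨s, hs⟩ : S), (1 : S)) ∈
        stabilizer (S × S) x := by
      rw [mem_stabilizer_iff, mul_smul, mul_smul, hg, inv_smul_smul]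
    rw [hPφ] at h1
    have h2 : (((⟨s, hs⟩ : S)⁻¹ * a * ⟨s, hs⟩, b) : S × S) ∈ graph P φ := by
      have e1 : (((⟨s, hs⟩ : S)⁻¹ * a * ⟨s, hs⟩, b) : S × S) =
          (((⟨s, hs⟩ : S), (1 : S)) : S × S)⁻¹ * (a, b) * ((⟨s, hs⟩ : S), (1 : S)) := by
        apply Prod.ext
        · rfl
        · show b = (1 : S)⁻¹ * b * 1
          rw [inv_one, one_mul, mul_one]
      rw [e1]
      exact h1
    rw [mem_graph] at h2
    obtain ⟨hu, e⟩ := h2
    rw [hΓ, hmemN]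
    have h3 := h ⟨_, hu⟩
    rw [e] at h3
    have e2 : (s * (((⟨s, hs⟩ : S)⁻¹ * a * ⟨s, hs⟩ : S) : Ω) * s⁻¹)⁻¹ * (b : Ω) =
        (a : Ω)⁻¹ * (b : Ω) := by
      show (s * (s⁻¹ * (a : Ω) * s) * s⁻¹)⁻¹ * (b : Ω) = _
      group
    rw [e2] at h3
    exact h3
  obtain ⟨X₁, hX1, hX2, hX3⟩ := exists_block Γ hgood
  have hX2' : ∀ x : X, ∃ s : S, (MonoidHom.inr S S s) • x ∈ X₁ := by
    intro x
    obtain ⟨⟨a, b⟩, hg⟩ := hX2 x
    refine ⟨a⁻¹ * b, ?_⟩
    have h1 := hX1 _ hg ((a⁻¹, a⁻¹) : S × S) (by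
      rw [hΓ]
      show a⁻¹⁻¹ * a⁻¹ ∈ _
      rw [inv_mul_cancel]
      exact Subgroup.one_mem _)
    rw [smul_smul] at h1
    have e1 : ((a⁻¹, a⁻¹) : S × S) * (a, b) = MonoidHom.inr S S (a⁻¹ * b) :=
      Prod.ext (inv_mul_cancel a) rfl
    rw [e1] at h1
    exact h1
  choose ε hε using fun o : ROrb (MonoidHom.inr S S) X => hX2' o.out
  have hL : ∀ (g : S) (o : ROrb (MonoidHom.inr S S) X),
      g * c (MonoidHom.inr S S) ε (leftHom S X g) o ∈ (F.hyperfocalSubgroup p).subgroupOf S := by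
    intro g o
    have h1 := c_spec (r := MonoidHom.inr S S) ε (leftHom S X g) o
    rw [leftHom_apply] at h1
    have h2 := hX1 _ (hε o) ((g, g) : S × S) (by
      rw [hΓ]
      show g⁻¹ * g ∈ _
      rw [inv_mul_cancel]
      exact Subgroup.one_mem _)
    have h3 : (MonoidHom.inr S S (g * c (MonoidHom.inr S S) ε (leftHom S X g) o)) •
        ((MonoidHom.inr S S) (ε (bar (MonoidHom.inr S S) X (leftHom S X g) o)) •
          (bar (MonoidHom.inr S S) X (leftHom S X g) o).out) =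
        ((g, g) : S × S) • ((MonoidHom.inr S S) (ε o) • o.out) := by
      rw [map_mul, mul_smul, h1, smul_smul]
      congr 1
      exact Prod.ext (one_mul g) (mul_one g)
    rw [← h3] at h2
    have h4 := (hΓ _).mp (hX3 _ (hε _) _ h2)
    have e4 : (MonoidHom.inr S S (g * c (MonoidHom.inr S S) ε (leftHom S X g) o)).1⁻¹ *
        (MonoidHom.inr S S (g * c (MonoidHom.inr S S) ε (leftHom S X g) o)).2 =
        g * c (MonoidHom.inr S S) ε (leftHom S X g) o := by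
      show (1 : S)⁻¹ * _ = _
      rw [inv_one, one_mul]
      rfl
    rw [e4] at h4
    exact h4
  obtain ⟨μ, hμ⟩ := exists_mu hfree lam hinv ε (leftHom S X) hL
  refine ⟨n, μ, hpn, ?_⟩
  have hc : ∀ u : S, u ∈ (F.hyperfocalSubgroup p).subgroupOf S →
      ∀ o, c (MonoidHom.inr S S) ε (leftHom S X u) o ∈ (F.hyperfocalSubgroup p).subgroupOf S := by
    intro u hu o
    have := Subgroup.mul_mem _ (Subgroup.inv_mem _ hu) (hL u o)
    rwa [inv_mul_cancel_left] at this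
  -- the left transfer, a homomorphism on the hyperfocal subgroup
  obtain ⟨W, hW⟩ : ∃ W : ((F.hyperfocalSubgroup p).subgroupOf S) →* A,
      ∀ u, W u = Wt lam ε (leftHom S X (u : S)) :=
    ⟨MonoidHom.mk' (fun u => Wt lam ε (leftHom S X (u : S))) (by
      intro u v
      show Wt lam ε (leftHom S X ((u : S) * (v : S))) = _
      rw [map_mul]
      exact Wt_mul hfree lam ε (hc u u.2) (hc v v.2)), fun _ => rfl⟩
  -- invariance of `W` under the maps of the system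
  have hWF : ∀ (P : Subgroup Ω) (φ : P →* Ω) (hφ : φ ∈ F.Hom P) (u : P)
      (hu : (u : Ω) ∈ F.hyperfocalSubgroup p),
      W ⟨⟨φ u, map_mem F hφ u⟩, (hmemN _).mpr (hyp_map_mem hS F hF hφ hu)⟩ =
        W ⟨⟨u, dom_le F hφ u.2⟩, (hmemN _).mpr hu⟩ := by
    intro P φ hφ u hu
    obtain ⟨e, he⟩ := hstable P S φ S.subtype hφ (subtype_mem F le_rfl)
    have he1 : e ∈ rPerm (MonoidHom.inr S S) X := by
      intro b x
      have h1 := he 1 b x
      have e1 : (⟨φ 1, map_mem F hφ 1⟩ : S) = 1 := Subtype.ext (map_one φ)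
      rw [e1] at h1
      exact h1
    rw [hW, hW]
    refine Wt_eq_of_conj hfree lam hinv ε (e := ⟨e, he1⟩) ?_ (hc _ ((hmemN _).mpr hu))
      (hc _ ((hmemN _).mpr (hyp_map_mem hS F hF hφ hu)))
    apply Subtype.ext
    ext x
    exact he u 1 x
  -- the kernel of `W`, as a subgroup of `Ω`
  obtain ⟨K, hK⟩ : ∃ K : Subgroup Ω, K =
      ((W.ker).map ((F.hyperfocalSubgroup p).subgroupOf S).subtype).map S.subtype := ⟨_, rfl⟩
  have hK1 : ∀ (y : Ω) (h : y ∈ S) (h' : (⟨y, h⟩ : S) ∈ (F.hyperfocalSubgroup p).subgroupOf S),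
      W ⟨⟨y, h⟩, h'⟩ = 1 → y ∈ K := by
    intro y h h' hy
    rw [hK]
    exact ⟨⟨y, h⟩, ⟨⟨⟨y, h⟩, h'⟩, hy, rfl⟩, rfl⟩
  have hK2 : ∀ u : (F.hyperfocalSubgroup p).subgroupOf S, ((u : S) : Ω) ∈ K → W u = 1 := by
    intro u hu
    rw [hK] at hu
    obtain ⟨s, ⟨w, hw, rfl⟩, hs⟩ := hu
    have : w = u := Subtype.ext (Subtype.ext hs)
    rw [← this]
    exact hw
  have hle : F.hyperfocalSubgroup p ≤ K := by
    apply hyperfocal_le_of F p K
    intro P hPS g hg x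
    have hgres : g ∈ pResidual p (F.autGroup P) := Subgroup.subset_closure hg
    have hφ : P.subtype.comp (g : MulAut P).toMonoidHom ∈ F.Hom P := autGroup_hom F hPS g.2
    have hcel : (x : Ω)⁻¹ * (((g : MulAut P) x : P) : Ω) ∈ F.hyperfocalSubgroup p :=
      gen_mem F p hPS g hgres x
    have hcelS : (x : Ω)⁻¹ * (((g : MulAut P) x : P) : Ω) ∈ S :=
      hyperfocal_le F p hcel
    have key : ∀ j : ℕ, ∃ (t : P) (ht : (t : Ω) ∈ F.hyperfocalSubgroup p),
        ((g : MulAut P) ^ j) x = x * t ∧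
        W ⟨⟨t, hPS t.2⟩, (hmemN _).mpr ht⟩ = W ⟨⟨_, hcelS⟩, (hmemN _).mpr hcel⟩ ^ j := by
      intro j
      induction j with
      | zero =>
        refine ⟨1, Subgroup.one_mem _, ?_, ?_⟩
        · rw [pow_zero, mul_one]
          rfl
        · rw [pow_zero]
          exact map_one W
      | succ j ih =>
        obtain ⟨t, ht, e1, e2⟩ := ih
        have hβt : (((g : MulAut P) t : P) : Ω) ∈ F.hyperfocalSubgroup p :=
          hyp_map_mem hS F hF hφ ht
        refine ⟨x⁻¹ * (g : MulAut P) x * (g : MulAut P) t,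
          Subgroup.mul_mem _ hcel hβt, ?_, ?_⟩
        · rw [pow_succ']
          show (g : MulAut P) (((g : MulAut P) ^ j) x) = _
          rw [e1, map_mul]
          group
        · have h5 := hWF P _ hφ t ht
          have e3 : (⟨⟨((x⁻¹ * (g : MulAut P) x * (g : MulAut P) t : P) : Ω),
                hPS (x⁻¹ * (g : MulAut P) x * (g : MulAut P) t : P).2⟩,
              (hmemN _).mpr (Subgroup.mul_mem _ hcel hβt)⟩ :
              (F.hyperfocalSubgroup p).subgroupOf S) =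
              ⟨⟨_, hcelS⟩, (hmemN _).mpr hcel⟩ *
                ⟨⟨(P.subtype.comp (g : MulAut P).toMonoidHom) t, map_mem F hφ t⟩,
                  (hmemN _).mpr hβt⟩ := rfl
          rw [e3, map_mul, h5, e2, pow_succ']
    obtain ⟨t, ht, e1, e2⟩ := key (orderOf g)
    have h6 : (g : MulAut P) ^ orderOf g = 1 := by
      have := pow_orderOf_eq_one g
      have h7 : ((g ^ orderOf g : F.autGroup P) : MulAut P) = (g : MulAut P) ^ orderOf g := rfl
      rw [← h7, this]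
      rfl
    rw [h6] at e1
    have ht1 : t = 1 := by
      have : x * 1 = x * t := by
        rw [mul_one]
        exact e1
      exact (mul_left_cancel this).symm
    have h8 : W ⟨⟨_, hcelS⟩, (hmemN _).mpr hcel⟩ ^ orderOf g = 1 := by
      rw [← e2]
      have : (⟨⟨(t : Ω), hPS t.2⟩, (hmemN _).mpr ht⟩ : (F.hyperfocalSubgroup p).subgroupOf S) = 1 := by
        apply Subtype.ext
        apply Subtype.ext
        show (t : Ω) = 1
        rw [ht1]
        rfl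
      rw [this, map_one]
    have hpN : IsPGroup p ((F.hyperfocalSubgroup p).subgroupOf S) := hS.to_subgroup _
    obtain ⟨k, hk⟩ := hpN ⟨⟨_, hcelS⟩, (hmemN _).mpr hcel⟩
    have h9 : W ⟨⟨_, hcelS⟩, (hmemN _).mpr hcel⟩ ^ p ^ k = 1 := by
      rw [← map_pow, hk, map_one]
    have h10 : orderOf (W ⟨⟨_, hcelS⟩, (hmemN _).mpr hcel⟩) ∣ Nat.gcd (orderOf g) (p ^ k) :=
      Nat.dvd_gcd (orderOf_dvd_of_pow_eq_one h8) (orderOf_dvd_of_pow_eq_one h9)
    have h11 : Nat.gcd (orderOf g) (p ^ k) = 1 := Nat.Coprime.pow_right k hg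
    rw [h11, Nat.dvd_one, orderOf_eq_one_iff] at h10
    exact hK1 _ hcelS _ h10
  intro u
  have h12 : W u = 1 := hK2 u (hle ((hmemN _).mp u.2))
  rw [hμ u, hcardO, ← hW, h12, mul_one]

end Cfsg.Agent.Lib.Helper87.HypExt
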