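import Mathlib
import Cfsg.Prelude.Def_FusionSystem
import Cfsg.Agent.Lib.Helper87.FSBasic
import Cfsg.Agent.Lib.Helper87.FSHyp
import Cfsg.Agent.Lib.Helper87.FSHyp2
import Cfsg.Agent.Lib.Helper87.HypExt
import Cfsg.Agent.Lib.Helper47.Frat

/-!
# Tate's theorem for fusion systems

For a saturated fusion system `F` over a finite `p`-group `S` and a subgroup `T` of the hyperfocal
subgroup of `F` normalized by `S`: if the hyperfocal subgroup lies in `Φ(S) [S, S] T` then it
lies in `T`.
-/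

set_option autoImplicit false
open Cfsg

namespace Cfsg.Agent.Lib.Helper87.Tate

open Cfsg.Agent.Lib.Helper87.FSBasic Cfsg.Agent.Lib.Helper87.FSHyp
  Cfsg.Agent.Lib.Helper87.FSHyp2 Cfsg.Agent.Lib.Helper87.HypExt

open scoped commutatorElement

/-- In a nilpotent group, `Q ≤ N [Q, G]` with `N` normal forces `Q ≤ N`. -/
theorem le_of_le_sup_commutator {G : Type*} [Group G] [hG : Group.IsNilpotent G]
    (N Q : Subgroup G) [hN : N.Normal] (h : Q ≤ N ⊔ ⁅Q, (⊤ : Subgroup G)⁆) : Q ≤ N := by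
  have key : ∀ k : ℕ, Q ≤ N ⊔ (⊤ : Subgroup G).lowerCentralSeries k := by
    intro k
    induction k with
    | zero =>
      rw [Subgroup.lowerCentralSeries_zero]
      exact le_top.trans le_sup_right
    | succ k ih =>
      refine h.trans (sup_le le_sup_left ?_)
      rw [Subgroup.commutator_le]
      intro g₁ hg₁ g₂ _
      have hg := ih hg₁
      rw [← SetLike.mem_coe, Subgroup.normal_mul] at hg
      obtain ⟨n, hn, c, hc, rfl⟩ := Set.mem_mul.mp hg
      have e : ⁅n * c, g₂⁆ = (n * ⁅c, g₂⁆ * n⁻¹) * (n * (g₂ * n⁻¹ * g₂⁻¹)) := by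
        rw [commutatorElement_def, commutatorElement_def]
        group
      rw [e]
      refine Subgroup.mul_mem _ ?_ ?_
      · apply (le_sup_right : (⊤ : Subgroup G).lowerCentralSeries (k + 1) ≤ _)
        have hnorm : ((⊤ : Subgroup G).lowerCentralSeries (k + 1)).Normal := inferInstance
        apply hnorm.conj_mem
        rw [Subgroup.lowerCentralSeries_succ]
        exact Subgroup.commutator_mem_commutator hc (Subgroup.mem_top _)
      · apply (le_sup_left : N ≤ _)
        exact N.mul_mem hn (hN.conj_mem _ (N.inv_mem hn) _)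
  obtain ⟨k, hk⟩ := Subgroup.nilpotent_iff_lowerCentralSeries.mp hG
  have := key k
  rw [hk, sup_bot_eq] at this
  exact this

/-- A finite `p`-group in which every element is a `p`-th power is trivial. -/
theorem eq_one_of_pow_surj {A : Type*} [Group A] [Finite A] {p : ℕ} [Fact p.Prime]
    (hA : IsPGroup p A) (h : ∀ a : A, ∃ b : A, b ^ p = a) (a : A) : a = 1 := by
  obtain ⟨m, hm⟩ := IsPGroup.iff_card.mp hA
  have key : ∀ k : ℕ, ∀ a : A, ∃ b : A, b ^ (p ^ k) = a := by
    intro k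
    induction k with
    | zero => exact fun a => ⟨a, by rw [pow_zero, pow_one]⟩
    | succ k ih =>
      intro a
      obtain ⟨b, rfl⟩ := ih a
      obtain ⟨c, rfl⟩ := h b
      exact ⟨c, by rw [← pow_mul, ← pow_succ']⟩
  obtain ⟨b, rfl⟩ := key m a
  rw [← hm]
  exact pow_card_eq_one'

variable {Ω : Type*} [Group Ω] {S : Subgroup Ω}

/-- The hyperfocal subgroup of a subsystem lies in the hyperfocal subgroup of the system. -/
theorem hyperfocal_mono (F H : FusionSystem S) (p : ℕ) (hHF : H.IsSubsystemOf F) :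
    H.hyperfocalSubgroup p ≤ F.hyperfocalSubgroup p := by
  apply hyperfocal_le_of H p
  intro P hP g hg x
  have hle : H.autGroup P ≤ F.autGroup P := by
    unfold FusionSystem.autGroup
    apply Subgroup.closure_mono
    intro α hα
    exact hHF P hα
  have hg' : (⟨(g : MulAut P), hle g.2⟩ : F.autGroup P) ∈ pResidual p (F.autGroup P) := by
    apply Subgroup.subset_closure
    show Nat.Coprime (orderOf (⟨(g : MulAut P), hle g.2⟩ : F.autGroup P)) p
    rw [← Subgroup.orderOf_coe]
    rw [← Subgroup.orderOf_coe] at hg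
    exact hg
  exact gen_mem F p hP ⟨(g : MulAut P), hle g.2⟩ hg' x

/-- **Tate's theorem for fusion systems**, in terms of a subgroup `T` of the hyperfocal
subgroup normalized by `S`. -/
theorem hyp_le_of_le_frattini_sup {Ω : Type*} [Group Ω] {S : Subgroup Ω} [Finite S] {p : ℕ}
    [Fact p.Prime] (hS : IsPGroup p S)
    (F : FusionSystem S) (hF : F.IsSaturated p) (T : Subgroup Ω)
    (hT : T ≤ F.hyperfocalSubgroup p) (hTn : ∀ s ∈ S, ∀ t ∈ T, s * t * s⁻¹ ∈ T)
    (h : F.hyperfocalSubgroup p ≤ (frattini S).map S.subtype ⊔ ⁅S, S⁆ ⊔ T) :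
    F.hyperfocalSubgroup p ≤ T := by
  classical
  haveI hRFn : ((F.hyperfocalSubgroup p).subgroupOf S).Normal := ⟨fun m hm g => by
    rw [Subgroup.mem_subgroupOf] at hm ⊢
    exact hyp_conj_mem F p g.2 hm⟩
  obtain ⟨TS, hTS⟩ : ∃ TS : Subgroup S, TS = T.subgroupOf S := ⟨_, rfl⟩
  haveI hTSn : TS.Normal := ⟨fun t ht g => by
    rw [hTS, Subgroup.mem_subgroupOf] at ht ⊢
    exact hTn g g.2 _ ht⟩
  obtain ⟨M, hM⟩ : ∃ M : Subgroup S,
      M = TS ⊔ ⁅(F.hyperfocalSubgroup p).subgroupOf S, (⊤ : Subgroup S)⁆ := ⟨_, rfl⟩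
  haveI hMn : M.Normal := by
    rw [hM]
    infer_instance
  obtain ⟨K, hK⟩ : ∃ K : Subgroup ((F.hyperfocalSubgroup p).subgroupOf S),
      K = M.subgroupOf ((F.hyperfocalSubgroup p).subgroupOf S) := ⟨_, rfl⟩
  haveI hKn : K.Normal := by
    rw [hK]
    infer_instance
  have hcomm : ∀ a b : ((F.hyperfocalSubgroup p).subgroupOf S) ⧸ K, a * b = b * a := by
    intro a b
    induction a using QuotientGroup.induction_on with
    | H a =>
    induction b using QuotientGroup.induction_on with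
    | H b =>
    rw [← QuotientGroup.mk_mul, ← QuotientGroup.mk_mul]
    apply QuotientGroup.eq.mpr
    rw [hK, Subgroup.mem_subgroupOf, hM]
    apply (le_sup_right : ⁅(F.hyperfocalSubgroup p).subgroupOf S, (⊤ : Subgroup S)⁆ ≤ _)
    have e : (((a * b)⁻¹ * (b * a) : (F.hyperfocalSubgroup p).subgroupOf S) : S) =
        ⁅(b : S)⁻¹, (a : S)⁻¹⁆ := by
      rw [commutatorElement_def]
      show ((a : S) * (b : S))⁻¹ * ((b : S) * (a : S)) = _
      group
    rw [e]
    exact Subgroup.commutator_mem_commutator (Subgroup.inv_mem _ b.2) (Subgroup.mem_top _)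
  letI : CommGroup (((F.hyperfocalSubgroup p).subgroupOf S) ⧸ K) :=
    { (inferInstance : Group (((F.hyperfocalSubgroup p).subgroupOf S) ⧸ K)) with
      mul_comm := hcomm }
  have hinv : ∀ (s : S) (u : (F.hyperfocalSubgroup p).subgroupOf S)
      (h : s * (u : S) * s⁻¹ ∈ (F.hyperfocalSubgroup p).subgroupOf S),
      QuotientGroup.mk' K ⟨s * (u : S) * s⁻¹, h⟩ = QuotientGroup.mk' K u := by
    intro s u h
    apply QuotientGroup.eq.mpr
    rw [hK, Subgroup.mem_subgroupOf, hM]
    apply (le_sup_right : ⁅(F.hyperfocalSubgroup p).subgroupOf S, (⊤ : Subgroup S)⁆ ≤ _)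
    have e : (((⟨s * (u : S) * s⁻¹, h⟩ : (F.hyperfocalSubgroup p).subgroupOf S)⁻¹ * u :
        (F.hyperfocalSubgroup p).subgroupOf S) : S) = ⁅(u : S)⁻¹, s⁆⁻¹ := by
      rw [commutatorElement_def]
      show (s * (u : S) * s⁻¹)⁻¹ * (u : S) = _
      group
    rw [e]
    exact Subgroup.inv_mem _
      (Subgroup.commutator_mem_commutator (Subgroup.inv_mem _ u.2) (Subgroup.mem_top _))
  obtain ⟨n, μ, hpn, hμ⟩ := exists_extension hS F hF (QuotientGroup.mk' K) hinv
  have hA : IsPGroup p (((F.hyperfocalSubgroup p).subgroupOf S) ⧸ K) :=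
    (hS.to_subgroup _).to_quotient K
  have hE : ∀ u : (F.hyperfocalSubgroup p).subgroupOf S,
      ∃ a : ((F.hyperfocalSubgroup p).subgroupOf S) ⧸ K, a ^ p = μ u := by
    obtain ⟨E, hEdef⟩ : ∃ E : Subgroup S, E = ((powMonoidHom p :
        (((F.hyperfocalSubgroup p).subgroupOf S) ⧸ K) →*
          (((F.hyperfocalSubgroup p).subgroupOf S) ⧸ K)).range).comap μ := ⟨_, rfl⟩
    have hEmem : ∀ s : S, s ∈ E ↔
        ∃ a : ((F.hyperfocalSubgroup p).subgroupOf S) ⧸ K, a ^ p = μ s := by
      intro s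
      rw [hEdef, Subgroup.mem_comap, MonoidHom.mem_range]
      rfl
    have hcomE : ∀ a b : S, ⁅a, b⁆ ∈ E := by
      intro a b
      rw [hEmem]
      refine ⟨1, ?_⟩
      rw [one_pow, map_commutatorElement]
      exact (commutatorElement_eq_one_iff_commute.mpr (Commute.all _ _)).symm
    have hfr : frattini S ≤ E := by
      apply Cfsg.Agent.Lib.Helper47.Frat.frattini_le_of_pow_comm (p := p) E
      · intro x
        rw [hEmem]
        exact ⟨μ x, by rw [map_pow]⟩
      · rw [_root_.commutator_def, Subgroup.commutator_le]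
        intro a _ b _
        exact hcomE a b
    have h1 : (frattini S).map S.subtype ⊔ ⁅S, S⁆ ⊔ T ≤ E.map S.subtype := by
      refine sup_le (sup_le (Subgroup.map_mono hfr) ?_) ?_
      · rw [Subgroup.commutator_le]
        intro a ha b hb
        exact ⟨⁅(⟨a, ha⟩ : S), ⟨b, hb⟩⁆, hcomE _ _, rfl⟩
      · intro t ht
        have htS : t ∈ S := hyperfocal_le F p (hT ht)
        refine ⟨⟨t, htS⟩, ?_, rfl⟩
        rw [SetLike.mem_coe, hEmem]
        refine ⟨1, ?_⟩
        have htRF : (⟨t, htS⟩ : S) ∈ (F.hyperfocalSubgroup p).subgroupOf S :=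
          Subgroup.mem_subgroupOf.mpr (hT ht)
        have h2 := hμ ⟨⟨t, htS⟩, htRF⟩
        have hl : QuotientGroup.mk' K ⟨⟨t, htS⟩, htRF⟩ = 1 := by
          apply (QuotientGroup.eq_one_iff _).mpr
          rw [hK, Subgroup.mem_subgroupOf, hM]
          apply (le_sup_left : TS ≤ _)
          rw [hTS, Subgroup.mem_subgroupOf]
          exact ht
        rw [hl, one_pow] at h2
        rw [one_pow]
        exact h2.symm
    intro u
    obtain ⟨s, hs, hsu⟩ := h1 (h (Subgroup.mem_subgroupOf.mp u.2))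
    have hsu' : s = (u : S) := Subtype.ext hsu
    rw [← hEmem, ← hsu']
    exact hs
  have hsurj : ∀ a : ((F.hyperfocalSubgroup p).subgroupOf S) ⧸ K,
      ∃ b : ((F.hyperfocalSubgroup p).subgroupOf S) ⧸ K, b ^ p = a := by
    intro a
    obtain ⟨b, rfl⟩ := (hA.powEquiv' hpn).surjective a
    obtain ⟨u, rfl⟩ := QuotientGroup.mk_surjective b
    obtain ⟨c, hc⟩ := hE u
    refine ⟨c, ?_⟩
    rw [hc, hμ u]
    rfl
  have htriv := eq_one_of_pow_surj hA hsurj
  have hRFM : (F.hyperfocalSubgroup p).subgroupOf S ≤ M := by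
    intro u hu
    have h3 := (QuotientGroup.eq_one_iff _).mp (htriv (QuotientGroup.mk' K ⟨u, hu⟩))
    rw [hK, Subgroup.mem_subgroupOf] at h3
    exact h3
  haveI : Group.IsNilpotent S := hS.isNilpotent
  have h4 : (F.hyperfocalSubgroup p).subgroupOf S ≤ TS :=
    le_of_le_sup_commutator TS _ (by rw [← hM]; exact hRFM)
  intro y hy
  have hyS := hyperfocal_le F p hy
  have h5 := h4 (Subgroup.mem_subgroupOf.mpr hy : (⟨y, hyS⟩ : S) ∈ _)
  rw [hTS, Subgroup.mem_subgroupOf] at h5
  exact h5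

end Cfsg.Agent.Lib.Helper87.Tate
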