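import Mathlib
import Cfsg.Prelude.Def_FusionSystem
import Cfsg.Agent.Lib.Helper87.FSBasic
import Cfsg.Agent.Lib.Helper87.FSSat
import Cfsg.Agent.Lib.Helper87.FSLocal
import Cfsg.Agent.Lib.Helper87.ChainStab
import Cfsg.Agent.Lib.Helper87.FSNormal
import Cfsg.Agent.Lib.Helper87.FSGen
import Cfsg.Agent.Lib.Helper87.FSHyp
import Cfsg.Agent.Lib.Helper87.FSMisc
import Cfsg.Agent.Lib.Helper87.HypExt
import Cfsg.Agent.Lib.Helper87.Tate
import Cfsg.Agent.H84.FusSat2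
import Cfsg.Agent.S5096

/-!
# A Burnside-type criterion for a saturated fusion system to be inner

If `Aut_F(S)` consists of inner automorphisms and some strongly closed subgroup `T` satisfies
`[S, S] ≤ T ≤ Φ(S)`, then the saturated fusion system `F` over `S` is the inner fusion system.
-/

set_option autoImplicit false
open Cfsg

namespace Cfsg.Agent.Lib.Helper87.FSBurn

open Cfsg.FusionSystem
open Cfsg.Agent.Lib.Helper87.FSBasic Cfsg.Agent.Lib.Helper87.FSSat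
  Cfsg.Agent.Lib.Helper87.FSLocal Cfsg.Agent.Lib.Helper87.ChainStab
  Cfsg.Agent.Lib.Helper87.FSNormal Cfsg.Agent.Lib.Helper87.FSGen
  Cfsg.Agent.Lib.Helper87.FSHyp Cfsg.Agent.Lib.Helper87.FSMisc
  Cfsg.Agent.Lib.Helper87.HypExt Cfsg.Agent.Lib.Helper87.Tate

open scoped commutatorElement

variable {Ω : Type*} [Group Ω] {S : Subgroup Ω}

theorem inv_mul_conj_mem_commutator {x g : Ω} (hx : x ∈ S) (hg : g ∈ S) :
    x⁻¹ * (g * x * g⁻¹) ∈ ⁅S, S⁆ := by
  have e : x⁻¹ * (g * x * g⁻¹) = ⁅x⁻¹, g⁆ := by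
    rw [commutatorElement_def]
    group
  rw [e]
  exact Subgroup.commutator_mem_commutator (S.inv_mem hx) hg

/-- The subsystem of the maps of `F` acting trivially modulo `T ⊇ [S, S]`. -/
def trivSys (F : FusionSystem S) (T : Subgroup Ω) (hT : ⁅S, S⁆ ≤ T) : FusionSystem S where
  Hom P := {φ | φ ∈ F.Hom P ∧ ∀ x : P, (x : Ω)⁻¹ * φ x ∈ T}
  le_of_mem h := F.le_of_mem h.1
  injective_of_mem h := F.injective_of_mem h.1
  conj_mem := by
    intro P g hP hg
    exact ⟨F.conj_mem hP hg, fun x => hT (inv_mul_conj_mem_commutator (hP x.2) hg)⟩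
  comp_mem := by
    rintro P Q φ ψ ⟨hφ, hφ'⟩ ⟨hψ, hψ'⟩ h
    refine ⟨F.comp_mem hφ hψ h, fun x => ?_⟩
    have h1 := T.mul_mem (hφ' x) (hψ' (φ.codRestrict Q h x))
    have e : (x : Ω)⁻¹ * φ x * (((φ.codRestrict Q h x : Q) : Ω)⁻¹ * ψ (φ.codRestrict Q h x)) =
        (x : Ω)⁻¹ * ψ (φ.codRestrict Q h x) := by
      show (x : Ω)⁻¹ * φ x * ((φ x)⁻¹ * ψ (φ.codRestrict Q h x)) = _
      group
    rw [e] at h1
    exact h1
  inv_mem := by
    rintro P φ ⟨hφ, hφ'⟩
    obtain ⟨ψ, hψ, hinv⟩ := F.inv_mem hφ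
    refine ⟨ψ, ⟨hψ, ?_⟩, hinv⟩
    rintro ⟨y, x, rfl⟩
    have h1 := T.inv_mem (hφ' x)
    rw [mul_inv_rev, inv_inv] at h1
    have h2 := hinv x
    show (φ x)⁻¹ * ψ ⟨φ x, ⟨x, rfl⟩⟩ ∈ T
    rw [h2]
    exact h1

/-- A subgroup containing `[S, S]` is normalized by `S`. -/
theorem le_normalizer_of_commutator_le {Y : Subgroup Ω} (hYS : Y ≤ S) (h : ⁅S, S⁆ ≤ Y) :
    S ≤ Subgroup.normalizer (Y : Set Ω) := by
  apply le_normalizer_of_conj_mem
  intro s hs y hy
  have h1 := Y.mul_mem hy (h (inv_mul_conj_mem_commutator (hYS hy) hs))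
  rw [mul_inv_cancel_left] at h1
  exact h1

/-- A subgroup of `S` normalized by `S` is fully normalized. -/
theorem fullyNormalized_of_le_normalizer [Finite S] (F : FusionSystem S) {Y : Subgroup Ω}
    (hYS : Y ≤ S) (hYN : S ≤ Subgroup.normalizer (Y : Set Ω)) : F.IsFullyNormalized Y := by
  refine ⟨hYS, fun Q' _ => ?_⟩
  have hfinN : Finite (normalizerIn S Y) := finite_of_le inf_le_left
  have h1 : Nat.card (normalizerIn S Q') ≤ Nat.card S := Subgroup.card_le_of_le inf_le_left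
  have h2 : Nat.card S ≤ Nat.card (normalizerIn S Y) :=
    Subgroup.card_le_of_le (le_inf le_rfl hYN)
  exact h1.trans h2

/-- If `Aut_F(S)` is inner and `[S, S] ≤ T ≤ Y`, every `F`-automorphism of `Y` stabilizing `T`
acts trivially on `Y / T`. -/
theorem aut_trivial_mod [Finite S] {p : ℕ} [Fact p.Prime] (hS : IsPGroup p S)
    (F : FusionSystem S) (hF : F.IsSaturated p)
    (hinn : ∀ φ ∈ F.Hom S, ∃ g ∈ S, ∀ x : S, φ x = g * (x : Ω) * g⁻¹)
    (T : Subgroup Ω) (hcomm : ⁅S, S⁆ ≤ T)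
    (Y : Subgroup Ω) (hTY : T ≤ Y) (hYS : Y ≤ S)
    (hstab : ∀ β ∈ F.autGroup Y, ∀ x : Y, (x : Ω) ∈ T → ((β x : Y) : Ω) ∈ T)
    (α : MulAut Y) (hα : α ∈ F.autGroup Y) (x : Y) : (x : Ω)⁻¹ * ((α x : Y) : Ω) ∈ T := by
  classical
  have hfinY : Finite Y := finite_of_le hYS
  have hYN : S ≤ Subgroup.normalizer (Y : Set Ω) :=
    le_normalizer_of_commutator_le hYS (hcomm.trans hTY)
  have hfn : F.IsFullyNormalized Y := fullyNormalized_of_le_normalizer F hYS hYN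
  have hfa := Cfsg.Agent.H84.fullyAutomized_of_fn hS F hF hfn
  have hrec := Cfsg.Agent.H84.receptive_of_fc hS F hF
    (Cfsg.Agent.H84.fullyCentralized_of_fn hS F hF hfn)
  let D : ℕ → Subgroup Y := fun j =>
    match j with
    | 0 => ⊤
    | _ + 1 => T.subgroupOf Y
  have hinv : ∀ β ∈ F.autGroup Y, ∀ j, ∀ x ∈ D j, β x ∈ D j := by
    intro β hβ j x hx
    match j with
    | 0 => trivial
    | k + 1 =>
      exact Subgroup.mem_subgroupOf.mpr (hstab β hβ x (Subgroup.mem_subgroupOf.mp hx))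
  have hsyl : ∀ K : Subgroup (MulAut Y), K ≤ F.autGroup Y → IsPGroup p K →
      ∃ χ ∈ F.autGroup Y, ∀ β ∈ K, χ * β * χ⁻¹ ∈ autInducedBy S Y :=
    fun K hK hKp => exists_conj_le_autS F hfa K hKp hK
  obtain ⟨n, hn, ν, hν, hαeq, hνnorm⟩ :=
    frattini_decomp (F.autGroup Y) (chainStab (F.autGroup Y) D hinv) (autInducedBy S Y)
      (chainStab_le _ _ _) (chainStab_normal _ _ _) (isPGroup_autInducedBy hS Y) hsyl α hα
  have hcg : ∀ (g : Ω) (hgS : g ∈ S), Y.normalizerMonoidHom ⟨g, hYN hgS⟩ ∈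
      autInducedBy S Y ⊓ chainStab (F.autGroup Y) D hinv := by
    intro g hgS
    refine ⟨conj_mem_autInducedBy hgS (hYN hgS),
      autInducedBy_le_autGroup F hYS (conj_mem_autInducedBy hgS (hYN hgS)), ?_⟩
    intro j y hy
    exact Subgroup.mem_subgroupOf.mpr (hcomm (inv_mul_conj_mem_commutator (hYS y.2) hgS))
  have hφν := autGroup_hom F hYS hν
  have hSext : S ≤ FusionSystem.extender S Y (Y.subtype.comp ν.toMonoidHom) := by
    intro g hgS
    apply Subgroup.subset_closure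
    obtain ⟨h, hhS, hh⟩ :=
      (Cfsg.Agent.Lib.Helper87.FSBasic.mem_autInducedBy_iff _).1 (hνnorm _ (hcg g hgS)).1
    refine ⟨hgS, hYN hgS, h, hhS, fun y hy => ?_⟩
    have h1 := hh (ν y)
    rw [MulAut.mul_apply, MulAut.mul_apply, MulAut.inv_apply_self] at h1
    exact h1
  obtain ⟨ψ, hψ, hext⟩ := hrec.2 Y _ hφν (range_autHom ν)
  have hψS := restrict_mem F hψ hSext
  obtain ⟨s, hs, hsψ⟩ := hinn _ hψS
  have hνs : ∀ y : Y, ((ν y : Y) : Ω) = s * (y : Ω) * s⁻¹ := by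
    intro y
    have h1 := hext y y.2 (hSext (hYS y.2))
    have h2 := hsψ ⟨y, hYS y.2⟩
    exact h1.symm.trans h2
  have h3 : (((ν x : Y) : Ω))⁻¹ * ((n (ν x) : Y) : Ω) ∈ T :=
    Subgroup.mem_subgroupOf.mp (hn.2 0 (ν x) trivial)
  have h4 : (x : Ω)⁻¹ * ((ν x : Y) : Ω) ∈ T := by
    rw [hνs x]
    exact hcomm (inv_mul_conj_mem_commutator (hYS x.2) hs)
  have h5 := T.mul_mem h4 h3
  rw [hαeq]
  have e : (x : Ω)⁻¹ * ((ν x : Y) : Ω) * ((((ν x : Y) : Ω))⁻¹ * ((n (ν x) : Y) : Ω)) =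
      (x : Ω)⁻¹ * (((n * ν) x : Y) : Ω) := by
    show _ = (x : Ω)⁻¹ * ((n (ν x) : Y) : Ω)
    group
  rw [e] at h5
  exact h5

/-- **Burnside-type criterion.** If `Aut_F(S)` is inner and a strongly closed subgroup `T`
satisfies `[S, S] ≤ T ≤ Φ(S)`, the saturated system `F` is the inner fusion system of `S`. -/
theorem eq_inner_of_stronglyClosed [Finite S] {p : ℕ} [Fact p.Prime] (hS : IsPGroup p S)
    (F : FusionSystem S) (hF : F.IsSaturated p)
    (hinn : ∀ φ ∈ F.Hom S, ∃ g ∈ S, ∀ x : S, φ x = g * (x : Ω) * g⁻¹)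
    (T : Subgroup Ω) (hT : F.StronglyClosed T) (hcomm : ⁅S, S⁆ ≤ T)
    (hTfr : T ≤ (frattini S).map S.subtype) :
    ∀ P : Subgroup Ω, F.Hom P = (innerFusionSystem S).Hom P := by
  have hsub : ∀ P : Subgroup Ω, F.Hom P ⊆ (trivSys F T hcomm).Hom P := by
    refine le_of_stronglyClosed hS F hF T hT (trivSys F T hcomm) ?_ ?_
    · intro Y hTY α hα hr
      refine ⟨hα, fun x => ?_⟩
      have hY := dom_le F hα
      exact aut_trivial_mod hS F hF hinn T hcomm Y hTY hY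
        (fun β hβ y hy => stronglyClosed_maps F hT (autGroup_hom F hY hβ) y hy)
        (autOfMap α (F.injective_of_mem hα) hr) (autOfMap_mem F hα hr) x
    · intro Y β hβ hr h
      exact ⟨hβ, h⟩
  have hhyp : F.hyperfocalSubgroup p ≤ T := by
    unfold FusionSystem.hyperfocalSubgroup
    rw [Subgroup.closure_le]
    rintro _ ⟨P, α, x, hP, -, rfl⟩
    exact (hsub P (autGroup_hom F hP α.2)).2 x
  have hbot : F.hyperfocalSubgroup p ≤ ⊥ := by
    apply hyp_le_of_le_frattini_sup hS F hF ⊥ bot_le (fun s _ t ht => by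
      rw [Subgroup.mem_bot] at ht ⊢
      rw [ht]
      group)
    exact hhyp.trans (hTfr.trans (le_sup_left.trans le_sup_left))
  intro P
  apply Set.Subset.antisymm
  · intro φ hφ
    obtain ⟨s, hs, h⟩ := hom_conj_mod_hyp hS F hF hφ
    refine ⟨dom_le F hφ, s, hs, fun x => ?_⟩
    have h1 := hbot (h x)
    rw [Subgroup.mem_bot, inv_mul_eq_one] at h1
    exact h1.symm
  · exact inner_le F P

/-- If the normalizer system of `S` in `F` is inner, every `F`-automorphism of `S` is inner. -/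
theorem inn_of_normalizer [Finite S] (F : FusionSystem S)
    (hN : ∀ N : FusionSystem (normalizerIn S S), F.IsNormalizerSystem S N →
      ∀ P : Subgroup Ω, N.Hom P = (innerFusionSystem (normalizerIn S S)).Hom P) :
    ∀ φ ∈ F.Hom S, ∃ g ∈ S, ∀ x : S, φ x = g * (x : Ω) * g⁻¹ := by
  intro φ hφ
  obtain ⟨N, hNs⟩ := Cfsg.Agent.S5096.result F S le_rfl
  have h1 : φ ∈ N.Hom S := by
    rw [hNs S]
    have hSN : S ≤ normalizerIn S S := le_inf le_rfl Subgroup.le_normalizer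
    refine ⟨hφ, hSN, fun x => hSN (map_mem F hφ x),
      φ.comp (Subgroup.inclusion (sup_le le_rfl le_rfl)), restrict_mem F hφ _, fun x => rfl, ?_⟩
    apply le_antisymm
    · rintro _ ⟨y, _, rfl⟩
      exact map_mem F hφ _
    · intro y hy
      have hr := range_eq_top F hφ
      rw [← hr] at hy
      obtain ⟨x, rfl⟩ := hy
      exact ⟨⟨x, (le_sup_left : S ≤ S ⊔ S) x.2⟩, Subgroup.mem_subgroupOf.mpr x.2, rfl⟩
  rw [hN N hNs S] at h1
  obtain ⟨_, g, hg, h⟩ := h1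
  exact ⟨g, hg.1, h⟩

theorem frattini_map_congr {S S₁ : Subgroup Ω} (h : S₁ = S) :
    (frattini S₁).map S₁.subtype = (frattini S).map S.subtype := by
  subst h
  rfl

end Cfsg.Agent.Lib.Helper87.FSBurn
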