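import Mathlib
import Cfsg.Agent.Lib.Helper23.HNStmt

/-!
S1438 piece FUSH (call by helper23), split into three steps (helper87).

`x ∈ H`, `m x m⁻¹ ∈ H`.
* STEP A (Frattini in `S`): `n₀ ∈ N(H)`, `s ∈ S` with `s (n₀ x n₀⁻¹) s⁻¹ = m x m⁻¹`.
* STEP B (`S / F` nilpotent): for `s ∈ S`: `n₁ ∈ N(H)`, `f ∈ F` with `f (n₁ x n₁⁻¹) f⁻¹ = s x s⁻¹`.
* STEP C (`F` nilpotent): for `f ∈ F`: `h₀ ∈ H` with `h₀ x h₀⁻¹ = f x f⁻¹`.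
`fusHall_of` assembles them.
-/

set_option autoImplicit false

namespace Cfsg.Agent.Lib.Helper87.FUSHStmt

universe u

open Cfsg.Agent.Lib.Helper23.HNStmt

/-- STEP A.  `m H m⁻¹ ≤ S` is a Hall subgroup of `S` of the order of `H`; `HallConj` gives `s ∈ S`
with `m H m⁻¹ = s H s⁻¹`; `n₀ = s⁻¹ m ∈ N(H)`. -/
def StepA : Prop :=
  ∀ {X : Type u} [Group X] [Finite X] (S H : Subgroup X), Group.IsSolvable S → S.Normal → H ≤ S →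
    (Nat.card H).Coprime (H.relIndex S) →
    ∀ x ∈ H, ∀ m : X, m * x * m⁻¹ ∈ H →
      ∃ n₀ ∈ Subgroup.normalizer (H : Set X), ∃ s ∈ S, n₀ * x * n₀⁻¹ ∈ H ∧
        s * (n₀ * x * n₀⁻¹) * s⁻¹ = m * x * m⁻¹

/-- STEP B.  `π = mk' F`; `π H` is a Hall subgroup of the nilpotent `π S ≤ π D`, so
`π (s H s⁻¹) = π H` (`HallNilUniq`), `s H s⁻¹ ≤ H ⊔ F`; `HallConj` in `H ⊔ F` (solvable):
`s H s⁻¹ = g H g⁻¹`, `g = f h` (`F` normal), so `= f H f⁻¹`; `n₁ = f⁻¹ s ∈ N(H)`. -/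
def StepB : Prop :=
  ∀ {X : Type u} [Group X] [Finite X], Group.IsSolvable X →
  ∀ (S F D H : Subgroup X) [F.Normal], F ≤ S → S ≤ D →
    Group.IsNilpotent ↥(D.map (QuotientGroup.mk' F)) →
    H ≤ S → (Nat.card H).Coprime (H.relIndex S) →
    ∀ x ∈ H, ∀ s ∈ S, s * x * s⁻¹ ∈ H →
      ∃ n₁ ∈ Subgroup.normalizer (H : Set X), ∃ f ∈ F, n₁ * x * n₁⁻¹ ∈ H ∧
        f * (n₁ * x * n₁⁻¹) * f⁻¹ = s * x * s⁻¹

/-- STEP C.  `A = H ⊓ F` is a normal Hall subgroup of the nilpotent `F`, with a complement `R`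
normalized by `x` (`HallNilUniq`), `R ⊓ H = ⊥`; `f = h₀ r`: `r x r⁻¹ x⁻¹ ∈ R ⊓ H = ⊥`. -/
def StepC : Prop :=
  ∀ {X : Type u} [Group X] [Finite X] (S F H : Subgroup X) [F.Normal], F ≤ S →
    Group.IsNilpotent F → H ≤ S → (Nat.card H).Coprime (H.relIndex S) →
    ∀ x ∈ H, ∀ f ∈ F, f * x * f⁻¹ ∈ H →
      ∃ h₀ ∈ H, h₀ * x * h₀⁻¹ = f * x * f⁻¹

theorem fusHall_of (hA : StepA.{u}) (hB : StepB.{u}) (hC : StepC.{u}) : FusHall.{u} := by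
  intro X _ _ hsolv S F D H hFn hSn hFS hSD hFnil _ hDnil hHS hHall x hx m hm
  haveI := hsolv
  have hSsolv : Group.IsSolvable S := inferInstance
  obtain ⟨n₀, hn₀, s, hs, hx₀, e₀⟩ := hA S H hSsolv hSn hHS hHall x hx m hm
  have hsx : s * (n₀ * x * n₀⁻¹) * s⁻¹ ∈ H := by rw [e₀]; exact hm
  obtain ⟨n₁, hn₁, f, hf, hx₁, e₁⟩ := hB hsolv S F D H hFS hSD hDnil hHS hHall _ hx₀ s hs hsx
  have hfx : f * (n₁ * (n₀ * x * n₀⁻¹) * n₁⁻¹) * f⁻¹ ∈ H := by rw [e₁]; exact hsx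
  obtain ⟨h₀, hh₀, e₂⟩ := hC S F H hFS hFnil hHS hHall _ hx₁ f hf hfx
  refine ⟨h₀ * n₁ * n₀, ?_, ?_⟩
  · exact Subgroup.mul_mem _ (Subgroup.mul_mem _ (Subgroup.le_normalizer hh₀) hn₁) hn₀
  · have h1 : h₀ * n₁ * n₀ * x * (h₀ * n₁ * n₀)⁻¹ =
        h₀ * (n₁ * (n₀ * x * n₀⁻¹) * n₁⁻¹) * h₀⁻¹ := by group
    rw [h1, e₂, e₁, e₀]

end Cfsg.Agent.Lib.Helper87.FUSHStmt
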