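import Mathlib
import Cfsg.Agent.Lib.Helper16.BRStmt
import Cfsg.Agent.Lib.CT.Wedderburn
import Cfsg.Agent.Lib.CT.Ops

set_option autoImplicit false

/-! Piece [MS] of S0999 / S4701 (Brauer–Reynolds): the multiplicities in the case `δ = -1`. -/

namespace Cfsg.Agent.Lib.Helper87.BRMS

open Cfsg Cfsg.Agent.Lib.CT.ThirdMain Cfsg.Agent.Lib.Helper16.BRSpec
  Cfsg.Agent.Lib.CT.Wedderburn
open scoped ComplexConjugate

universe u

section Arith

/-- `1 + n p = t f` -/
theorem v_eq {p e t n f : ℕ} (hpe : p = e * t + 1) (hn : n + 1 = t) (hfe : f + e = p) :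
    1 + n * p = t * f := by
  subst hn
  have hf : f = e * n + 1 := by
    have : f + e = e * n + e + 1 := by rw [hfe, hpe]; ring
    omega
  subst hf
  rw [hpe]; ring

theorem arith_zero {p e t n f α k z : ℕ} (hp : p.Prime) (hpe : p = e * t + 1) (he : 2 ≤ e)
    (hfe : f + e = p) (hf : 0 < f) (hk : k ≤ t)
    (h : 1 + (1 + n * p) * α + f * k + p * z = 1 + n * p) : α = 0 ∧ k = 0 ∧ z = n := by
  have hα : α = 0 := by
    by_contra hα
    have : 1 + n * p ≤ (1 + n * p) * α := Nat.le_mul_of_pos_right _ (Nat.pos_of_ne_zero hα)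
    omega
  subst hα
  have h1 : f * k + p * z = n * p := by
    rw [Nat.mul_zero] at h; omega
  have hzn : z ≤ n := by
    by_contra hz
    push Not at hz
    have : p * n < p * z := Nat.mul_lt_mul_of_pos_left hz hp.pos
    have : n * p = p * n := Nat.mul_comm _ _
    omega
  have h2 : p ∣ f * k := ⟨n - z, by
    rw [Nat.mul_sub, Nat.mul_comm p n]; omega⟩
  have hfp : ¬ p ∣ f := by
    intro hd
    have := Nat.le_of_dvd hf hd
    omega
  have hkp : p ∣ k := (hp.dvd_mul.mp h2).resolve_left hfp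
  have hk0 : k = 0 := by
    by_contra hk0
    have := Nat.le_of_dvd (Nat.pos_of_ne_zero hk0) hkp
    have : t ≤ e * t := Nat.le_mul_of_pos_left t (by omega)
    omega
  subst hk0
  refine ⟨rfl, rfl, ?_⟩
  have : p * z = p * n := by rw [Nat.mul_comm p n]; omega
  exact Nat.eq_of_mul_eq_mul_left hp.pos this

theorem arith_pos {p e t n f α k z : ℕ} (hpe : p = e * t + 1) (he : 2 ≤ e)
    (hn : n + 1 = t) (hfe : f + e = p) (hf : 0 < f) (hk : k ≤ t)
    (h : (1 + n * p) * α + f * k + p * z = 1 + n * p) :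
    (α = 1 ∧ k = 0 ∧ z = 0) ∨ (α = 0 ∧ k = t ∧ z = 0) := by
  have hp : 0 < p := by omega
  rcases Nat.eq_zero_or_pos α with hα | hα
  · right
    subst hα
    have h1 : f * k + p * z = 1 + n * p := by simpa using h
    have h2 : e * k + f * k = p * k := by rw [← hfe]; ring
    have h3 : p * (k + z) = 1 + e * k + n * p := by rw [Nat.mul_add]; omega
    have hnz : n < k + z := by
      by_contra hcon
      push Not at hcon
      have : p * (k + z) ≤ p * n := Nat.mul_le_mul_left p hcon
      have : p * n = n * p := Nat.mul_comm _ _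
      omega
    have h4 : p * (k + z - n) = 1 + e * k := by
      rw [Nat.mul_sub, Nat.mul_comm p n]; omega
    have h5 : p ≤ 1 + e * k := by
      have : 0 < k + z - n := by omega
      calc p = p * 1 := (Nat.mul_one p).symm
        _ ≤ p * (k + z - n) := Nat.mul_le_mul_left p this
        _ = 1 + e * k := h4
    have h6 : t ≤ k := by
      have : e * t ≤ e * k := by omega
      exact Nat.le_of_mul_le_mul_left this (by omega)
    have hkt : k = t := le_antisymm hk h6
    refine ⟨rfl, hkt, ?_⟩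
    have hv := v_eq hpe hn hfe
    have : p * z = 0 := by
      rw [hkt] at h1
      have : f * t = t * f := Nat.mul_comm _ _
      omega
    rcases Nat.mul_eq_zero.mp this with h | h
    · omega
    · exact h
  · left
    have h1 : 1 + n * p ≤ (1 + n * p) * α := Nat.le_mul_of_pos_right _ hα
    have h2 : (1 + n * p) * α = 1 + n * p := by omega
    have h3 : f * k = 0 := by omega
    have h4 : p * z = 0 := by omega
    refine ⟨?_, ?_, ?_⟩
    · have : (1 + n * p) * α = (1 + n * p) * 1 := by rw [h2, Nat.mul_one]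
      exact Nat.eq_of_mul_eq_mul_left (by omega) this
    · rcases Nat.mul_eq_zero.mp h3 with h | h
      · omega
      · exact h
    · rcases Nat.mul_eq_zero.mp h4 with h | h
      · omega
      · exact h

theorem unit_sum {m : ℕ → ℕ} {e : ℕ} (h : ∑ i ∈ Finset.range e, m i = 1) :
    ∃ i0, i0 < e ∧ m i0 = 1 ∧ ∀ i, i < e → i ≠ i0 → m i = 0 := by
  have hex : ∃ i0 ∈ Finset.range e, m i0 ≠ 0 := by
    by_contra hcon
    push Not at hcon
    rw [Finset.sum_eq_zero hcon] at h
    exact zero_ne_one h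
  obtain ⟨i0, hi0, hm⟩ := hex
  have hsplit := Finset.add_sum_erase (Finset.range e) m hi0
  rw [h] at hsplit
  have h1 : m i0 = 1 := by omega
  have h2 : ∑ x ∈ (Finset.range e).erase i0, m x = 0 := by omega
  refine ⟨i0, Finset.mem_range.mp hi0, h1, fun i hi hne => ?_⟩
  exact Finset.sum_eq_zero_iff.mp h2 i (Finset.mem_erase.mpr ⟨hne, Finset.mem_range.mpr hi⟩)

end Arith

section Sums

theorem sum_partition {ι : Type*} [Fintype ι] [DecidableEq ι] (τ : ι) (A B Y Z : Set ι)
    [DecidablePred (· ∈ A)] [DecidablePred (· ∈ B)] [DecidablePred (· ∈ Y)]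
    [DecidablePred (· ∈ Z)]
    (htA : τ ∉ A) (htB : τ ∉ B) (htY : τ ∉ Y) (hAB : Disjoint A B) (hAY : Disjoint A Y)
    (hBY : Disjoint B Y) (hZ : ∀ χ, χ ∈ Z ↔ (χ ≠ τ ∧ χ ∉ A ∧ χ ∉ B ∧ χ ∉ Y)) (g : ι → ℕ) :
    ∑ χ, g χ = g τ + ∑ χ, (if χ ∈ A then g χ else 0) + ∑ χ, (if χ ∈ B then g χ else 0)
      + ∑ χ, (if χ ∈ Y then g χ else 0) + ∑ χ, (if χ ∈ Z then g χ else 0) := by
  have h0 : g τ = ∑ χ, (if χ = τ then g χ else 0) := by
    rw [Finset.sum_ite_eq' Finset.univ τ g]; simp
  rw [h0, ← Finset.sum_add_distrib, ← Finset.sum_add_distrib, ← Finset.sum_add_distrib,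
    ← Finset.sum_add_distrib]
  apply Finset.sum_congr rfl
  intro χ _
  by_cases h1 : χ = τ
  · subst h1
    have hz : χ ∉ Z := fun h => ((hZ χ).mp h).1 rfl
    simp [htA, htB, htY, hz]
  · by_cases hA : χ ∈ A
    · have hB : χ ∉ B := fun hB => Set.disjoint_left.mp hAB hA hB
      have hY : χ ∉ Y := fun hY => Set.disjoint_left.mp hAY hA hY
      have hz : χ ∉ Z := fun h => ((hZ χ).mp h).2.1 hA
      simp [h1, hA, hB, hY, hz]
    · by_cases hB : χ ∈ B
      · have hY : χ ∉ Y := fun hY => Set.disjoint_left.mp hBY hB hY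
        have hz : χ ∉ Z := fun h => ((hZ χ).mp h).2.2.1 hB
        simp [h1, hA, hB, hY, hz]
      · by_cases hY : χ ∈ Y
        · have hz : χ ∉ Z := fun h => ((hZ χ).mp h).2.2.2 hY
          simp [h1, hA, hB, hY, hz]
        · have hz : χ ∈ Z := (hZ χ).mpr ⟨h1, hA, hB, hY⟩
          simp [h1, hA, hB, hY, hz]

theorem finsum_mem_eq_sum_ite {ι : Type*} [Fintype ι] (S : Set ι) [DecidablePred (· ∈ S)]
    (g : ι → ℕ) : ∑ᶠ χ ∈ S, g χ = ∑ χ : ι, (if χ ∈ S then g χ else 0) := by
  rw [finsum_mem_def, finsum_eq_sum_of_fintype]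
  apply Finset.sum_congr rfl
  intro χ _
  by_cases h : χ ∈ S
  · rw [Set.indicator_of_mem h, if_pos h]
  · rw [Set.indicator_of_notMem h, if_neg h]

theorem sum_ind_eq_ncard {ι : Type*} [Fintype ι] (S : Set ι) [DecidablePred (· ∈ S)] :
    ∑ χ : ι, (if χ ∈ S then 1 else 0) = S.ncard := by
  rw [← finsum_mem_eq_sum_ite S (fun _ => 1), finsum_mem_eq_finite_toFinset_sum _ (Set.toFinite S),
    Finset.sum_const, smul_eq_mul, mul_one, Set.ncard_eq_toFinset_card S (Set.toFinite S)]

theorem finsum_P_split {G : Type*} [Group G] [Finite G] (P : Subgroup G) (φ : G → ℂ) :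
    ∑ᶠ x ∈ (P : Set G), φ x = φ 1 + ∑ᶠ z ∈ ((P : Set G) \ {1}), φ z := by
  have hfin : (P : Set G).Finite := Set.toFinite _
  have h := finsum_mem_add_sdiff (f := φ) (s := {1}) (t := (P : Set G))
    (by simp) hfin
  rw [finsum_mem_singleton] at h
  exact h.symm

theorem finsum_P_const {G : Type*} [Group G] [Finite G] (P : Subgroup G) (φ : G → ℂ) (c : ℂ)
    (h : ∀ z ∈ P, z ≠ 1 → φ z = c) :
    ∑ᶠ z ∈ ((P : Set G) \ {1}), φ z = ((Nat.card P - 1 : ℕ) : ℂ) * c := by
  have hfin : ((P : Set G) \ {1}).Finite := Set.toFinite _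
  rw [finsum_mem_congr rfl (fun z hz => h z hz.1 hz.2),
    finsum_mem_eq_finite_toFinset_sum _ hfin, Finset.sum_const, nsmul_eq_mul]
  congr 2
  rw [← Set.ncard_eq_toFinset_card _ hfin, Set.ncard_sdiff_singleton_of_mem (P.one_mem),
    ← Nat.card_coe_set_eq]
  rfl

end Sums

theorem main : Cfsg.Agent.Lib.Helper16.BRStmt.MsOfTab.{u} := by
  intro G _ _ p _ P e t n a b f A B Y hT y ω mult hR
  classical
  have hp : p.Prime := Fact.out
  have : Finite (IrrCharacter G) := finite_irrCharacter G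
  let _ : Fintype (IrrCharacter G) := Fintype.ofFinite _
  have hfe : f + e = p := by
    rcases hT.hcase with h | h
    · exact absurd h.1 (by norm_num)
    · exact h.2.1
  have he := hT.he
  have ht := hT.ht
  have hn := hT.hn
  have hpe := hT.hpe
  have hf : 0 < f := by
    have : e ≤ e * t := Nat.le_mul_of_pos_right e (by omega)
    omega
  have hv : 1 + n * p = t * f := v_eq hpe hn hfe
  have hcardP : Nat.card (P : Subgroup G) = p := hT.hP
  have ht1 : ∀ g : G, ((triv G : IrrCharacter G) : G → ℂ) g = 1 := fun g => by rw [coe_triv]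
  have hd : ∀ χ : IrrCharacter G, (χ : G → ℂ) 1 = (charDegree (χ : G → ℂ) : ℂ) := fun χ =>
    (char_natCast_charDegree (isCharacter_of_irr χ.2)).symm
  -- the row sums of the multiplicities
  obtain ⟨s, hs⟩ : ∃ s : IrrCharacter G → ℕ, ∀ χ, s χ = ∑ i ∈ Finset.range e, mult χ i :=
    ⟨_, fun _ => rfl⟩
  have hr2 : ∀ χ : IrrCharacter G, ((p * s χ : ℕ) : ℂ) =
      (χ : G → ℂ) 1 + ∑ᶠ z ∈ (((P : Subgroup G) : Set G) \ {1}), (χ : G → ℂ) z := by
    intro χ
    rw [← finsum_P_split, ← hR.r2 χ, hs χ]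
    push_cast
    ring
  have hs_triv : s (triv G) = 1 := by
    have h := hr2 (triv G)
    rw [finsum_P_const (P : Subgroup G) _ 1 (fun z _ _ => ht1 z), hcardP, ht1] at h
    have h' : ((p * s (triv G) : ℕ) : ℂ) = ((1 + (p - 1) : ℕ) : ℂ) := by
      rw [h]; push_cast; ring
    have h2 : p * s (triv G) = 1 + (p - 1) := Nat.cast_injective h'
    have h3 : p * s (triv G) = p * 1 := by have := hp.pos; omega
    exact Nat.eq_of_mul_eq_mul_left hp.pos h3
  have hs_A : ∀ χ ∈ A, s χ = t := by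
    intro χ hχ
    have h := hr2 χ
    rw [finsum_P_const (P : Subgroup G) _ 1 (hT.hA χ hχ).2, hcardP, (hT.hA χ hχ).1] at h
    have h' : ((p * s χ : ℕ) : ℂ) = ((1 + n * p + (p - 1) : ℕ) : ℂ) := by
      rw [h]; push_cast; ring
    have h2 : p * s χ = 1 + n * p + (p - 1) := Nat.cast_injective h'
    have h3 : p * s χ = p * t := by
      rw [← hn]
      have : p * (n + 1) = n * p + p := by ring
      have := hp.pos
      omega
    exact Nat.eq_of_mul_eq_mul_left hp.pos h3
  have hs_B : ∀ χ ∈ B, s χ = 0 := by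
    intro χ hχ
    have h := hr2 χ
    rw [finsum_P_const (P : Subgroup G) _ (-1) (hT.hB χ hχ).2, hcardP, (hT.hB χ hχ).1] at h
    have h' : ((p * s χ : ℕ) : ℂ) = ((0 : ℕ) : ℂ) := by
      rw [h]; push_cast; ring
    have h2 : p * s χ = 0 := Nat.cast_injective h'
    rcases Nat.mul_eq_zero.mp h2 with h3 | h3
    · exact absurd h3 hp.pos.ne'
    · exact h3
  have hs_Y : ∀ θ ∈ Y, s θ = 1 := by
    intro θ hθ
    have h := hr2 θ
    rw [hT.hYs θ hθ, hT.hY1 θ hθ] at h
    have h' : ((p * s θ : ℕ) : ℂ) = ((f + e : ℕ) : ℂ) := by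
      rw [h]; push_cast; ring
    have h2 : p * s θ = f + e := Nat.cast_injective h'
    have h3 : p * s θ = p * 1 := by omega
    exact Nat.eq_of_mul_eq_mul_left hp.pos h3
  have hs_Z : ∀ χ ∈ Zset A B Y, charDegree (χ : G → ℂ) = p * s χ := by
    intro χ hχ
    have h := hr2 χ
    rw [finsum_P_const (P : Subgroup G) _ 0 (hT.hZ χ hχ), hd χ] at h
    have h' : ((p * s χ : ℕ) : ℂ) = ((charDegree (χ : G → ℂ) : ℕ) : ℂ) := by
      rw [h]; ring
    exact (Nat.cast_injective h').symm
  have hle : ∀ χ : IrrCharacter G, ∀ i, i < e → mult χ i ≤ s χ := by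
    intro χ i hi
    rw [hs]
    exact Finset.single_le_sum (f := mult χ) (fun j _ => Nat.zero_le _) (Finset.mem_range.mpr hi)
  -- the trivial character
  have hmT : ∀ i, i < e → mult (triv G) i = if i = 0 then 1 else 0 := by
    obtain ⟨i0, hi0, hm1, hm0⟩ := unit_sum (m := mult (triv G)) (by rw [← hs]; exact hs_triv)
    have h3 := hR.r3 (triv G) 1 (by norm_num) (by omega)
    rw [ht1, Finset.sum_eq_single i0
      (fun i hi hne => by rw [hm0 i (Finset.mem_range.mp hi) hne]; simp)
      (fun h => absurd (Finset.mem_range.mpr hi0) h), hm1] at h3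
    have h4 : ω ^ i0 = 1 := by simpa using h3.symm
    have h5 : e ∣ i0 := (hR.hω.pow_eq_one_iff_dvd i0).mp h4
    have h6 : i0 = 0 := Nat.eq_zero_of_dvd_of_lt h5 hi0
    subst h6
    intro i hi
    split_ifs with h
    · rw [h]; exact hm1
    · exact hm0 i hi h
  have hmB : ∀ χ ∈ B, ∀ i, i < e → mult χ i = 0 := by
    intro χ hχ i hi
    have := hle χ i hi
    rw [hs_B χ hχ] at this
    omega
  -- the degree equation
  have hidx : (Subgroup.normalizer ((P : Subgroup G) : Set G)).index = 1 + n * p := by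
    have h := Subgroup.card_mul_index (Subgroup.normalizer ((P : Subgroup G) : Set G))
    rw [hT.hN, hT.hG] at h
    have hpe0 : 0 < p * e := Nat.mul_pos hp.pos (by omega)
    exact Nat.eq_of_mul_eq_mul_left hpe0 (by rw [h]; ring)
  have hR1 : ∀ i, i < e →
      ∑ χ : IrrCharacter G, mult χ i * charDegree (χ : G → ℂ) = 1 + n * p := by
    intro i hi
    have h := hR.r1 i hi
    rw [finsum_eq_sum_of_fintype, hidx] at h
    have h' : ((∑ χ : IrrCharacter G, mult χ i * charDegree (χ : G → ℂ) : ℕ) : ℂ) =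
        ((1 + n * p : ℕ) : ℂ) := by
      rw [← h, Nat.cast_sum]
      apply Finset.sum_congr rfl
      intro χ _
      rw [Nat.cast_mul, hd χ]
    exact Nat.cast_injective h'
  obtain ⟨α, hα⟩ : ∃ α : ℕ → ℕ, ∀ i, α i = ∑ χ : IrrCharacter G, (if χ ∈ A then mult χ i else 0) :=
    ⟨_, fun _ => rfl⟩
  obtain ⟨k, hk⟩ : ∃ k : ℕ → ℕ, ∀ i, k i = ∑ χ : IrrCharacter G, (if χ ∈ Y then mult χ i else 0) :=
    ⟨_, fun _ => rfl⟩
  obtain ⟨z, hz⟩ : ∃ z : ℕ → ℕ, ∀ i, z i =
      ∑ χ : IrrCharacter G, (if χ ∈ Zset A B Y then mult χ i * s χ else 0) := ⟨_, fun _ => rfl⟩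
  have hdT : charDegree ((triv G : IrrCharacter G) : G → ℂ) = 1 :=
    charDegree_eq_of_apply_one (n := 1) (by rw [ht1]; simp)
  have hstar : ∀ i, i < e →
      (if i = 0 then 1 else 0) + (1 + n * p) * α i + f * k i + p * z i = 1 + n * p := by
    intro i hi
    have h := hR1 i hi
    rw [sum_partition (triv G) A B Y (Zset A B Y) hT.htA hT.htB hT.htY hT.hAB hT.hAY hT.hBY
      (fun χ => Iff.rfl)] at h
    have e0 : mult (triv G) i * charDegree ((triv G : IrrCharacter G) : G → ℂ) =
        if i = 0 then 1 else 0 := by rw [hdT, Nat.mul_one, hmT i hi]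
    have eA : ∑ χ : IrrCharacter G, (if χ ∈ A then mult χ i * charDegree (χ : G → ℂ) else 0) =
        (1 + n * p) * α i := by
      rw [hα, Finset.mul_sum]
      apply Finset.sum_congr rfl
      intro χ _
      split_ifs with hχ
      · rw [charDegree_eq_of_apply_one (hT.hA χ hχ).1, Nat.mul_comm]
      · rw [Nat.mul_zero]
    have eB : ∑ χ : IrrCharacter G, (if χ ∈ B then mult χ i * charDegree (χ : G → ℂ) else 0) =
        0 := by
      apply Finset.sum_eq_zero
      intro χ _
      split_ifs with hχ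
      · rw [hmB χ hχ i hi, Nat.zero_mul]
      · rfl
    have eY : ∑ χ : IrrCharacter G, (if χ ∈ Y then mult χ i * charDegree (χ : G → ℂ) else 0) =
        f * k i := by
      rw [hk, Finset.mul_sum]
      apply Finset.sum_congr rfl
      intro χ _
      split_ifs with hχ
      · rw [charDegree_eq_of_apply_one (hT.hY1 χ hχ), Nat.mul_comm]
      · rw [Nat.mul_zero]
    have eZ : ∑ χ : IrrCharacter G,
        (if χ ∈ Zset A B Y then mult χ i * charDegree (χ : G → ℂ) else 0) = p * z i := by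
      rw [hz, Finset.mul_sum]
      apply Finset.sum_congr rfl
      intro χ _
      split_ifs with hχ
      · rw [hs_Z χ hχ]; ring
      · rw [Nat.mul_zero]
    rw [e0, eA, eB, eY, eZ] at h
    omega
  have hcardY : ∑ χ : IrrCharacter G, (if χ ∈ Y then 1 else 0) = t := by
    rw [sum_ind_eq_ncard, hT.cY]
  have hk_le : ∀ i, i < e → k i ≤ t := by
    intro i hi
    rw [hk, ← hcardY]
    apply Finset.sum_le_sum
    intro χ _
    split_ifs with hχ
    · have := hle χ i hi
      rw [hs_Y χ hχ] at this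
      exact this
    · exact le_refl _
  have hk_sum : ∑ i ∈ Finset.range e, k i = t := by
    have h1 : ∑ i ∈ Finset.range e, k i =
        ∑ i ∈ Finset.range e, ∑ χ : IrrCharacter G, (if χ ∈ Y then mult χ i else 0) :=
      Finset.sum_congr rfl (fun i _ => hk i)
    rw [h1, Finset.sum_comm, ← hcardY]
    apply Finset.sum_congr rfl
    intro χ _
    by_cases hχ : χ ∈ Y
    · simp only [if_pos hχ]
      rw [← hs, hs_Y χ hχ]
    · simp only [if_neg hχ]
      exact Finset.sum_const_zero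
  obtain ⟨hα0, hk0, hz0⟩ := arith_zero hp hpe he hfe hf (hk_le 0 (by omega))
    (by have := hstar 0 (by omega); simpa using this)
  have hpos : ∀ i, 0 < i → i < e →
      (α i = 1 ∧ k i = 0 ∧ z i = 0) ∨ (α i = 0 ∧ k i = t ∧ z i = 0) := by
    intro i hi0 hi
    have h := hstar i hi
    rw [if_neg (by omega), Nat.zero_add] at h
    exact arith_pos hpe he hn hfe hf (hk_le i hi) h
  obtain ⟨i1, hi1pos, hi1, hki1⟩ : ∃ i1, 0 < i1 ∧ i1 < e ∧ k i1 = t := by
    by_contra hcon
    push Not at hcon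
    have : ∑ i ∈ Finset.range e, k i = 0 := by
      apply Finset.sum_eq_zero
      intro i hi
      rw [Finset.mem_range] at hi
      rcases Nat.eq_zero_or_pos i with h | h
      · rw [h]; exact hk0
      · rcases hpos i h hi with h' | h'
        · exact h'.2.1
        · exact absurd h'.2.1 (hcon i h hi)
    omega
  have huniq : ∀ i, i < e → i ≠ i1 → k i = 0 := by
    intro i hi hne
    by_contra hki
    have hkit : k i = t := by
      rcases Nat.eq_zero_or_pos i with h | h
      · rw [h] at hki; exact absurd hk0 hki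
      · rcases hpos i h hi with h' | h'
        · exact absurd h'.2.1 hki
        · exact h'.2.1
    have hsub : ({i, i1} : Finset ℕ) ⊆ Finset.range e := by
      intro j hj
      simp only [Finset.mem_insert, Finset.mem_singleton] at hj
      rcases hj with rfl | rfl
      · exact Finset.mem_range.mpr hi
      · exact Finset.mem_range.mpr hi1
    have := Finset.sum_le_sum_of_subset (f := k) hsub
    rw [Finset.sum_pair hne, hkit, hki1, hk_sum] at this
    omega
  have hmY : ∀ θ ∈ Y, ∀ i, i < e → mult θ i = if i = i1 then 1 else 0 := by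
    intro θ hθ
    have hzero : ∀ i, i < e → i ≠ i1 → mult θ i = 0 := by
      intro i hi hne
      have := huniq i hi hne
      rw [hk] at this
      have h2 := Finset.sum_eq_zero_iff.mp this θ (Finset.mem_univ _)
      rwa [if_pos hθ] at h2
    have hone : mult θ i1 = 1 := by
      have h := hs_Y θ hθ
      rw [hs, Finset.sum_eq_single i1 (fun i hi hne => hzero i (Finset.mem_range.mp hi) hne)
        (fun h => absurd (Finset.mem_range.mpr hi1) h)] at h
      exact h
    intro i hi
    split_ifs with h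
    · rw [h]; exact hone
    · exact hzero i hi h
  have hαi1 : α i1 = 0 := by
    rcases hpos i1 hi1pos hi1 with h | h
    · omega
    · exact h.1
  have hαother : ∀ i, i < e → i ≠ 0 → i ≠ i1 → α i = 1 := by
    intro i hi h0 h1
    rcases hpos i (Nat.pos_of_ne_zero h0) hi with h | h
    · exact h.1
    · have := huniq i hi h1; omega
  have hzpos : ∀ i, 0 < i → i < e → z i = 0 := by
    intro i h0 hi
    rcases hpos i h0 hi with h | h
    · exact h.2.2
    · exact h.2.2
  have hmZ : ∀ χ ∈ Zset A B Y, ∀ i, i < e → mult χ i = if i = 0 then s χ else 0 := by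
    intro χ hχ
    have hzero : ∀ i, i < e → i ≠ 0 → mult χ i = 0 := by
      intro i hi hne
      have := hzpos i (Nat.pos_of_ne_zero hne) hi
      rw [hz] at this
      have h2 := Finset.sum_eq_zero_iff.mp this χ (Finset.mem_univ _)
      rw [if_pos hχ] at h2
      rcases Nat.mul_eq_zero.mp h2 with h | h
      · exact h
      · have := hle χ i hi; omega
    have h0 : mult χ 0 = s χ := by
      rw [hs χ, Finset.sum_eq_single 0 (fun i hi hne => hzero i (Finset.mem_range.mp hi) hne)
        (fun h => absurd (Finset.mem_range.mpr (by omega)) h)]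
    intro i hi
    split_ifs with h
    · rw [h]; exact h0
    · exact hzero i hi h
  have hmdeg : ∀ χ ∈ Zset A B Y, mdeg p χ = s χ := by
    intro χ hχ
    unfold mdeg
    rw [hs_Z χ hχ, Nat.mul_div_cancel_left _ hp.pos]
  -- the conjugate of an exceptional character
  obtain ⟨θ, hθ⟩ : Y.Nonempty := by
    rw [← Set.ncard_pos, hT.cY]; omega
  have hθc : IsCharacter G (θ : G → ℂ) := isCharacter_of_irr θ.2
  obtain ⟨θ', hθ'⟩ : ∃ θ' : IrrCharacter G, ∀ g, (θ' : G → ℂ) g = conj ((θ : G → ℂ) g) :=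
    ⟨⟨fun g => (θ : G → ℂ) g⁻¹, Cfsg.Agent.Lib.CT.Ops.isIrrCharacter_inv_arg θ.2⟩,
      fun g => char_apply_inv hθc g⟩
  have h4 := hR.r4 θ θ' hθ' i1 hi1
  rw [hmY θ hθ i1 hi1, if_pos rfl] at h4
  have hj : (e - i1) % e = e - i1 := Nat.mod_eq_of_lt (by omega)
  rw [hj] at h4
  have hclass : θ' = triv G ∨ θ' ∈ A ∨ θ' ∈ B ∨ θ' ∈ Y ∨ θ' ∈ Zset A B Y := by
    by_cases h1 : θ' = triv G
    · exact Or.inl h1
    by_cases h2 : θ' ∈ A
    · exact Or.inr (Or.inl h2)
    by_cases h3 : θ' ∈ B
    · exact Or.inr (Or.inr (Or.inl h3))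
    by_cases h5 : θ' ∈ Y
    · exact Or.inr (Or.inr (Or.inr (Or.inl h5)))
    · exact Or.inr (Or.inr (Or.inr (Or.inr ⟨h1, h2, h3, h5⟩)))
  have hei : e = i1 + i1 := by
    rcases hclass with h | h | h | h | h
    · rw [h, hmT (e - i1) (by omega), if_neg (by omega)] at h4; omega
    · exfalso
      have h1 : (θ' : G → ℂ) 1 = ((1 + n * p : ℕ) : ℂ) := (hT.hA θ' h).1
      have h2 : (θ' : G → ℂ) 1 = (f : ℂ) := by
        rw [hθ', hT.hY1 θ hθ]; simp
      rw [h2] at h1
      have h3 : f = 1 + n * p := Nat.cast_injective h1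
      rw [hv] at h3
      have : 2 * f ≤ t * f := Nat.mul_le_mul_right f ht
      omega
    · rw [hmB θ' h (e - i1) (by omega)] at h4; omega
    · rw [hmY θ' h (e - i1) (by omega)] at h4
      split_ifs at h4 with h5
      · omega
    · rw [hmZ θ' h (e - i1) (by omega), if_neg (by omega)] at h4; omega
  have hi1e : i1 = e / 2 := by omega
  refine ⟨⟨i1, hei⟩, hmT, hmB, ?_, ?_, ?_, ?_, ?_, ?_, ?_⟩
  · rw [← hi1e]; exact hmY
  · intro χ hχ
    rw [← hi1e]
    constructor
    · have h2 := Finset.sum_eq_zero_iff.mp ((hα 0).symm.trans hα0) χ (Finset.mem_univ _)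
      rwa [if_pos hχ] at h2
    · have h2 := Finset.sum_eq_zero_iff.mp ((hα i1).symm.trans hαi1) χ (Finset.mem_univ _)
      rwa [if_pos hχ] at h2
  · intro χ hχ i hi
    have hαle : α i ≤ 1 := by
      by_cases h0 : i = 0
      · rw [h0, hα0]; omega
      · by_cases h1 : i = i1
        · rw [h1, hαi1]; omega
        · rw [hαother i hi h0 h1]
    have h2 := Finset.single_le_sum (f := fun χ : IrrCharacter G => if χ ∈ A then mult χ i else 0)
      (fun j _ => Nat.zero_le _) (Finset.mem_univ χ)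
    simp only [if_pos hχ] at h2
    rw [← hα] at h2
    omega
  · intro χ hχ
    rw [← hs, hs_A χ hχ]
  · intro i hi h0 h1
    rw [finsum_mem_eq_sum_ite, ← hα]
    exact hαother i hi h0 (by rw [hi1e]; exact h1)
  · intro χ hχ
    refine ⟨?_, ?_⟩
    · rw [hd χ, hmdeg χ hχ, hs_Z χ hχ, Nat.mul_comm]
    · rw [hmdeg χ hχ]; exact hmZ χ hχ
  · rw [finsum_mem_eq_sum_ite, ← hz0, hz]
    apply Finset.sum_congr rfl
    intro χ _
    split_ifs with hχ
    · rw [hmdeg χ hχ, hmZ χ hχ 0 (by omega), if_pos rfl, pow_two]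
    · rfl

end Cfsg.Agent.Lib.Helper87.BRMS
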