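import Mathlib
import Cfsg.Prelude.Def_FusionSystem
import Cfsg.Prelude.Def_FusionComponents
import Cfsg.Agent.H85.Basic
import Cfsg.Agent.H85.Aut
import Cfsg.Agent.H85.Sat
import Cfsg.Agent.H85.Invariant
import Cfsg.Agent.H85.InvSys
import Cfsg.Agent.H85.PrimeIdx
import Cfsg.Agent.Lib.Helper88.PResStmt

/-! Definitions and statements of the pieces for S5243 (Andersen-Oliver-Ventura, Lemma 1.26): a
character `χ` of `Aut_F(T)` of order prime to `p`, trivial on `Aut_E(T)` for a normal subsystem `E`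
over `T`, gives a proper normal subsystem of `F` of index prime to `p`.

`K` is the kernel of `χ`, as a subgroup of `Aut(T)`. `kSys E K` is the system `K ∘ E` over `T`,
`bigSys` the system of the maps of `F` whose restrictions to subgroups of `T` lie in `K ∘ E`,
`famH` the family of the `F`-centric `P` with `P ∩ T` centric in `E`, and `Ctx.D` the subsystem
of `bigSys` generated by its maps with source in `famH`. -/

set_option autoImplicit false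

namespace Cfsg.Agent.Lib.Helper87.PCStmt

open Cfsg Cfsg.FusionSystem Cfsg.Agent.H85

universe u

section defs

variable {Ω : Type*} [Group Ω] {S T : Subgroup Ω}

/-- Invariance of the subsystem `E` over `T` under the group `A` of automorphisms of `T`. -/
def InvCondA (E : FusionSystem T) (A : Subgroup (MulAut T)) : Prop :=
  ∀ (P : Subgroup Ω) (hPT : P ≤ T) (φ : P →* Ω), φ ∈ E.Hom P → ∀ α ∈ A,
      ∃ χ ∈ E.Hom ((P.subgroupOf T).map (T.subtype.comp α.toMonoidHom)),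
        ∀ (x : P) (hφx : φ x ∈ T)
          (hαx : ((α ⟨x, hPT x.2⟩ : T) : Ω) ∈ (P.subgroupOf T).map (T.subtype.comp α.toMonoidHom)),
          χ ⟨(α ⟨x, hPT x.2⟩ : T), hαx⟩ = ((α ⟨φ x, hφx⟩ : T) : Ω)

/-- A map from a subgroup of `T` that is an element of `A` composed with a map of `E`. -/
def GoodA (E : FusionSystem T) (A : Subgroup (MulAut T)) {R : Subgroup Ω} (φ : R →* Ω) : Prop :=
  ∃ α ∈ A, ∃ φ₀ ∈ E.Hom R, ∀ (x : R) (hx : φ₀ x ∈ T), φ x = ((α ⟨φ₀ x, hx⟩ : T) : Ω)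

theorem GoodA.restrict {E : FusionSystem T} {A : Subgroup (MulAut T)} {R R' : Subgroup Ω} {φ : R →* Ω}
    (hφ : GoodA E A φ) (h : R' ≤ R) : GoodA E A (φ.comp (Subgroup.inclusion h)) := by
  obtain ⟨α, hα, φ₀, hφ₀, hφα⟩ := hφ
  exact ⟨α, hα, φ₀.comp (Subgroup.inclusion h), restrict_mem E hφ₀ h, fun x hx => hφα _ hx⟩

theorem GoodA.of_mem {E : FusionSystem T} {A : Subgroup (MulAut T)} {R : Subgroup Ω} {φ : R →* Ω}
    (hφ : φ ∈ E.Hom R) : GoodA E A φ :=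
  ⟨1, Subgroup.one_mem _, φ, hφ, fun _ _ => rfl⟩

theorem GoodA.congr {E : FusionSystem T} {A : Subgroup (MulAut T)} {R : Subgroup Ω} {φ ψ : R →* Ω}
    (hφ : GoodA E A φ) (h : ∀ x, ψ x = φ x) : GoodA E A ψ := by
  have : ψ = φ := MonoidHom.ext h
  rw [this]; exact hφ

theorem GoodA.comp {E : FusionSystem T} {A : Subgroup (MulAut T)} (hinv : InvCondA E A)
    {R R' : Subgroup Ω} {φ : R →* Ω} {ψ : R' →* Ω}
    (hφ : GoodA E A φ) (hψ : GoodA E A ψ) (h : ∀ x : R, φ x ∈ R') {χ : R →* Ω}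
    (hχ : ∀ x : R, χ x = ψ ⟨φ x, h x⟩) : GoodA E A χ := by
  obtain ⟨α, hα, φ₀, hφ₀, hφα⟩ := hφ
  obtain ⟨β, hβ, ψ₀, hψ₀, hψβ⟩ := hψ
  have hφ₀T : ∀ x, φ₀ x ∈ T := (E.le_of_mem hφ₀).2
  have hψ₀T : ∀ x, ψ₀ x ∈ T := (E.le_of_mem hψ₀).2
  have hR'T : R' ≤ T := (E.le_of_mem hψ₀).1
  have hrR' : φ.range ≤ R' := by rintro _ ⟨x, rfl⟩; exact h x
  have hrT : φ.range ≤ T := hrR'.trans hR'T
  obtain ⟨χ₁, hχ₁, hχ₁x⟩ := hinv φ.range hrT (ψ₀.comp (Subgroup.inclusion hrR'))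
    (restrict_mem E hψ₀ hrR') α⁻¹ (Subgroup.inv_mem _ hα)
  have hφx : ∀ x : R, (⟨φ x, hrT ⟨x, rfl⟩⟩ : T) = α ⟨φ₀ x, hφ₀T x⟩ :=
    fun x => Subtype.ext (hφα x (hφ₀T x))
  have hmem : ∀ x : R, φ₀ x ∈ (φ.range.subgroupOf T).map (T.subtype.comp (α⁻¹).toMonoidHom) := by
    intro x
    refine ⟨⟨φ x, hrT ⟨x, rfl⟩⟩, Subgroup.mem_subgroupOf.mpr ⟨x, rfl⟩, ?_⟩
    show ((α⁻¹ ⟨φ x, hrT ⟨x, rfl⟩⟩ : T) : Ω) = φ₀ x
    rw [hφx x, MulAut.inv_apply_self]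
  refine ⟨β * α, Subgroup.mul_mem _ hβ hα, χ₁.comp (φ₀.codRestrict _ hmem),
    E.comp_mem hφ₀ hχ₁ hmem, fun x hx => ?_⟩
  rw [hχ x, hψβ ⟨φ x, h x⟩ (hψ₀T _)]
  show ((β ⟨ψ₀ ⟨φ x, h x⟩, _⟩ : T) : Ω) = ((β (α ⟨χ₁ ⟨φ₀ x, hmem x⟩, hx⟩) : T) : Ω)
  have hαx : ((α⁻¹ ⟨((⟨φ x, ⟨x, rfl⟩⟩ : φ.range) : Ω), hrT ⟨x, rfl⟩⟩ : T) : Ω) ∈
      (φ.range.subgroupOf T).map (T.subtype.comp (α⁻¹).toMonoidHom) :=
    ⟨⟨φ x, hrT ⟨x, rfl⟩⟩, Subgroup.mem_subgroupOf.mpr ⟨x, rfl⟩, rfl⟩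
  have h1 := hχ₁x ⟨φ x, ⟨x, rfl⟩⟩ (hψ₀T _) hαx
  have e1 : (⟨φ₀ x, hmem x⟩ : ↥((φ.range.subgroupOf T).map (T.subtype.comp (α⁻¹).toMonoidHom))) =
      ⟨((α⁻¹ ⟨((⟨φ x, ⟨x, rfl⟩⟩ : φ.range) : Ω), hrT ⟨x, rfl⟩⟩ : T) : Ω), hαx⟩ := by
    apply Subtype.ext
    show φ₀ x = ((α⁻¹ ⟨φ x, hrT ⟨x, rfl⟩⟩ : T) : Ω)
    rw [hφx x, MulAut.inv_apply_self]
  have e2 : (⟨χ₁ ⟨φ₀ x, hmem x⟩, hx⟩ : T) =
      α⁻¹ ⟨(ψ₀.comp (Subgroup.inclusion hrR')) ⟨φ x, ⟨x, rfl⟩⟩, hψ₀T _⟩ := by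
    apply Subtype.ext
    show χ₁ ⟨φ₀ x, hmem x⟩ = _
    rw [e1, h1]
  rw [e2, MulAut.apply_inv_self]
  rfl

theorem GoodA.inv {E : FusionSystem T} {A : Subgroup (MulAut T)} (hinv : InvCondA E A)
    {R R' : Subgroup Ω} {φ : R →* Ω} {ψ : R' →* Ω}
    (hφ : GoodA E A φ) (h1 : ∀ x : R, φ x ∈ R') (h2 : ∀ x : R, ψ ⟨φ x, h1 x⟩ = x)
    (h3 : ∀ y : R', ∃ x : R, φ x = y) : GoodA E A ψ := by
  obtain ⟨α, hα, φ₀, hφ₀, hφα⟩ := hφ
  have hφ₀T : ∀ x, φ₀ x ∈ T := (E.le_of_mem hφ₀).2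
  have hR : R ≤ T := (E.le_of_mem hφ₀).1
  have hrT : φ₀.range ≤ T := by rintro _ ⟨x, rfl⟩; exact hφ₀T x
  obtain ⟨ι₀, hι₀, hι₀x⟩ := E.inv_mem hφ₀
  obtain ⟨χ₁, hχ₁, hχ₁x⟩ := hinv φ₀.range hrT ι₀ hι₀ α hα
  have hR' : R' = (φ₀.range.subgroupOf T).map (T.subtype.comp α.toMonoidHom) := by
    ext y
    constructor
    · intro hy
      obtain ⟨x, hx⟩ := h3 ⟨y, hy⟩
      refine ⟨⟨φ₀ x, hφ₀T x⟩, Subgroup.mem_subgroupOf.mpr ⟨x, rfl⟩, ?_⟩
      show ((α ⟨φ₀ x, hφ₀T x⟩ : T) : Ω) = y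
      rw [← hφα x (hφ₀T x)]; exact hx
    · rintro ⟨z, hz, rfl⟩
      obtain ⟨x, hx⟩ := Subgroup.mem_subgroupOf.mp hz
      have e : z = ⟨φ₀ x, hφ₀T x⟩ := Subtype.ext hx.symm
      show ((α z : T) : Ω) ∈ R'
      rw [e, ← hφα x (hφ₀T x)]
      exact h1 x
  subst hR'
  refine ⟨α⁻¹, Subgroup.inv_mem _ hα, χ₁, hχ₁, fun y hy => ?_⟩
  obtain ⟨x, hx⟩ := h3 y
  have hy' : y = ⟨φ x, h1 x⟩ := Subtype.ext hx.symm
  have hαz : ((α ⟨((⟨φ₀ x, ⟨x, rfl⟩⟩ : φ₀.range) : Ω), hrT ⟨x, rfl⟩⟩ : T) : Ω) ∈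
      (φ₀.range.subgroupOf T).map (T.subtype.comp α.toMonoidHom) :=
    ⟨⟨φ₀ x, hφ₀T x⟩, Subgroup.mem_subgroupOf.mpr ⟨x, rfl⟩, rfl⟩
  have h4 := hχ₁x ⟨φ₀ x, ⟨x, rfl⟩⟩ (by rw [hι₀x]; exact hR x.2) hαz
  have e1 : y = ⟨((α ⟨((⟨φ₀ x, ⟨x, rfl⟩⟩ : φ₀.range) : Ω), hrT ⟨x, rfl⟩⟩ : T) : Ω), hαz⟩ := by
    rw [hy']
    apply Subtype.ext
    exact hφα x (hφ₀T x)
  have e2 : (⟨χ₁ y, hy⟩ : T) = α ⟨x, hR x.2⟩ := by
    apply Subtype.ext
    show χ₁ y = _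
    rw [e1, h4]
    congr 2
    exact Subtype.ext (hι₀x x)
  rw [e2, MulAut.inv_apply_self, hy', h2 x]


theorem mem_ksys_aux (E : FusionSystem T) (A : Subgroup (MulAut T)) {P : Subgroup Ω} {φ : P →* Ω}
    (h : GoodA E A φ) : (P ≤ T ∧ ∀ x : P, φ x ∈ T) ∧ Function.Injective φ := by
  obtain ⟨α, -, φ₀, hφ₀, hφα⟩ := h
  have hT := (E.le_of_mem hφ₀).2
  refine ⟨⟨(E.le_of_mem hφ₀).1, fun x => ?_⟩, fun a b hab => ?_⟩
  · rw [hφα x (hT x)]
    exact (α _).2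
  · rw [hφα a (hT a), hφα b (hT b)] at hab
    have h1 : (⟨φ₀ a, hT a⟩ : T) = ⟨φ₀ b, hT b⟩ := α.injective (Subtype.ext hab)
    exact E.injective_of_mem hφ₀ (congrArg Subtype.val h1)

/-- The system `A ∘ E` over `T`: the maps that are an element of `A` composed with a map of `E`. -/
def kSys (E : FusionSystem T) (A : Subgroup (MulAut T)) (hinv : InvCondA E A) : FusionSystem T where
  Hom P := {φ | GoodA E A φ}
  le_of_mem h := (mem_ksys_aux E A h).1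
  injective_of_mem h := (mem_ksys_aux E A h).2
  conj_mem := fun hP hg => GoodA.of_mem (E.conj_mem hP hg)
  comp_mem := by
    intro P Q φ ψ hφ hψ h
    exact GoodA.comp hinv hφ hψ h (fun x => rfl)
  inv_mem := by
    intro P φ hφ
    have hinj := (mem_ksys_aux E A hφ).2
    refine ⟨P.subtype.comp (MonoidHom.ofInjective hinj).symm.toMonoidHom, ?_, fun x => ?_⟩
    · refine GoodA.inv hinv hφ (fun x => ⟨x, rfl⟩) (fun x => ?_) (fun y => ?_)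
      · have e : (MonoidHom.ofInjective hinj).symm ⟨φ x, ⟨x, rfl⟩⟩ = x := by
          rw [MulEquiv.symm_apply_eq]; exact Subtype.ext rfl
        show (((MonoidHom.ofInjective hinj).symm ⟨φ x, ⟨x, rfl⟩⟩ : P) : Ω) = x
        rw [e]
      · obtain ⟨_, x, rfl⟩ := y
        exact ⟨x, rfl⟩
    · have e : (MonoidHom.ofInjective hinj).symm ⟨φ x, ⟨x, rfl⟩⟩ = x := by
        rw [MulEquiv.symm_apply_eq]; exact Subtype.ext rfl
      show (((MonoidHom.ofInjective hinj).symm ⟨φ x, ⟨x, rfl⟩⟩ : P) : Ω) = x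
      rw [e]

theorem mem_kSys_iff (E : FusionSystem T) (A : Subgroup (MulAut T)) (hinv : InvCondA E A)
    {P : Subgroup Ω} (φ : P →* Ω) : φ ∈ (kSys E A hinv).Hom P ↔ GoodA E A φ := Iff.rfl

/-- The maps of `F` all of whose restrictions to subgroups of `T` lie in `A ∘ E`. -/
def bigSys (E : FusionSystem T) (F : FusionSystem S) (A : Subgroup (MulAut T))
    (hT : F.StronglyClosed T) (hinv : InvCondA E A)
    (hSA : ∀ g ∈ S, ∃ α ∈ A, ∀ t : T, ((α t : T) : Ω) = g * t * g⁻¹) : FusionSystem S where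
  Hom P := {φ | φ ∈ F.Hom P ∧ ∀ (R : Subgroup Ω) (hRP : R ≤ P), R ≤ T →
    GoodA E A (φ.comp (Subgroup.inclusion hRP))}
  le_of_mem h := F.le_of_mem h.1
  injective_of_mem h := F.injective_of_mem h.1
  conj_mem := by
    intro P g hP hg
    refine ⟨F.conj_mem hP hg, fun R hRP hRT => ?_⟩
    obtain ⟨α, hα, hαg⟩ := hSA g hg
    exact ⟨α, hα, R.subtype, subtype_mem E hRT, fun x hx => (hαg ⟨x, hx⟩).symm⟩
  comp_mem := by
    intro P Q φ ψ hφ hψ h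
    refine ⟨F.comp_mem hφ.1 hψ.1 h, fun R hRP hRT => ?_⟩
    have hφR := restrict_mem F hφ.1 hRP
    have hR'Q : (φ.comp (Subgroup.inclusion hRP)).range ≤ Q := by
      rintro _ ⟨x, rfl⟩; exact h _
    have hR'T : (φ.comp (Subgroup.inclusion hRP)).range ≤ T := by
      rintro _ ⟨x, rfl⟩; exact hT.2 R hRT _ hφR x
    exact GoodA.comp hinv (hφ.2 R hRP hRT) (hψ.2 _ hR'Q hR'T) (fun x => ⟨x, rfl⟩) (fun x => rfl)
  inv_mem := by
    intro P φ hφ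
    obtain ⟨ψ, hψ, hψx⟩ := F.inv_mem hφ.1
    refine ⟨ψ, ⟨hψ, fun R hR hRT => ?_⟩, hψx⟩
    have hψR := restrict_mem F hψ hR
    have hψP : ∀ y : φ.range, ψ y ∈ P := by
      rintro ⟨_, x, rfl⟩
      rw [hψx x]; exact x.2
    have hR₀P : (ψ.comp (Subgroup.inclusion hR)).range ≤ P := by
      rintro _ ⟨y, rfl⟩; exact hψP _
    have hR₀T : (ψ.comp (Subgroup.inclusion hR)).range ≤ T := by
      rintro _ ⟨y, rfl⟩; exact hT.2 R hRT _ hψR y
    have hφψ : ∀ y : φ.range, φ ⟨ψ y, hψP y⟩ = y := by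
      rintro ⟨_, x, rfl⟩
      have e : (⟨ψ ⟨φ x, ⟨x, rfl⟩⟩, hψP _⟩ : P) = x := Subtype.ext (hψx x)
      show φ ⟨ψ ⟨φ x, ⟨x, rfl⟩⟩, _⟩ = φ x
      rw [e]
    have h1 : ∀ x : ↥(ψ.comp (Subgroup.inclusion hR)).range,
        (φ.comp (Subgroup.inclusion hR₀P)) x ∈ R := by
      rintro ⟨_, y, rfl⟩
      show φ ⟨ψ (Subgroup.inclusion hR y), _⟩ ∈ R
      rw [hφψ]; exact y.2
    refine GoodA.inv hinv (hφ.2 _ hR₀P hR₀T) h1 (fun x => ?_) (fun y => ?_)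
    · exact hψx ⟨x, hR₀P x.2⟩
    · exact ⟨⟨ψ (Subgroup.inclusion hR y), ⟨y, rfl⟩⟩, hφψ (Subgroup.inclusion hR y)⟩

theorem mem_bigSys_iff (E : FusionSystem T) (F : FusionSystem S) (A : Subgroup (MulAut T))
    (hT : F.StronglyClosed T) (hinv : InvCondA E A)
    (hSA : ∀ g ∈ S, ∃ α ∈ A, ∀ t : T, ((α t : T) : Ω) = g * t * g⁻¹) {P : Subgroup Ω}
    (φ : P →* Ω) : φ ∈ (bigSys E F A hT hinv hSA).Hom P ↔ φ ∈ F.Hom P ∧
      ∀ (R : Subgroup Ω) (hRP : R ≤ P), R ≤ T → GoodA E A (φ.comp (Subgroup.inclusion hRP)) :=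
  Iff.rfl

/-- The subsystem of `B` generated by its maps with source in the family `ℋ`: the intersection of
`B` with all fusion systems over `S` containing these maps. -/
def genSys (B : FusionSystem S) (ℋ : Set (Subgroup Ω)) : FusionSystem S where
  Hom P := {φ | φ ∈ B.Hom P ∧
    ∀ D : FusionSystem S, (∀ Q ∈ ℋ, B.Hom Q ⊆ D.Hom Q) → φ ∈ D.Hom P}
  le_of_mem h := B.le_of_mem h.1
  injective_of_mem h := B.injective_of_mem h.1
  conj_mem := fun hP hg => ⟨B.conj_mem hP hg, fun D _ => D.conj_mem hP hg⟩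
  comp_mem := fun hφ hψ h =>
    ⟨B.comp_mem hφ.1 hψ.1 h, fun D hD => D.comp_mem (hφ.2 D hD) (hψ.2 D hD) h⟩
  inv_mem := by
    intro P φ hφ
    obtain ⟨ψ, hψ, hψx⟩ := B.inv_mem hφ.1
    refine ⟨ψ, ⟨hψ, fun D hD => ?_⟩, hψx⟩
    obtain ⟨ψ', hψ', hψ'x⟩ := D.inv_mem (hφ.2 D hD)
    have e : ψ = ψ' := by
      ext ⟨_, x, rfl⟩
      rw [hψx, hψ'x]
    rw [e]; exact hψ'

theorem mem_genSys_iff (B : FusionSystem S) (ℋ : Set (Subgroup Ω)) {P : Subgroup Ω} (φ : P →* Ω) :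
    φ ∈ (genSys B ℋ).Hom P ↔ φ ∈ B.Hom P ∧
      ∀ D : FusionSystem S, (∀ Q ∈ ℋ, B.Hom Q ⊆ D.Hom Q) → φ ∈ D.Hom P := Iff.rfl

theorem genSys_le (B : FusionSystem S) (ℋ : Set (Subgroup Ω)) :
    (genSys B ℋ).IsSubsystemOf B := fun _ _ h => h.1

theorem genSys_of_mem (B : FusionSystem S) (ℋ : Set (Subgroup Ω)) {P : Subgroup Ω} (hP : P ∈ ℋ)
    {φ : P →* Ω} (hφ : φ ∈ B.Hom P) : φ ∈ (genSys B ℋ).Hom P :=
  ⟨hφ, fun _ hD => hD P hP hφ⟩

theorem genSys_min (B : FusionSystem S) (ℋ : Set (Subgroup Ω)) (D : FusionSystem S)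
    (hD : ∀ Q ∈ ℋ, (genSys B ℋ).Hom Q ⊆ D.Hom Q) : genSys B ℋ ≤ D :=
  fun _ _ h => h.2 D (fun Q hQ _ hφ => hD Q hQ (genSys_of_mem B ℋ hQ hφ))

/-- The maps of `E` (over `T`) that are maps of `D` (over `S`). -/
def mixSys (E : FusionSystem T) (D : FusionSystem S) (hTS : T ≤ S) : FusionSystem T where
  Hom P := {φ | φ ∈ E.Hom P ∧ φ ∈ D.Hom P}
  le_of_mem h := E.le_of_mem h.1
  injective_of_mem h := E.injective_of_mem h.1
  conj_mem := fun hP hg => ⟨E.conj_mem hP hg, D.conj_mem (hP.trans hTS) (hTS hg)⟩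
  comp_mem := fun hφ hψ h => ⟨E.comp_mem hφ.1 hψ.1 h, D.comp_mem hφ.2 hψ.2 h⟩
  inv_mem := by
    intro P φ hφ
    obtain ⟨ψ, hψ, hψx⟩ := E.inv_mem hφ.1
    refine ⟨ψ, ⟨hψ, ?_⟩, hψx⟩
    obtain ⟨ψ', hψ', hψ'x⟩ := D.inv_mem hφ.2
    have e : ψ = ψ' := by
      ext ⟨_, x, rfl⟩
      rw [hψx, hψ'x]
    rw [e]; exact hψ'

/-- The family of the `F`-centric subgroups `P` with `P ∩ T` centric in `E`. -/
def famH (F : FusionSystem S) (E : FusionSystem T) : Set (Subgroup Ω) :=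
  {P | F.IsCentric P ∧ E.IsCentric (P ⊓ T)}

/-- Some normal `p`-subgroup of `Aut_X(Q)` contains the conjugation by an element of `N_S(Q)`
outside `Q`. -/
def HasNormalPConj (p : ℕ) (X : FusionSystem S) (Q : Subgroup Ω) : Prop :=
  ∃ B : Subgroup (MulAut Q), IsPGroup p B ∧ B ≤ X.autGroup Q ∧
    (∀ χ ∈ X.autGroup Q, ∀ β ∈ B, χ * β * χ⁻¹ ∈ B) ∧
    ∃ (g : Ω) (_ : g ∈ S) (hgN : g ∈ Subgroup.normalizer (Q : Set Ω)),
      g ∉ Q ∧ Q.normalizerMonoidHom ⟨g, hgN⟩ ∈ B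

/-- The standing hypotheses: `F` saturated over the `p`-group `S`, `E` saturated over `T` and
invariant in `F`, and `K` a normal subgroup of `Aut_F(T)` containing `Aut_E(T)` and `Aut_S(T)`,
with quotient of exponent prime to `p`. -/
structure Ctx (p : ℕ) (F : FusionSystem S) (E : FusionSystem T) (K : Subgroup (MulAut T)) :
    Prop where
  hS : IsPGroup p S
  hF : F.IsSaturated p
  hEsat : E.IsSaturated p
  hEinv : E.IsInvariantIn F
  hKF : K ≤ F.autGroup T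
  hKn : ∀ γ ∈ F.autGroup T, ∀ κ ∈ K, γ * κ * γ⁻¹ ∈ K
  hEK : E.autGroup T ≤ K
  hKm : ∃ m : ℕ, m.Coprime p ∧ ∀ γ ∈ F.autGroup T, γ ^ m ∈ K
  hSK : ∀ g ∈ S, ∃ α ∈ K, ∀ t : T, ((α t : T) : Ω) = g * t * g⁻¹

namespace Ctx

variable {p : ℕ} {F : FusionSystem S} {E : FusionSystem T} {K : Subgroup (MulAut T)}

theorem hEF (c : Ctx p F E K) : E.IsSubsystemOf F := c.hEinv.1

theorem hT (c : Ctx p F E K) : F.StronglyClosed T := c.hEinv.2.1

theorem hTS (c : Ctx p F E K) : T ≤ S := c.hEinv.2.1.1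

theorem hinv (c : Ctx p F E K) : InvCond E F := c.hEinv.2.2.1

theorem hfrat (c : Ctx p F E K) (P : Subgroup Ω) (hP : P ≤ T) (φ : P →* Ω) (hφ : φ ∈ F.Hom P) :
    Good E F φ := c.hEinv.2.2.2 P hP φ hφ

theorem invA (c : Ctx p F E K) : InvCondA E K :=
  fun P hPT φ hφ α hα => c.hEinv.2.2.1 P hPT φ hφ α (c.hKF hα)

/-- The system `K ∘ E` over `T`. -/
def KS (c : Ctx p F E K) : FusionSystem T := kSys E K c.invA

/-- The maps of `F` whose restrictions to subgroups of `T` lie in `K ∘ E`. -/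
def B (c : Ctx p F E K) : FusionSystem S := bigSys E F K c.hT c.invA c.hSK

/-- The subsystem of `B` generated by its maps with source in `famH F E`. -/
def D (c : Ctx p F E K) : FusionSystem S := genSys c.B (famH F E)

theorem mem_KS_iff (c : Ctx p F E K) {P : Subgroup Ω} (φ : P →* Ω) :
    φ ∈ c.KS.Hom P ↔ GoodA E K φ := Iff.rfl

theorem mem_B_iff (c : Ctx p F E K) {P : Subgroup Ω} (φ : P →* Ω) :
    φ ∈ c.B.Hom P ↔ φ ∈ F.Hom P ∧
      ∀ (R : Subgroup Ω) (hRP : R ≤ P), R ≤ T → GoodA E K (φ.comp (Subgroup.inclusion hRP)) :=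
  Iff.rfl

theorem D_le_B (c : Ctx p F E K) : c.D.IsSubsystemOf c.B := genSys_le _ _

theorem B_le_F (c : Ctx p F E K) : c.B.IsSubsystemOf F := fun _ _ h => h.1

theorem D_le_F (c : Ctx p F E K) : c.D.IsSubsystemOf F := fun P _ h => c.B_le_F P (c.D_le_B P h)

theorem mem_D_of_mem_B (c : Ctx p F E K) {P : Subgroup Ω} (hP : P ∈ famH F E) {φ : P →* Ω}
    (hφ : φ ∈ c.B.Hom P) : φ ∈ c.D.Hom P := genSys_of_mem _ _ hP hφ

theorem D_min (c : Ctx p F E K) (D' : FusionSystem S)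
    (h : ∀ Q ∈ famH F E, c.D.Hom Q ⊆ D'.Hom Q) : c.D ≤ D' := genSys_min _ _ D' h

end Ctx

/-- The restriction to the strongly closed `T` of an element of `Aut_F(S)`. -/
theorem exists_resT (F : FusionSystem S) (hT : F.StronglyClosed T) {α : MulAut S}
    (hα : α ∈ F.autGroup S) :
    ∃ γ ∈ F.autGroup T, ∀ t : T, ((γ t : T) : Ω) = ((α ⟨t, hT.1 t.2⟩ : S) : Ω) := by
  have hα' := (mem_autGroup_iff F le_rfl α).mp hα
  have hc := restrict_mem F hα' hT.1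
  have hαi : α⁻¹ ∈ F.autGroup S := Subgroup.inv_mem _ hα
  have hc' := restrict_mem F ((mem_autGroup_iff F le_rfl α⁻¹).mp hαi) hT.1
  have hr : ((S.subtype.comp α.toMonoidHom).comp (Subgroup.inclusion hT.1)).range = T := by
    ext y
    constructor
    · rintro ⟨x, rfl⟩
      exact hT.2 T le_rfl _ hc x
    · intro hy
      have h1 := hT.2 T le_rfl _ hc' ⟨y, hy⟩
      refine ⟨⟨_, h1⟩, ?_⟩
      show ((α (α⁻¹ ⟨y, hT.1 hy⟩) : S) : Ω) = y
      rw [MulAut.apply_inv_self]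
  exact ⟨isoOf F hc hr, (mem_autGroup_iff F hT.1 _).mpr (isIso_isoOf F hc hr), fun t => rfl⟩

/-! ### Shapes of the statements -/

/-- The elements of `p`-power order of `Aut_F(N)`, `N ≤ T`, lie in `Aut_KS(N)`. -/
def PKc (p : ℕ) (F : FusionSystem S) (KS : FusionSystem T) : Prop :=
  ∀ (N : Subgroup Ω), N ≤ T → ∀ β : MulAut N, β ∈ F.autGroup N →
    ∀ k : ℕ, orderOf β = p ^ k → β ∈ KS.autGroup N

/-- An element of `Aut_F(T)` whose restriction to some `E`-centric subgroup is a map of `KS` lies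
in `K`. -/
def Wc (F : FusionSystem S) (E : FusionSystem T) (K : Subgroup (MulAut T)) (KS : FusionSystem T) :
    Prop :=
  ∀ γ ∈ F.autGroup T, ∀ (Q : Subgroup Ω) (hQ : E.IsCentric Q),
    Helper88.PResStmt.resAut γ Q hQ.1 ∈ KS.Hom Q → γ ∈ K

/-- The Frattini property: every map of `F` is an element of `Aut_F(S)` composed with a map of
`D`. -/
def FratC (F D : FusionSystem S) : Prop :=
  ∀ (P : Subgroup Ω) (φ : P →* Ω), φ ∈ F.Hom P → ∃ α ∈ F.autGroup S, ∃ φ₀ ∈ D.Hom P,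
    ∀ (x : P) (hx : φ₀ x ∈ S), φ x = ((α ⟨φ₀ x, hx⟩ : S) : Ω)

/-- An `F`-centric `P` with `P ∩ T` not `E`-centric has an `F`-conjugate `P'` with
`C_T(P' ∩ T)` not contained in `P' ∩ T`. -/
def KFc (F : FusionSystem S) (E : FusionSystem T) : Prop :=
  ∀ P : Subgroup Ω, F.IsCentric P → ¬ E.IsCentric (P ⊓ T) →
    ∃ P' : Subgroup Ω, F.IsConj P P' ∧ ¬ (centralizerIn T (P' ⊓ T) ≤ P' ⊓ T)

/-- The family `famH F E` is closed under conjugacy in `F`. -/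
def HConjC (F : FusionSystem S) (E : FusionSystem T) : Prop :=
  ∀ P Q : Subgroup Ω, P ∈ famH F E → F.IsConj P Q → Q ∈ famH F E

/-- `Aut_D(S)` consists of the elements of `Aut_F(S)` whose restriction to `T` lies in `K`. -/
def AutDc (F D : FusionSystem S) (K : Subgroup (MulAut T)) (hTS : T ≤ S) : Prop :=
  ∀ α : MulAut S, α ∈ D.autGroup S ↔ α ∈ F.autGroup S ∧
    ∃ κ ∈ K, ∀ t : T, ((κ t : T) : Ω) = ((α ⟨t, hTS t.2⟩ : S) : Ω)

/-- The last hypothesis of the saturation criterion S5110. -/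
def HStarC (p : ℕ) (D : FusionSystem S) (ℋ : Set (Subgroup Ω)) : Prop :=
  ∀ P : Subgroup Ω, D.IsCentric P → P ∉ ℋ → ∃ Q, D.IsConj P Q ∧
    ¬ (autInducedBy S Q ⊓ (pCore p ↥(D.autGroup Q)).map (D.autGroup Q).subtype ≤ Inn Q)

/-- An element of `Aut_F(S)` whose restriction to a member of `ℋ` is a map of `D` lies in
`Aut_D(S)`. -/
def ClosedHc (F D : FusionSystem S) (ℋ : Set (Subgroup Ω)) : Prop :=
  ∀ α ∈ F.autGroup S, ∀ P ∈ ℋ, ∀ hPS : P ≤ S,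
    Helper88.PResStmt.resAut α P hPS ∈ D.Hom P → α ∈ D.autGroup S

end defs

/-! ### The pieces -/

/-- PK: the elements of `p`-power order of `Aut_F(N)`, `N ≤ T`, lie in `K ∘ E`. -/
def PK : Prop :=
  ∀ {Ω : Type u} [Group Ω] {S T : Subgroup Ω} [Finite S] (p : ℕ) [Fact p.Prime]
    (F : FusionSystem S) (E : FusionSystem T) (K : Subgroup (MulAut T)) (c : Ctx p F E K),
    PKc p F c.KS

/-- W: an element of `Aut_F(T)` whose restriction to an `E`-centric subgroup lies in `K ∘ E` lies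
in `K`. -/
def W : Prop :=
  ∀ {Ω : Type u} [Group Ω] {S T : Subgroup Ω} [Finite S] (p : ℕ) [Fact p.Prime]
    (F : FusionSystem S) (E : FusionSystem T) (K : Subgroup (MulAut T)) (c : Ctx p F E K),
    PKc p F c.KS → Wc F E K c.KS

/-- HCONJ: `famH F E` is closed under `F`-conjugacy. -/
def HConj : Prop :=
  ∀ {Ω : Type u} [Group Ω] {S T : Subgroup Ω} [Finite S] (p : ℕ) [Fact p.Prime]
    (F : FusionSystem S) (E : FusionSystem T) (K : Subgroup (MulAut T)) (_ : Ctx p F E K),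
    HConjC F E

/-- KF: an `F`-centric `P` with `P ∩ T` not `E`-centric has an `F`-conjugate `P'` with
`C_T(P' ∩ T) ≰ P' ∩ T`. -/
def KF : Prop :=
  ∀ {Ω : Type u} [Group Ω] {S T : Subgroup Ω} [Finite S] (p : ℕ) [Fact p.Prime]
    (F : FusionSystem S) (E : FusionSystem T) (K : Subgroup (MulAut T)) (_ : Ctx p F E K),
    KFc F E

/-- CS0: if `T` is strongly closed in `X` and `C_T(Q ∩ T) ≰ Q ∩ T`, the stabilizer in `Aut_X(Q)`
of the chain `1 ≤ Q ∩ T ≤ Q` is a normal `p`-subgroup containing `c_g` for some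
`g ∈ N_T(Q)` outside `Q`. -/
def CS0 : Prop :=
  ∀ {Ω : Type u} [Group Ω] {S T : Subgroup Ω} [Finite S] (p : ℕ) [Fact p.Prime]
    (_ : IsPGroup p S) (X : FusionSystem S) (_ : X.StronglyClosed T) (Q : Subgroup Ω)
    (_ : Q ≤ S), ¬ (centralizerIn T (Q ⊓ T) ≤ Q ⊓ T) → HasNormalPConj p X Q

/-- CS1: `HasNormalPConj` at a subgroup `Q` with `C_S(Q) ≤ Q` gives the condition of S5110. -/
def CS1 : Prop :=
  ∀ {Ω : Type u} [Group Ω] {S : Subgroup Ω} [Finite S] (p : ℕ) [Fact p.Prime]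
    (_ : IsPGroup p S) (X : FusionSystem S) (Q : Subgroup Ω) (_ : Q ≤ S),
    centralizerIn S Q ≤ Q → HasNormalPConj p X Q →
    ¬ (autInducedBy S Q ⊓ (pCore p ↥(X.autGroup Q)).map (X.autGroup Q).subtype ≤ Inn Q)

/-- CS2: `HasNormalPConj` passes from a conjugate `P'` to a fully automized centric `Y`. -/
def CS2 : Prop :=
  ∀ {Ω : Type u} [Group Ω] {S : Subgroup Ω} [Finite S] (p : ℕ) [Fact p.Prime]
    (_ : IsPGroup p S) (F : FusionSystem S) (Y P' : Subgroup Ω), F.IsFullyAutomized p Y →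
    F.IsCentric Y → F.IsConj Y P' → HasNormalPConj p F P' → HasNormalPConj p F Y

/-- FRAT: the Frattini property for an invariant subsystem `D` of the saturated `F` containing
the elements of `p`-power order of `Aut_F(P)` for `P` in a family `ℋ`, when the `F`-centric
subgroups outside `ℋ` satisfy `HasNormalPConj`. -/
def Frat : Prop :=
  ∀ {Ω : Type u} [Group Ω] {S : Subgroup Ω} [Finite S] (p : ℕ) [Fact p.Prime]
    (_ : IsPGroup p S) (F : FusionSystem S) (_ : F.IsSaturated p) (D : FusionSystem S)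
    (_ : D.IsSubsystemOf F) (hT : F.StronglyClosed S) (hinv : InvCond D F)
    (ℋ : Set (Subgroup Ω)),
    (∀ P ∈ ℋ, (ppGen p (F.autGroup P)).map (F.autGroup P).subtype ≤ D.autGroup P) →
    (∀ Y : Subgroup Ω, F.IsCentric Y → Y ∉ ℋ → F.IsFullyAutomized p Y → F.IsReceptive Y →
      HasNormalPConj p F Y) →
    ∀ P, F.Hom P ⊆ (goodSys D F hT hinv).Hom P

/-- SATH: the saturation criterion S5110 for a subsystem `D` of the saturated `F` with the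
Frattini property, relative to a family `ℋ` closed under `F`-conjugacy. -/
def SatH : Prop :=
  ∀ {Ω : Type u} [Group Ω] {S : Subgroup Ω} [Finite S] (p : ℕ) [Fact p.Prime]
    (_ : IsPGroup p S) (F : FusionSystem S) (_ : F.IsSaturated p) (D : FusionSystem S)
    (_ : D.IsSubsystemOf F) (ℋ : Set (Subgroup Ω)), (∀ P ∈ ℋ, P ≤ S) →
    (∀ P ∈ ℋ, ∀ Q, F.IsConj P Q → Q ∈ ℋ) → FratC F D → ClosedHc F D ℋ →
    (∀ E' : FusionSystem S, (∀ P ∈ ℋ, D.Hom P ⊆ E'.Hom P) → D ≤ E') → HStarC p D ℋ →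
    D.IsSaturated p

/-- HSTAR: the condition of S5110 for `D` and the family `famH F E`. -/
def HStar : Prop :=
  ∀ {Ω : Type u} [Group Ω] {S T : Subgroup Ω} [Finite S] (p : ℕ) [Fact p.Prime]
    (F : FusionSystem S) (E : FusionSystem T) (K : Subgroup (MulAut T)) (c : Ctx p F E K),
    KFc F E → FratC F c.D → (∀ P : Subgroup Ω, c.D.IsCentric P → F.IsCentric P) →
    (∀ Q : Subgroup Ω, Q ≤ S → centralizerIn S Q ≤ Q → ¬ (centralizerIn T (Q ⊓ T) ≤ Q ⊓ T) →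
      ¬ (autInducedBy S Q ⊓ (pCore p ↥(c.D.autGroup Q)).map (c.D.autGroup Q).subtype ≤ Inn Q)) →
    HStarC p c.D (famH F E)

/-- INVD: `D` is invariant under `Aut_F(S)`. -/
def InvD : Prop :=
  ∀ {Ω : Type u} [Group Ω] {S T : Subgroup Ω} [Finite S] (p : ℕ) [Fact p.Prime]
    (F : FusionSystem S) (E : FusionSystem T) (K : Subgroup (MulAut T)) (c : Ctx p F E K),
    HConjC F E → InvCond c.D F

/-- AUTD: `Aut_D(S)` consists of the elements of `Aut_F(S)` restricting to an element of `K`. -/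
def AutD : Prop :=
  ∀ {Ω : Type u} [Group Ω] {S T : Subgroup Ω} [Finite S] (p : ℕ) [Fact p.Prime]
    (F : FusionSystem S) (E : FusionSystem T) (K : Subgroup (MulAut T)) (c : Ctx p F E K),
    AutDc F c.D K c.hTS

/-- ESUB: `E` is a subsystem of `D`. -/
def ESub : Prop :=
  ∀ {Ω : Type u} [Group Ω] {S T : Subgroup Ω} [Finite S] (p : ℕ) [Fact p.Prime]
    (F : FusionSystem S) (E : FusionSystem T) (K : Subgroup (MulAut T)) (c : Ctx p F E K),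
    Wc F E K c.KS → FratC F c.D → AutDc F c.D K c.hTS → E.IsSubsystemOf c.D

/-- PROPER: if `K ≠ Aut_F(T)` then `D ≠ F`. -/
def Proper : Prop :=
  ∀ {Ω : Type u} [Group Ω] {S T : Subgroup Ω} [Finite S] (p : ℕ) [Fact p.Prime]
    (F : FusionSystem S) (E : FusionSystem T) (K : Subgroup (MulAut T)) (c : Ctx p F E K),
    (∃ β ∈ F.autGroup T, β ∉ K) → ¬ (∀ P : Subgroup Ω, c.D.Hom P = F.Hom P)

/-- CLOSEDD: an element of `Aut_F(S)` whose restriction to a member of `famH F E` is a map of `D`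
lies in `Aut_D(S)`. -/
def ClosedD : Prop :=
  ∀ {Ω : Type u} [Group Ω] {S T : Subgroup Ω} [Finite S] (p : ℕ) [Fact p.Prime]
    (F : FusionSystem S) (E : FusionSystem T) (K : Subgroup (MulAut T)) (c : Ctx p F E K),
    Wc F E K c.KS → AutDc F c.D K c.hTS → ClosedHc F c.D (famH F E)

/-- PPH: for `P` in `famH F E`, the elements of `p`-power order of `Aut_F(P)` lie in `Aut_D(P)`. -/
def PPH : Prop :=
  ∀ {Ω : Type u} [Group Ω] {S T : Subgroup Ω} [Finite S] (p : ℕ) [Fact p.Prime]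
    (F : FusionSystem S) (E : FusionSystem T) (K : Subgroup (MulAut T)) (c : Ctx p F E K),
    PKc p F c.KS → ∀ P ∈ famH F E,
      (ppGen p (F.autGroup P)).map (F.autGroup P).subtype ≤ c.D.autGroup P

end Cfsg.Agent.Lib.Helper87.PCStmt
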