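import Mathlib

/-!
# Shift-invariant subspaces of functions on a cycle of prime length

Over `ZMod p`, a subspace of the functions on a set `J` of `p` points which is invariant under
the shift along a `p`-cycle `ρ` of `J` and contains a function with nonzero sum is everything.
-/

set_option autoImplicit false

namespace Cfsg.Agent.Lib.Helper87.Circulant

open Polynomial

theorem eq_top_of_shift {p : ℕ} [hp : Fact p.Prime] {J : Type*} [Fintype J] [DecidableEq J]
    (ρ : Equiv.Perm J) (j₀ : J) (hρ : ρ ^ p = 1)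
    (hsurj : ∀ j : J, ∃ k ∈ Finset.range p, (ρ ^ k) j₀ = j)
    (hinj : ∀ k ∈ Finset.range p, ∀ k' ∈ Finset.range p, (ρ ^ k) j₀ = (ρ ^ k') j₀ → k = k')
    (I : Submodule (ZMod p) (J → ZMod p))
    (hI : ∀ h ∈ I, (fun j => h (ρ⁻¹ j)) ∈ I)
    (w : J → ZMod p) (hw : w ∈ I) (hsum : ∑ j, w j ≠ 0) : I = ⊤ := by
  classical
  obtain ⟨τ, hτ⟩ : ∃ τ : Module.End (ZMod p) (J → ZMod p), ∀ h j, τ h j = h (ρ⁻¹ j) :=
    ⟨LinearMap.funLeft (ZMod p) (ZMod p) (ρ⁻¹ : Equiv.Perm J), fun h j => rfl⟩
  have hτI : I ≤ I.comap τ := by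
    intro h hh
    have : τ h = fun j => h (ρ⁻¹ j) := funext (hτ h)
    rw [Submodule.mem_comap, this]
    exact hI h hh
  have hτpow : ∀ (k : ℕ) (h : J → ZMod p) (j : J), (τ ^ k) h j = h ((ρ ^ k)⁻¹ j) := by
    intro k
    induction k with
    | zero => intro h j; simp
    | succ k ih =>
      intro h j
      rw [pow_succ, Module.End.mul_apply, ih, hτ, pow_succ, mul_inv_rev]
      rfl
  have hτp : τ ^ p = 1 := by
    apply LinearMap.ext
    intro h
    funext j
    rw [hτpow, hρ]
    rfl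
  have hsingle : ∀ k : ℕ, (τ ^ k) (Pi.single j₀ 1) = Pi.single ((ρ ^ k) j₀) (1 : ZMod p) := by
    intro k
    funext j
    rw [hτpow, Pi.single_apply, Pi.single_apply]
    have : ((ρ ^ k)⁻¹ j = j₀) ↔ (j = (ρ ^ k) j₀) := by
      constructor
      · intro h
        rw [← h]
        simp
      · intro h
        rw [h]
        simp
    simp only [this]
  obtain ⟨P, hP⟩ : ∃ P : (ZMod p)[X],
      P = ∑ k ∈ Finset.range p, C (w ((ρ ^ k) j₀)) * X ^ k := ⟨_, rfl⟩
  -- `aeval τ P` sends the basis vector at `j₀` to `w`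
  have hPw : aeval τ P (Pi.single j₀ 1) = w := by
    rw [hP, map_sum]
    funext j
    rw [LinearMap.sum_apply, Finset.sum_apply]
    obtain ⟨k₀, hk₀, hk₀j⟩ := hsurj j
    rw [Finset.sum_eq_single k₀]
    · rw [map_mul, aeval_C, map_pow, aeval_X, Module.End.mul_apply, hsingle, hk₀j]
      simp
    · intro k hk hne
      rw [map_mul, aeval_C, map_pow, aeval_X, Module.End.mul_apply, hsingle]
      have hne' : (ρ ^ k) j₀ ≠ j := by
        intro h
        exact hne (hinj k hk k₀ hk₀ (h.trans hk₀j.symm))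
      simp [hne'.symm]
    · intro h
      exact absurd hk₀ h
  -- the `p`-th power of `P`
  have hPp : aeval τ (P ^ p) = algebraMap (ZMod p) _ (∑ j, w j) := by
    have h1 : P ^ p = ∑ k ∈ Finset.range p, C (w ((ρ ^ k) j₀)) * (X ^ p) ^ k := by
      rw [hP, sum_pow_char p]
      apply Finset.sum_congr rfl
      intro k _
      rw [mul_pow, ← C_pow, ZMod.pow_card, ← pow_mul, ← pow_mul, Nat.mul_comm k p]
    rw [h1, map_sum]
    have h2 : ∀ k ∈ Finset.range p, aeval τ (C (w ((ρ ^ k) j₀)) * (X ^ p) ^ k) =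
        algebraMap (ZMod p) _ (w ((ρ ^ k) j₀)) := by
      intro k _
      rw [map_mul, aeval_C, map_pow, map_pow, aeval_X, hτp, one_pow, mul_one]
    rw [Finset.sum_congr rfl h2, ← map_sum]
    congr 1
    apply Finset.sum_bij' (fun k _ => (ρ ^ k) j₀) (fun j _ => Classical.choose (hsurj j))
    · intro k _
      exact Finset.mem_univ _
    · intro j _
      exact (Classical.choose_spec (hsurj j)).1
    · intro k hk
      exact hinj _ (Classical.choose_spec (hsurj ((ρ ^ k) j₀))).1 _ hk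
        (Classical.choose_spec (hsurj ((ρ ^ k) j₀))).2
    · intro j _
      exact (Classical.choose_spec (hsurj j)).2
    · intro k _
      rfl
  have hδ : (Pi.single j₀ 1 : J → ZMod p) ∈ I := by
    have h1 : aeval τ (P ^ (p - 1)) w ∈ I := aeval_apply_smul_mem_of_le_comap hw _ τ hτI
    have h2 : aeval τ (P ^ (p - 1)) (aeval τ P (Pi.single j₀ 1)) =
        (∑ j, w j) • (Pi.single j₀ 1 : J → ZMod p) := by
      rw [← Module.End.mul_apply, ← map_mul, ← pow_succ,
        Nat.sub_add_cancel hp.out.one_le, hPp, Module.algebraMap_end_apply]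
    rw [hPw] at h2
    rw [h2] at h1
    have h3 := I.smul_mem (∑ j, w j)⁻¹ h1
    rw [smul_smul, inv_mul_cancel₀ hsum, one_smul] at h3
    exact h3
  have hall : ∀ j : J, (Pi.single j 1 : J → ZMod p) ∈ I := by
    intro j
    obtain ⟨k, _, hk⟩ := hsurj j
    rw [← hk, ← hsingle]
    exact aeval_apply_smul_mem_of_le_comap hδ (X ^ k) τ hτI |> fun h => by
      rwa [map_pow, aeval_X] at h
  rw [eq_top_iff]
  intro h _
  rw [pi_eq_sum_univ' h]
  exact I.sum_mem fun j _ => I.smul_mem _ (hall j)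

end Cfsg.Agent.Lib.Helper87.Circulant
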