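import Mathlib
import Cfsg.Agent.Lib.Helper87.Circulant

/-!
# Quotients isomorphic to `C_p ≀ C_p`

A finite group `S` with a normal subgroup `M` of index `p` and a homomorphism `ν : M → C_p` whose
`p` conjugates under `S / M` have a product which is nontrivial somewhere maps onto a Sylow
`p`-subgroup of the symmetric group of degree `p²`.
-/

set_option autoImplicit false

namespace Cfsg.Agent.Lib.Helper87.Wreath

open Cfsg.Agent.Lib.Helper87.Circulant

/-- A finite group with a subgroup `K` of index `p²` whose normal core has index `p^(p+1)` maps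
onto a Sylow `p`-subgroup of the symmetric group of degree `p²`. -/
theorem exists_surj_sylow {S : Type*} [Group S] [Finite S] {p : ℕ} [hp : Fact p.Prime]
    (K : Subgroup S) (hK : K.index = p ^ 2) (hcore : K.normalCore.index = p ^ (p + 1)) :
    ∃ (W : Sylow p (Equiv.Perm (Fin (p ^ 2))))
      (f : S →* ↥(W : Subgroup (Equiv.Perm (Fin (p ^ 2))))), Function.Surjective f := by
  classical
  have hcardQ : Nat.card (S ⧸ K) = p ^ 2 := by
    rw [← Subgroup.index_eq_card]
    exact hK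
  obtain ⟨e⟩ : Nonempty ((S ⧸ K) ≃ Fin (p ^ 2)) := ⟨Finite.equivFinOfCardEq hcardQ⟩
  obtain ⟨f₁, hf₁⟩ : ∃ f₁ : S →* Equiv.Perm (Fin (p ^ 2)),
      f₁ = (Equiv.permCongrHom e).toMonoidHom.comp (MulAction.toPermHom S (S ⧸ K)) := ⟨_, rfl⟩
  have hker : f₁.ker = K.normalCore := by
    rw [Subgroup.normalCore_eq_ker, hf₁]
    ext s
    rw [MonoidHom.mem_ker, MonoidHom.mem_ker]
    show (Equiv.permCongrHom e) (MulAction.toPermHom S (S ⧸ K) s) = 1 ↔ _
    exact EmbeddingLike.map_eq_one_iff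
  have hrange : Nat.card f₁.range = p ^ (p + 1) := by
    rw [← Subgroup.index_ker, hker, hcore]
  have hfact : (Nat.card (Equiv.Perm (Fin (p ^ 2)))).factorization p = p + 1 := by
    rw [Nat.card_eq_fintype_card, Fintype.card_perm, Fintype.card_fin,
      Nat.factorization_def _ hp.out,
      padicValNat_factorial (b := 3) (by rw [Nat.log_pow hp.out.one_lt]; norm_num)]
    have h1 : Finset.Ico 1 3 = {1, 2} := by decide
    rw [h1, Finset.sum_pair (by norm_num)]
    rw [pow_one, Nat.div_self (pow_pos hp.out.pos 2), pow_two, Nat.mul_div_cancel _ hp.out.pos]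
  obtain ⟨W, hW⟩ : ∃ W : Sylow p (Equiv.Perm (Fin (p ^ 2))),
      (W : Subgroup (Equiv.Perm (Fin (p ^ 2)))) = f₁.range :=
    ⟨Sylow.ofCard f₁.range (by rw [hrange, hfact]), Sylow.coe_ofCard _ _⟩
  refine ⟨W, (MulEquiv.subgroupCongr hW.symm).toMonoidHom.comp f₁.rangeRestrict, ?_⟩
  exact (MulEquiv.subgroupCongr hW.symm).surjective.comp f₁.rangeRestrict_surjective

/-- The wreath product lemma. -/
theorem exists_wreath_quotient {S : Type*} [Group S] [Finite S] {p : ℕ} [hp : Fact p.Prime]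
    (M : Subgroup S) [hMn : M.Normal] (hM : M.index = p) (x : S) (hx : x ∉ M)
    (ν : M →* Multiplicative (ZMod p)) (u : M)
    (hu : ∏ k ∈ Finset.range p, ν ⟨(x ^ k)⁻¹ * (u : S) * x ^ k, hMn.conj_mem' u u.2 (x ^ k)⟩ ≠ 1) :
    ∃ (W : Sylow p (Equiv.Perm (Fin (p ^ 2))))
      (f : S →* ↥(W : Subgroup (Equiv.Perm (Fin (p ^ 2))))), Function.Surjective f := by
  classical
  haveI : Fintype (S ⧸ M) := Fintype.ofFinite _
  have hcardJ : Nat.card (S ⧸ M) = p := by
    rw [← Subgroup.index_eq_card]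
    exact hM
  have hxp : x ^ p ∈ M := by
    have h1 : ((x : S ⧸ M)) ^ p = 1 := by
      rw [← hcardJ]
      exact pow_card_eq_one'
    rw [← QuotientGroup.mk_pow] at h1
    exact (QuotientGroup.eq_one_iff _).mp h1
  have hx1 : (x : S ⧸ M) ≠ 1 := fun h => hx ((QuotientGroup.eq_one_iff _).mp h)
  have hord : orderOf (x : S ⧸ M) = p :=
    orderOf_eq_prime (by
      rw [← QuotientGroup.mk_pow]
      exact (QuotientGroup.eq_one_iff _).mpr hxp) hx1
  obtain ⟨ρ, hρdef⟩ : ∃ ρ : Equiv.Perm (S ⧸ M), ρ = MulAction.toPerm x := ⟨_, rfl⟩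
  have hρ1 : ∀ g : S, ρ (g : S ⧸ M) = ((x * g : S) : S ⧸ M) := by
    intro g
    rw [hρdef]
    rfl
  have hρk : ∀ (k : ℕ) (g : S), (ρ ^ k) (g : S ⧸ M) = ((x ^ k * g : S) : S ⧸ M) := by
    intro k
    induction k with
    | zero =>
      intro g
      rw [pow_zero, pow_zero, one_mul]
      rfl
    | succ k ih =>
      intro g
      rw [pow_succ', Equiv.Perm.mul_apply, ih, hρ1, pow_succ', mul_assoc]
  have hρ : ρ ^ p = 1 := by
    ext c
    induction c using QuotientGroup.induction_on with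
    | H g =>
    rw [hρk]
    show ((x ^ p * g : S) : S ⧸ M) = (g : S ⧸ M)
    apply QuotientGroup.eq.mpr
    have h1 := hMn.conj_mem' _ (M.inv_mem hxp) g
    have e1 : g⁻¹ * (x ^ p)⁻¹ * g = (x ^ p * g)⁻¹ * g := by group
    rw [e1] at h1
    exact h1
  have hsurj : ∀ j : S ⧸ M, ∃ k ∈ Finset.range p, (ρ ^ k) ((1 : S) : S ⧸ M) = j := by
    intro j
    have h1 : j ∈ Subgroup.zpowers (x : S ⧸ M) := by
      rw [zpowers_eq_top_of_prime_card hcardJ hx1]
      trivial
    rw [← mem_powers_iff_mem_zpowers, mem_powers_iff_mem_range_orderOf, hord] at h1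
    obtain ⟨k, hk, rfl⟩ := Finset.mem_image.mp h1
    refine ⟨k, hk, ?_⟩
    rw [hρk, mul_one]
    rfl
  have hinj : ∀ k ∈ Finset.range p, ∀ k' ∈ Finset.range p,
      (ρ ^ k) ((1 : S) : S ⧸ M) = (ρ ^ k') ((1 : S) : S ⧸ M) → k = k' := by
    intro k hk k' hk' h
    rw [hρk, hρk, mul_one, mul_one] at h
    have h2 : (x : S ⧸ M) ^ k = (x : S ⧸ M) ^ k' := h
    exact pow_injOn_Iio_orderOf (by rw [hord]; exact Finset.mem_range.mp hk)
      (by rw [hord]; exact Finset.mem_range.mp hk') h2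
  -- the conjugates of `ν`
  obtain ⟨κ, hκ⟩ : ∃ κ : S → M → ZMod p, ∀ g m,
      κ g m = (ν ⟨g⁻¹ * (m : S) * g, hMn.conj_mem' m m.2 g⟩).toAdd := ⟨_, fun _ _ => rfl⟩
  have hκmul : ∀ g m m', κ g (m * m') = κ g m + κ g m' := by
    intro g m m'
    rw [hκ, hκ, hκ, ← toAdd_mul, ← map_mul]
    congr 2
    apply Subtype.ext
    show g⁻¹ * ((m : S) * (m' : S)) * g = g⁻¹ * (m : S) * g * (g⁻¹ * (m' : S) * g)
    group
  have hκM : ∀ g (y : M) m, κ (g * y) m = κ g m := by
    intro g y m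
    rw [hκ, hκ]
    have e1 : (⟨(g * (y : S))⁻¹ * (m : S) * (g * (y : S)), hMn.conj_mem' m m.2 (g * y)⟩ : M) =
        y⁻¹ * ⟨g⁻¹ * (m : S) * g, hMn.conj_mem' m m.2 g⟩ * y := by
      apply Subtype.ext
      show (g * (y : S))⁻¹ * (m : S) * (g * (y : S)) = (y : S)⁻¹ * (g⁻¹ * (m : S) * g) * (y : S)
      group
    have e2 : ν (y⁻¹ * ⟨g⁻¹ * (m : S) * g, hMn.conj_mem' m m.2 g⟩ * y) =
        ν ⟨g⁻¹ * (m : S) * g, hMn.conj_mem' m m.2 g⟩ := by
      rw [map_mul, map_mul, map_inv, mul_comm, mul_inv_cancel_left]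
    rw [e1, e2]
  obtain ⟨Φ, hΦ⟩ : ∃ Φ : M → (S ⧸ M) → ZMod p,
      ∀ (m : M) (g : S), Φ m ((g : S) : S ⧸ M) = κ g m := by
    refine ⟨fun m c => Quotient.liftOn' c (fun g => κ g m) ?_, fun m g => rfl⟩
    intro a b hab
    rw [QuotientGroup.leftRel_apply] at hab
    have := hκM a ⟨a⁻¹ * b, hab⟩ m
    rw [← this]
    congr 1
    show a * (a⁻¹ * b) = b
    group
  have hΦmul : ∀ m m', Φ (m * m') = Φ m + Φ m' := by
    intro m m'
    funext c
    induction c using QuotientGroup.induction_on with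
    | H g =>
    rw [Pi.add_apply, hΦ, hΦ, hΦ, hκmul]
  have hΦone : Φ 1 = 0 := by
    have h1 := hΦmul 1 1
    rw [mul_one] at h1
    exact left_eq_add.mp h1
  have hΦpow : ∀ (m : M) (n : ℕ), Φ (m ^ n) = n • Φ m := by
    intro m n
    induction n with
    | zero => rw [pow_zero, zero_smul, hΦone]
    | succ n ih => rw [pow_succ, hΦmul, ih, succ_nsmul]
  obtain ⟨I, hImem⟩ : ∃ I : Submodule (ZMod p) ((S ⧸ M) → ZMod p),
      ∀ h, h ∈ I ↔ ∃ m, Φ m = h := by
    refine ⟨{ carrier := Set.range Φ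
              add_mem' := ?_
              zero_mem' := ⟨1, hΦone⟩
              smul_mem' := ?_ }, fun h => Iff.rfl⟩
    · rintro _ _ ⟨m, rfl⟩ ⟨m', rfl⟩
      exact ⟨m * m', hΦmul m m'⟩
    · rintro c _ ⟨m, rfl⟩
      refine ⟨m ^ c.val, ?_⟩
      rw [hΦpow, ← Nat.cast_smul_eq_nsmul (ZMod p), ZMod.natCast_zmod_val]
  have hI : ∀ h ∈ I, (fun j => h (ρ⁻¹ j)) ∈ I := by
    intro h hh
    obtain ⟨m, rfl⟩ := (hImem h).mp hh
    rw [hImem]
    refine ⟨⟨x * (m : S) * x⁻¹, hMn.conj_mem m m.2 x⟩, ?_⟩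
    funext c
    induction c using QuotientGroup.induction_on with
    | H g =>
    have e1 : ρ⁻¹ (g : S ⧸ M) = ((x⁻¹ * g : S) : S ⧸ M) := by
      rw [Equiv.Perm.inv_eq_iff_eq, hρ1, mul_inv_cancel_left]
    rw [e1, hΦ, hΦ, hκ, hκ]
    congr 2
    apply Subtype.ext
    show g⁻¹ * (x * (m : S) * x⁻¹) * g = (x⁻¹ * g)⁻¹ * (m : S) * (x⁻¹ * g)
    group
  have hsum : ∑ j, Φ u j ≠ 0 := by
    have h1 : ∑ j, Φ u j = ∑ k ∈ Finset.range p, Φ u ((ρ ^ k) ((1 : S) : S ⧸ M)) := by
      symm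
      apply Finset.sum_bij' (fun k _ => (ρ ^ k) ((1 : S) : S ⧸ M))
        (fun j _ => Classical.choose (hsurj j))
      · intro k _
        exact Finset.mem_univ _
      · intro j _
        exact (Classical.choose_spec (hsurj j)).1
      · intro k hk
        exact hinj _ (Classical.choose_spec (hsurj ((ρ ^ k) ((1 : S) : S ⧸ M)))).1 _ hk
          (Classical.choose_spec (hsurj ((ρ ^ k) ((1 : S) : S ⧸ M)))).2
      · intro j _
        exact (Classical.choose_spec (hsurj j)).2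
      · intro k _
        rfl
    rw [h1]
    have h2 : ∀ k ∈ Finset.range p, Φ u ((ρ ^ k) ((1 : S) : S ⧸ M)) =
        (ν ⟨(x ^ k)⁻¹ * (u : S) * x ^ k, hMn.conj_mem' u u.2 (x ^ k)⟩).toAdd := by
      intro k _
      rw [hρk, mul_one, hΦ, hκ]
    rw [Finset.sum_congr rfl h2, ← toAdd_prod]
    intro h3
    exact hu (toAdd_eq_zero.mp h3)
  have htop := eq_top_of_shift ρ ((1 : S) : S ⧸ M) hρ hsurj hinj I hI (Φ u) ((hImem _).mpr ⟨u, rfl⟩) hsum
  have hΦsurj : ∀ h : (S ⧸ M) → ZMod p, ∃ m, Φ m = h := by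
    intro h
    rw [← hImem, htop]
    trivial
  -- the homomorphism `Φ`
  obtain ⟨Φh, hΦh⟩ : ∃ Φh : M →* Multiplicative ((S ⧸ M) → ZMod p),
      ∀ m, Φh m = Multiplicative.ofAdd (Φ m) :=
    ⟨MonoidHom.mk' (fun m => Multiplicative.ofAdd (Φ m)) (fun m m' => by
      show Multiplicative.ofAdd (Φ (m * m')) = Multiplicative.ofAdd (Φ m) * Multiplicative.ofAdd (Φ m')
      rw [hΦmul]
      rfl), fun _ => rfl⟩
  have hΦhsurj : Function.Surjective Φh := by
    intro h
    obtain ⟨m, hm⟩ := hΦsurj h.toAdd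
    exact ⟨m, by rw [hΦh, hm]; rfl⟩
  -- `ν` is surjective
  have hνsurj : Function.Surjective ν := by
    have hne : ∃ m : M, ν m ≠ 1 := by
      by_contra hcon
      push Not at hcon
      exact hu (Finset.prod_eq_one fun k _ => hcon _)
    obtain ⟨m, hm⟩ := hne
    have hcardA : Nat.card (Multiplicative (ZMod p)) = p := by
      rw [Nat.card_congr Multiplicative.toAdd, Nat.card_zmod]
    haveI : Fact (Nat.card (Multiplicative (ZMod p))).Prime := ⟨by rw [hcardA]; exact hp.out⟩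
    rcases Subgroup.eq_bot_or_eq_top_of_prime_card ν.range with h | h
    · exfalso
      apply hm
      have : ν m ∈ ν.range := ⟨m, rfl⟩
      rw [h, Subgroup.mem_bot] at this
      exact this
    · exact MonoidHom.range_eq_top.mp h
  obtain ⟨K, hKdef⟩ : ∃ K : Subgroup S, K = ν.ker.map M.subtype := ⟨_, rfl⟩
  have hKM : K ≤ M := by
    rw [hKdef]
    rintro _ ⟨m, _, rfl⟩
    exact m.2
  have hKmem : ∀ m : M, (m : S) ∈ K ↔ ν m = 1 := by
    intro m
    rw [hKdef]
    constructor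
    · rintro ⟨m', hm', h⟩
      have : m' = m := Subtype.ext h
      rw [← this]
      exact hm'
    · intro h
      exact ⟨m, h, rfl⟩
  have hKsub : K.subgroupOf M = ν.ker := by
    ext m
    rw [Subgroup.mem_subgroupOf, hKmem, MonoidHom.mem_ker]
  have hKidx : K.index = p ^ 2 := by
    rw [← Subgroup.relIndex_mul_index hKM, hM, Subgroup.relIndex, hKsub, Subgroup.index_ker,
      MonoidHom.range_eq_top.mpr hνsurj, Subgroup.card_top, Nat.card_congr Multiplicative.toAdd,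
      Nat.card_zmod, pow_two]
  have hcoresub : K.normalCore.subgroupOf M = Φh.ker := by
    ext m
    rw [Subgroup.mem_subgroupOf, MonoidHom.mem_ker, hΦh]
    constructor
    · intro h
      have h0 : Φ m = 0 := by
        funext c
        induction c using QuotientGroup.induction_on with
        | H g =>
        rw [hΦ, hκ]
        have h1 : g⁻¹ * (m : S) * g⁻¹⁻¹ ∈ K := h g⁻¹
        rw [inv_inv] at h1
        have h2 := (hKmem ⟨g⁻¹ * (m : S) * g, hMn.conj_mem' m m.2 g⟩).mp h1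
        rw [h2]
        rfl
      rw [h0]
      rfl
    · intro h
      have h0 : Φ m = 0 := h
      intro b
      have h1 : Φ m ((b⁻¹ : S) : S ⧸ M) = 0 := by rw [h0]; rfl
      rw [hΦ, hκ] at h1
      have h2 := (hKmem ⟨b⁻¹⁻¹ * (m : S) * b⁻¹, hMn.conj_mem' m m.2 b⁻¹⟩).mpr (toAdd_eq_zero.mp h1)
      have e2 : b⁻¹⁻¹ * (m : S) * b⁻¹ = b * (m : S) * b⁻¹ := by rw [inv_inv]
      rw [← e2]
      exact h2
  have hcoreidx : K.normalCore.index = p ^ (p + 1) := by
    rw [← Subgroup.relIndex_mul_index ((Subgroup.normalCore_le K).trans hKM), hM,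
      Subgroup.relIndex, hcoresub, Subgroup.index_ker,
      MonoidHom.range_eq_top.mpr hΦhsurj, Subgroup.card_top,
      Nat.card_congr Multiplicative.toAdd, Nat.card_fun, Nat.card_zmod, hcardJ, pow_succ]
  exact exists_surj_sylow K hKidx hcoreidx

end Cfsg.Agent.Lib.Helper87.Wreath
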