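import Mathlib
import Cfsg.Agent.Lib.Helper87.Transfer
import Cfsg.Agent.Lib.Helper87.Wreath
import Cfsg.Agent.Lib.Helper63.PFrattini

/-!
# The transfer cocycle along the orbits of a `p`-group

In the setting of `Transfer`, a finite `p`-group `S` acts on `X` by permutations commuting with
the free action of `B`, and `lam : B → C_p` is a homomorphism.  The product of `lam (d (L u) o)`
over an orbit of `S` on the set of `B`-orbits is computed: it is trivial on every nontrivial orbit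
unless `S` has a quotient isomorphic to `C_p ≀ C_p`.
-/

set_option autoImplicit false

namespace Cfsg.Agent.Lib.Helper87.OrbitTransfer

open Cfsg.Agent.Lib.Helper87.Transfer Cfsg.Agent.Lib.Helper87.Wreath

section cosets

variable {S : Type*} [Group S] [Finite S] {p : ℕ} [hp : Fact p.Prime]

theorem orderOf_mk (M : Subgroup S) [hMn : M.Normal] (hM : M.index = p) (x : S) (hx : x ∉ M) :
    orderOf (x : S ⧸ M) = p := by
  have hcardJ : Nat.card (S ⧸ M) = p := by
    rw [← Subgroup.index_eq_card]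
    exact hM
  have hx1 : (x : S ⧸ M) ≠ 1 := fun h => hx ((QuotientGroup.eq_one_iff _).mp h)
  refine orderOf_eq_prime ?_ hx1
  rw [← hcardJ]
  exact pow_card_eq_one'

theorem exists_rep (M : Subgroup S) [hMn : M.Normal] (hM : M.index = p) (x : S) (hx : x ∉ M)
    (s : S) : ∃ k ∈ Finset.range p, (x ^ k)⁻¹ * s ∈ M := by
  classical
  have hcardJ : Nat.card (S ⧸ M) = p := by
    rw [← Subgroup.index_eq_card]
    exact hM
  have hx1 : (x : S ⧸ M) ≠ 1 := fun h => hx ((QuotientGroup.eq_one_iff _).mp h)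
  have h1 : (s : S ⧸ M) ∈ Subgroup.zpowers (x : S ⧸ M) := by
    rw [zpowers_eq_top_of_prime_card hcardJ hx1]
    trivial
  rw [← mem_powers_iff_mem_zpowers, mem_powers_iff_mem_range_orderOf, orderOf_mk M hM x hx] at h1
  obtain ⟨k, hk, hks⟩ := Finset.mem_image.mp h1
  refine ⟨k, hk, ?_⟩
  apply QuotientGroup.eq.mp
  rw [← hks]
  rfl

theorem rep_inj (M : Subgroup S) [hMn : M.Normal] (hM : M.index = p) (x : S) (hx : x ∉ M)
    {k k' : ℕ} (hk : k ∈ Finset.range p) (hk' : k' ∈ Finset.range p)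
    (h : (x ^ k')⁻¹ * x ^ k ∈ M) : k = k' := by
  have h1 : ((x ^ k' : S) : S ⧸ M) = ((x ^ k : S) : S ⧸ M) := QuotientGroup.eq.mpr h
  have h2 : (x : S ⧸ M) ^ k = (x : S ⧸ M) ^ k' := h1.symm
  exact pow_injOn_Iio_orderOf (by rw [orderOf_mk M hM x hx]; exact Finset.mem_range.mp hk)
    (by rw [orderOf_mk M hM x hx]; exact Finset.mem_range.mp hk') h2

theorem dvd_of_pow_mem (M : Subgroup S) [hMn : M.Normal] (hM : M.index = p) (u : S) (hu : u ∉ M)
    (k : ℕ) (h : u ^ k ∈ M) : p ∣ k := by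
  rw [← orderOf_mk M hM u hu]
  apply orderOf_dvd_of_pow_eq_one
  rw [← QuotientGroup.mk_pow]
  exact (QuotientGroup.eq_one_iff _).mpr h

end cosets

variable {G : Type*} [Group G] {X : Type*} [MulAction G X] {B : Type*} [Group B] {r : B →* G}

theorem d_one (hfree : ∀ (b : B) (x : X), r b • x = x → b = 1) (o : ROrb r X) :
    d r (1 : rPerm r X) o = 1 := by
  apply eq_of_smul_eq hfree (x := (bar r X 1 o).out)
  rw [d_spec, map_one r, one_smul, map_one (bar r X)]
  rfl

theorem d_inv (hfree : ∀ (b : B) (x : X), r b • x = x → b = 1) (e : rPerm r X) (o : ROrb r X) :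
    d r e⁻¹ (bar r X e o) = (d r e o)⁻¹ := by
  have h := d_mul hfree e⁻¹ e o
  rw [inv_mul_cancel, d_one hfree] at h
  exact eq_inv_of_mul_eq_one_right h.symm

variable {C : Type*} [CommGroup C]

theorem lam_d_pow (hfree : ∀ (b : B) (x : X), r b • x = x → b = 1) (lam : B →* C)
    (σ : rPerm r X) (o : ROrb r X) (k : ℕ) :
    lam (d r (σ ^ k) o) = ∏ i ∈ Finset.range k, lam (d r σ ((bar r X σ ^ i) o)) := by
  induction k with
  | zero => rw [Finset.prod_range_zero, pow_zero, d_one hfree, map_one]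
  | succ k ih => rw [Finset.prod_range_succ, pow_succ', d_mul hfree, map_mul, ih, map_pow]

/-- Reindexing a product over a set stable under a permutation. -/
theorem finprod_mem_comp_perm {O : Type*} (π : Equiv.Perm O) (Y : Set O)
    (hY : ∀ o, o ∈ Y ↔ π o ∈ Y) (f : O → C) :
    ∏ᶠ o ∈ Y, f (π o) = ∏ᶠ o ∈ Y, f o := by
  have h1 : π '' Y = Y := by
    ext o
    constructor
    · rintro ⟨o', ho', rfl⟩
      exact (hY o').mp ho'
    · intro ho
      refine ⟨π.symm o, ?_, π.apply_symm_apply o⟩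
      rw [hY, π.apply_symm_apply]
      exact ho
  conv_rhs => rw [← h1]
  rw [finprod_mem_image (π.injective.injOn)]

theorem prod_mul [Finite X] (hfree : ∀ (b : B) (x : X), r b • x = x → b = 1) (lam : B →* C)
    (σ τ : rPerm r X) (Y : Set (ROrb r X)) (hY : ∀ o, o ∈ Y ↔ bar r X τ o ∈ Y) :
    ∏ᶠ o ∈ Y, lam (d r (σ * τ) o) =
      (∏ᶠ o ∈ Y, lam (d r σ o)) * ∏ᶠ o ∈ Y, lam (d r τ o) := by
  have h1 : ∀ o ∈ Y, lam (d r (σ * τ) o) = lam (d r τ o) * lam (d r σ (bar r X τ o)) :=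
    fun o _ => by rw [d_mul hfree, map_mul]
  rw [finprod_mem_congr rfl h1, finprod_mem_mul_distrib (Set.toFinite Y),
    finprod_mem_comp_perm (bar r X τ) Y hY (fun o => lam (d r σ o)), mul_comm]

theorem prod_conj [Finite X] (hfree : ∀ (b : B) (x : X), r b • x = x → b = 1) (lam : B →* C)
    (e σ : rPerm r X) (Y : Set (ROrb r X)) (hY : ∀ o, o ∈ Y ↔ bar r X σ o ∈ Y) :
    ∏ᶠ o ∈ Y, lam (d r (e * σ * e⁻¹) (bar r X e o)) = ∏ᶠ o ∈ Y, lam (d r σ o) := by
  have h1 : ∀ o ∈ Y, lam (d r (e * σ * e⁻¹) (bar r X e o)) =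
      (lam (d r e o))⁻¹ * lam (d r σ o) * lam (d r e (bar r X σ o)) := fun o _ => by
    have h2 : bar r X e⁻¹ (bar r X e o) = o := by
      rw [map_inv]
      simp
    rw [d_mul hfree (e * σ) e⁻¹, d_inv hfree, map_mul, map_inv, h2, d_mul hfree e σ, map_mul,
      mul_assoc]
  rw [finprod_mem_congr rfl h1, finprod_mem_mul_distrib (Set.toFinite Y),
    finprod_mem_mul_distrib (Set.toFinite Y), finprod_mem_inv_distrib _ (Set.toFinite Y),
    finprod_mem_comp_perm (bar r X σ) Y hY (fun o => lam (d r e o)), mul_comm,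
    mul_inv_cancel_left]

/-- If the product over every class of an equivalence relation is trivial, the whole product is
trivial. -/
theorem finprod_eq_one_of_classes {O : Type*} [Finite O] (R : Setoid O) (h : O → C)
    (H : ∀ o₀, ∏ᶠ o ∈ {o | R.r o₀ o}, h o = 1) : ∏ᶠ o, h o = 1 := by
  classical
  haveI : Fintype O := Fintype.ofFinite O
  rw [finprod_eq_prod_of_fintype, Finset.prod_partition R]
  apply Finset.prod_eq_one
  intro c _
  induction c using Quotient.inductionOn with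
  | h o₀ =>
    rw [← H o₀, ← finprod_mem_coe_finset]
    apply finprod_mem_congr _ (fun _ _ => rfl)
    ext o
    rw [Finset.coe_filter, Set.mem_ofPred_eq, Set.mem_ofPred_eq]
    constructor
    · rintro ⟨-, h1⟩
      exact R.symm (Quotient.exact h1)
    · intro h1
      exact ⟨Finset.mem_univ _, Quotient.sound (R.symm h1)⟩

section orbits

variable [Finite X] {S : Type*} [Group S] [Finite S] {p : ℕ} [hp : Fact p.Prime]

theorem bar_mul_apply (L : S →* rPerm r X) (s t : S) (o : ROrb r X) :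
    bar r X (L (s * t)) o = bar r X (L s) (bar r X (L t) o) := by
  rw [map_mul, map_mul]
  rfl

theorem bar_inv_apply (L : S →* rPerm r X) (s : S) (o : ROrb r X) :
    bar r X (L s⁻¹) (bar r X (L s) o) = o := by
  rw [← bar_mul_apply, inv_mul_cancel, map_one, map_one]
  rfl

theorem bar_inv_apply' (L : S →* rPerm r X) (s : S) (o : ROrb r X) :
    bar r X (L s) (bar r X (L s⁻¹) o) = o := by
  rw [← bar_mul_apply, mul_inv_cancel, map_one, map_one]
  rfl

theorem bar_pow_apply (L : S →* rPerm r X) (s : S) (k : ℕ) (o : ROrb r X) :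
    (bar r X (L s) ^ k) o = bar r X (L (s ^ k)) o := by
  rw [map_pow, map_pow]

/-- The product over an orbit when `u` lies in a maximal subgroup containing the stabilizer. -/
theorem prod_orbit_eq_one_of_mem (hfree : ∀ (b : B) (x : X), r b • x = x → b = 1)
    (hnw : ¬ ∃ (W : Sylow p (Equiv.Perm (Fin (p ^ 2))))
      (f : S →* ↥(W : Subgroup (Equiv.Perm (Fin (p ^ 2))))), Function.Surjective f)
    (L : S →* rPerm r X) (lam : B →* Multiplicative (ZMod p))
    (M : Subgroup S) [hMn : M.Normal] (hM : M.index = p) (o₀ : ROrb r X)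
    (hstab : ∀ s : S, bar r X (L s) o₀ = o₀ → s ∈ M) (u : S) (hu : u ∈ M) :
    ∏ᶠ o ∈ {o | ∃ s : S, bar r X (L s) o₀ = o}, lam (d r (L u) o) = 1 := by
  classical
  obtain ⟨x, hx⟩ : ∃ x : S, x ∉ M := by
    by_contra hcon
    push Not at hcon
    have h1 : M = ⊤ := by
      rw [eq_top_iff]
      intro s _
      exact hcon s
    rw [h1, Subgroup.index_top] at hM
    exact hp.out.one_lt.ne hM
  obtain ⟨Y₀, hY₀def⟩ : ∃ Y₀ : Set (ROrb r X), Y₀ = {o | ∃ m ∈ M, bar r X (L m) o₀ = o} :=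
    ⟨_, rfl⟩
  have hY₀ : ∀ m ∈ M, ∀ o, o ∈ Y₀ ↔ bar r X (L m) o ∈ Y₀ := by
    intro m hm o
    rw [hY₀def]
    constructor
    · rintro ⟨m', hm', rfl⟩
      exact ⟨m * m', M.mul_mem hm hm', bar_mul_apply L m m' o₀⟩
    · rintro ⟨m', hm', h⟩
      refine ⟨m⁻¹ * m', M.mul_mem (M.inv_mem hm) hm', ?_⟩
      rw [bar_mul_apply, h, bar_inv_apply]
  obtain ⟨ν, hν⟩ : ∃ ν : M →* Multiplicative (ZMod p),
      ∀ m : M, ν m = ∏ᶠ o ∈ Y₀, lam (d r (L (m : S)) o) := by
    refine ⟨MonoidHom.mk' (fun m => ∏ᶠ o ∈ Y₀, lam (d r (L (m : S)) o)) ?_, fun _ => rfl⟩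
    intro m m'
    show ∏ᶠ o ∈ Y₀, lam (d r (L ((m : S) * (m' : S))) o) = _
    rw [map_mul]
    exact prod_mul hfree lam (L m) (L m') Y₀ (hY₀ m' m'.2)
  have hkey : ∀ k : ℕ, ∏ᶠ o ∈ (bar r X (L (x ^ k))) '' Y₀, lam (d r (L u) o) =
      ν ⟨(x ^ k)⁻¹ * u * x ^ k, hMn.conj_mem' u hu (x ^ k)⟩ := by
    intro k
    rw [finprod_mem_image ((bar r X (L (x ^ k))).injective.injOn), hν]
    have h1 : L u = L (x ^ k) * L ((x ^ k)⁻¹ * u * x ^ k) * (L (x ^ k))⁻¹ := by
      rw [← map_inv, ← map_mul, ← map_mul]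
      congr 1
      group
    rw [h1]
    exact prod_conj hfree lam (L (x ^ k)) (L ((x ^ k)⁻¹ * u * x ^ k)) Y₀
      (hY₀ _ (hMn.conj_mem' u hu (x ^ k)))
  have hY : {o | ∃ s : S, bar r X (L s) o₀ = o} =
      ⋃ k ∈ ((Finset.range p : Finset ℕ) : Set ℕ), (bar r X (L (x ^ k))) '' Y₀ := by
    ext o
    rw [Set.mem_iUnion₂, Set.mem_ofPred_eq]
    constructor
    · rintro ⟨s, rfl⟩
      obtain ⟨k, hk, hks⟩ := exists_rep M hM x hx s
      refine ⟨k, Finset.mem_coe.mpr hk, bar r X (L ((x ^ k)⁻¹ * s)) o₀, ?_, ?_⟩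
      · rw [hY₀def]
        exact ⟨_, hks, rfl⟩
      · rw [← bar_mul_apply, mul_inv_cancel_left]
    · rintro ⟨k, -, o', ho', rfl⟩
      rw [hY₀def] at ho'
      obtain ⟨m, -, rfl⟩ := ho'
      exact ⟨x ^ k * m, bar_mul_apply L _ _ _⟩
  have hdisj : ((Finset.range p : Finset ℕ) : Set ℕ).PairwiseDisjoint
      (fun k => (bar r X (L (x ^ k))) '' Y₀) := by
    intro k hk k' hk' hne
    show Disjoint ((bar r X (L (x ^ k))) '' Y₀) ((bar r X (L (x ^ k'))) '' Y₀)
    rw [Set.disjoint_left]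
    rintro o ⟨o₁, ho₁, rfl⟩ ⟨o₂, ho₂, h2⟩
    rw [hY₀def] at ho₁ ho₂
    obtain ⟨m₁, hm₁, rfl⟩ := ho₁
    obtain ⟨m₂, hm₂, rfl⟩ := ho₂
    apply hne
    apply rep_inj M hM x hx (Finset.mem_coe.mp hk) (Finset.mem_coe.mp hk')
    have h3 : bar r X (L ((x ^ k' * m₂)⁻¹ * (x ^ k * m₁))) o₀ = o₀ := by
      rw [bar_mul_apply, bar_mul_apply L (x ^ k) m₁, ← h2, ← bar_mul_apply L (x ^ k') m₂,
        bar_inv_apply]
    have h4 := hstab _ h3
    have h5 : (x ^ k')⁻¹ * x ^ k = m₂ * ((x ^ k' * m₂)⁻¹ * (x ^ k * m₁)) * m₁⁻¹ := by group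
    rw [h5]
    exact M.mul_mem (M.mul_mem hm₂ h4) (M.inv_mem hm₁)
  rw [hY, finprod_mem_biUnion hdisj (Finset.finite_toSet _) (fun _ _ => Set.toFinite _),
    finprod_mem_coe_finset, Finset.prod_congr rfl (fun k _ => hkey k)]
  by_contra hcon
  exact hnw (exists_wreath_quotient M hM x hx ν ⟨u, hu⟩ hcon)

/-- The product over an orbit when `u` lies outside a maximal subgroup containing the
stabilizer. -/
theorem prod_orbit_eq_one_of_notMem (hfree : ∀ (b : B) (x : X), r b • x = x → b = 1)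
    (L : S →* rPerm r X) (lam : B →* C)
    (M : Subgroup S) [hMn : M.Normal] (hM : M.index = p) (o₀ : ROrb r X)
    (hstab : ∀ s : S, bar r X (L s) o₀ = o₀ → s ∈ M) (u : S) (hu : u ∉ M)
    (hpow : ∀ k : ℕ, p ∣ k → ∀ o, bar r X (L (u ^ k)) o = o → lam (d r (L (u ^ k)) o) = 1) :
    ∏ᶠ o ∈ {o | ∃ s : S, bar r X (L s) o₀ = o}, lam (d r (L u) o) = 1 := by
  classical
  have hYstab : ∀ (i : ℕ) (o : ROrb r X), (bar r X (L u) ^ i) o ∈
      {o | ∃ s : S, bar r X (L s) o₀ = o} ↔ o ∈ {o | ∃ s : S, bar r X (L s) o₀ = o} := by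
    intro i o
    rw [bar_pow_apply, Set.mem_ofPred_eq, Set.mem_ofPred_eq]
    constructor
    · rintro ⟨s, hs⟩
      refine ⟨(u ^ i)⁻¹ * s, ?_⟩
      rw [bar_mul_apply, hs, bar_inv_apply]
    · rintro ⟨s, rfl⟩
      exact ⟨u ^ i * s, bar_mul_apply L _ _ _⟩
  rw [finprod_mem_def]
  apply finprod_eq_one_of_cycles (bar r X (L u))
  intro o k hk
  by_cases ho : o ∈ {o | ∃ s : S, bar r X (L s) o₀ = o}
  · have h1 : ∀ i ∈ Finset.range k, Set.mulIndicator {o | ∃ s : S, bar r X (L s) o₀ = o}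
        (fun o => lam (d r (L u) o)) ((bar r X (L u) ^ i) o) =
        lam (d r (L u) ((bar r X (L u) ^ i) o)) := fun i _ =>
      Set.mulIndicator_of_mem ((hYstab i o).mpr ho) _
    rw [Finset.prod_congr rfl h1, ← lam_d_pow hfree, ← map_pow]
    rw [bar_pow_apply] at hk
    refine hpow k ?_ o hk
    obtain ⟨s, rfl⟩ := ho
    have h3 : bar r X (L (s⁻¹ * u ^ k * s)) o₀ = o₀ := by
      rw [mul_assoc, bar_mul_apply, bar_mul_apply, hk, bar_inv_apply]
    have h4 := hMn.conj_mem _ (hstab _ h3) s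
    have h5 : s * (s⁻¹ * u ^ k * s) * s⁻¹ = u ^ k := by group
    rw [h5] at h4
    exact dvd_of_pow_mem M hM u hu k h4
  · apply Finset.prod_eq_one
    intro i _
    exact Set.mulIndicator_of_notMem (fun h => ho ((hYstab i o).mp h)) _

/-- **The transfer cocycle of a `p`-group without `C_p ≀ C_p` quotient**: only the fixed points
contribute. -/
theorem finprod_eq_pow_card_fixed (hfree : ∀ (b : B) (x : X), r b • x = x → b = 1)
    (hS : IsPGroup p S)
    (hnw : ¬ ∃ (W : Sylow p (Equiv.Perm (Fin (p ^ 2))))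
      (f : S →* ↥(W : Subgroup (Equiv.Perm (Fin (p ^ 2))))), Function.Surjective f)
    (L : S →* rPerm r X) (lam : B →* Multiplicative (ZMod p)) (u : S)
    (c : Multiplicative (ZMod p))
    (hfix : ∀ o, (∀ s : S, bar r X (L s) o = o) → lam (d r (L u) o) = c)
    (hpow : ∀ k : ℕ, p ∣ k → ∀ o, bar r X (L (u ^ k)) o = o → lam (d r (L (u ^ k)) o) = 1) :
    ∏ᶠ o, lam (d r (L u) o) =
      c ^ Nat.card {o : ROrb r X // ∀ s : S, bar r X (L s) o = o} := by
  classical
  haveI : Fintype (ROrb r X) := Fintype.ofFinite _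
  obtain ⟨R, hR⟩ : ∃ R : Setoid (ROrb r X), ∀ o o', R.r o o' ↔ ∃ s : S, bar r X (L s) o = o' := by
    refine ⟨⟨fun o o' => ∃ s : S, bar r X (L s) o = o', ⟨fun o => ⟨1, ?_⟩, ?_, ?_⟩⟩,
      fun _ _ => Iff.rfl⟩
    · rw [map_one, map_one]
      rfl
    · rintro o o' ⟨s, rfl⟩
      exact ⟨s⁻¹, bar_inv_apply L s o⟩
    · rintro o o' o'' ⟨s, rfl⟩ ⟨t, rfl⟩
      exact ⟨t * s, bar_mul_apply L t s o⟩
  obtain ⟨h, hh⟩ : ∃ h : ROrb r X → Multiplicative (ZMod p), ∀ o, h o =
      lam (d r (L u) o) * (if (∀ s : S, bar r X (L s) o = o) then c⁻¹ else 1) := ⟨_, fun _ => rfl⟩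
  have claim1 : ∏ᶠ o, h o = 1 := by
    apply finprod_eq_one_of_classes R
    intro o₀
    have hset : {o | R.r o₀ o} = {o | ∃ s : S, bar r X (L s) o₀ = o} := by
      ext o
      exact hR o₀ o
    rw [hset]
    by_cases hfixed : ∀ s : S, bar r X (L s) o₀ = o₀
    · have h1 : {o | ∃ s : S, bar r X (L s) o₀ = o} = {o₀} := by
        ext o
        rw [Set.mem_ofPred_eq, Set.mem_singleton_iff]
        constructor
        · rintro ⟨s, rfl⟩
          exact hfixed s
        · rintro rfl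
          exact ⟨1, hfixed 1⟩
      rw [h1, finprod_mem_singleton, hh, if_pos hfixed, hfix o₀ hfixed, mul_inv_cancel]
    · -- a nontrivial orbit
      have hnf : ∀ o ∈ {o | ∃ s : S, bar r X (L s) o₀ = o}, h o = lam (d r (L u) o) := by
        rintro o ⟨s, rfl⟩
        rw [hh, if_neg, mul_one]
        intro hcon
        apply hfixed
        intro t
        have h1 := hcon (s * t * s⁻¹)
        rw [bar_mul_apply, bar_inv_apply, bar_mul_apply] at h1
        exact (bar r X (L s)).injective h1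
      rw [finprod_mem_congr rfl hnf]
      obtain ⟨Q, hQ⟩ : ∃ Q : Subgroup S, ∀ s, s ∈ Q ↔ bar r X (L s) o₀ = o₀ := by
        refine ⟨{ carrier := {s | bar r X (L s) o₀ = o₀}
                  one_mem' := ?_
                  mul_mem' := ?_
                  inv_mem' := ?_ }, fun _ => Iff.rfl⟩
        · intro a b ha hb
          show bar r X (L (a * b)) o₀ = o₀
          rw [bar_mul_apply, hb, ha]
        · show bar r X (L 1) o₀ = o₀
          rw [map_one, map_one]
          rfl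
        · intro a ha
          show bar r X (L a⁻¹) o₀ = o₀
          have := bar_inv_apply L a o₀
          rw [ha] at this
          exact this
      have hQtop : Q ≠ ⊤ := by
        intro hcon
        apply hfixed
        intro s
        rw [← hQ, hcon]
        trivial
      obtain ⟨M, hMco, hQM⟩ := (eq_top_or_exists_le_coatom Q).resolve_left hQtop
      haveI hMn : M.Normal := Cfsg.Agent.Lib.Helper63.PFrattini.coatom_normal hS M hMco
      have hMidx : M.index = p := Cfsg.Agent.Lib.Helper63.PFrattini.coatom_index hS M hMco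
      have hstab : ∀ s : S, bar r X (L s) o₀ = o₀ → s ∈ M := fun s hs => hQM ((hQ s).mpr hs)
      by_cases hu : u ∈ M
      · exact prod_orbit_eq_one_of_mem hfree hnw L lam M hMidx o₀ hstab u hu
      · exact prod_orbit_eq_one_of_notMem hfree L lam M hMidx o₀ hstab u hu hpow
  have claim2 : ∀ o, lam (d r (L u) o) =
      h o * (if (∀ s : S, bar r X (L s) o = o) then c else 1) := by
    intro o
    rw [hh]
    by_cases hfixed : ∀ s : S, bar r X (L s) o = o
    · rw [if_pos hfixed, if_pos hfixed, inv_mul_cancel_right]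
    · rw [if_neg hfixed, if_neg hfixed, mul_one, mul_one]
  rw [finprod_congr claim2, finprod_mul_distrib (Set.toFinite _) (Set.toFinite _), claim1,
    one_mul, finprod_eq_prod_of_fintype, Finset.prod_ite, Finset.prod_const_one, mul_one,
    Finset.prod_const, Nat.card_eq_fintype_card, Fintype.card_subtype]

end orbits

end Cfsg.Agent.Lib.Helper87.OrbitTransfer
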