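import Mathlib
import Cfsg.Prelude.Def_FusionSystem
import Cfsg.Agent.Lib.Helper87.FSBasic
import Cfsg.Agent.Lib.Helper87.FSSat
import Cfsg.Agent.Lib.Helper87.TwistDiag
import Cfsg.Agent.Lib.Helper87.CharBiset
import Cfsg.Agent.Lib.Helper87.Transfer
import Cfsg.Agent.Lib.Helper87.BisetTransfer
import Cfsg.Agent.Lib.Helper87.OrbitTransfer

/-!
# Yoshida's theorem for fusion systems: stable characters

Let `F` be a saturated fusion system over a finite `p`-group `S` which has no quotient isomorphic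
to `C_p ≀ C_p`.  A homomorphism `S → C_p` invariant under the automorphisms of `S` in `F` is
invariant under all the maps of `F`.
-/

set_option autoImplicit false
open Cfsg

namespace Cfsg.Agent.Lib.Helper87.Yoshida

open Cfsg.Agent.Lib.Helper87.FSBasic Cfsg.Agent.Lib.Helper87.FSSat
  Cfsg.Agent.Lib.Helper87.TwistDiag Cfsg.Agent.Lib.Helper87.CharBiset
  Cfsg.Agent.Lib.Helper87.Transfer Cfsg.Agent.Lib.Helper87.BisetTransfer
  Cfsg.Agent.Lib.Helper87.OrbitTransfer MulAction

universe u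

variable {Ω : Type u} [Group Ω] {S : Subgroup Ω}

theorem eq_of_pow_eq {p : ℕ} [hp : Fact p.Prime] {m : ℕ} (hm : ¬ p ∣ m)
    (a b : Multiplicative (ZMod p)) (h : a ^ m = b ^ m) : a = b := by
  have hcardA : Nat.card (Multiplicative (ZMod p)) = p := by
    rw [Nat.card_congr Multiplicative.toAdd, Nat.card_zmod]
  have h1 : (a * b⁻¹) ^ m = 1 := by
    rw [mul_pow, inv_pow, h, mul_inv_cancel]
  have h2 : (a * b⁻¹) ^ p = 1 := by
    have h := pow_card_eq_one' (x := a * b⁻¹)
    rwa [hcardA] at h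
  have h3 : orderOf (a * b⁻¹) ∣ Nat.gcd m p := Nat.dvd_gcd (orderOf_dvd_of_pow_eq_one h1)
    (orderOf_dvd_of_pow_eq_one h2)
  have h4 : Nat.gcd m p = 1 := by
    rw [Nat.gcd_comm]
    exact (Nat.Prime.coprime_iff_not_dvd hp.out).mpr hm
  rw [h4, Nat.dvd_one, orderOf_eq_one_iff] at h3
  exact mul_inv_eq_one.mp h3

theorem pow_eq_one_of_dvd {p : ℕ} [hp : Fact p.Prime] (a : Multiplicative (ZMod p)) {k : ℕ}
    (hk : p ∣ k) : a ^ k = 1 := by
  have hcardA : Nat.card (Multiplicative (ZMod p)) = p := by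
    rw [Nat.card_congr Multiplicative.toAdd, Nat.card_zmod]
  obtain ⟨j, rfl⟩ := hk
  have h := pow_card_eq_one' (x := a)
  rw [hcardA] at h
  rw [pow_mul, h, one_pow]

/-- A point of the orbit set fixed by `w` gives an element of the stabilizer. -/
theorem mem_stab_of_fixed (X : Type*) [MulAction (S × S) X] (w : S)
    (o : ROrb (MonoidHom.inr S S) X)
    (ho : bar (MonoidHom.inr S S) X (leftHom S X w) o = o) :
    ((w, (d (MonoidHom.inr S S) (leftHom S X w) o)⁻¹) : S × S) ∈ stabilizer (S × S) o.out := by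
  have h1 := d_spec (leftHom S X w) o
  rw [ho, leftHom_apply] at h1
  rw [mem_stabilizer_iff]
  have h3 : ((w, (d (MonoidHom.inr S S) (leftHom S X w) o)⁻¹) : S × S) =
      ((MonoidHom.inr S S) (d (MonoidHom.inr S S) (leftHom S X w) o))⁻¹ *
        ((w, (1 : S)) : S × S) := by
    apply Prod.ext
    · show w = (1 : S)⁻¹ * w
      rw [inv_one, one_mul]
    · show (d (MonoidHom.inr S S) (leftHom S X w) o)⁻¹ =
        (d (MonoidHom.inr S S) (leftHom S X w) o)⁻¹ * 1
      rw [mul_one]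
  rw [h3, mul_smul, ← h1, inv_smul_smul]

theorem orderOf_lt_of_dvd [Finite S] {p : ℕ} [hp : Fact p.Prime] (hS : IsPGroup p S) (w : S)
    (hw : w ≠ 1) {k : ℕ} (hk : p ∣ k) : orderOf (w ^ k) < orderOf w := by
  rw [orderOf_pow]
  have h1 : p ∣ orderOf w := by
    obtain ⟨j, hj⟩ := hS w
    obtain ⟨i, -, hi⟩ := (Nat.dvd_prime_pow hp.out).mp (orderOf_dvd_of_pow_eq_one hj)
    rw [hi]
    apply dvd_pow_self
    rintro rfl
    rw [pow_zero, orderOf_eq_one_iff] at hi
    exact hw hi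
  have h2 : p ≤ Nat.gcd (orderOf w) k :=
    Nat.le_of_dvd (Nat.gcd_pos_of_pos_left _ (orderOf_pos w)) (Nat.dvd_gcd h1 hk)
  exact Nat.div_lt_self (orderOf_pos w) (lt_of_lt_of_le hp.out.one_lt h2)

/-- **Yoshida's theorem**, the character form. -/
theorem stable_of_aut_stable [Finite S] {p : ℕ} [hp : Fact p.Prime] (hS : IsPGroup p S)
    (F : FusionSystem S) (hF : F.IsSaturated p)
    (hnw : ¬ ∃ (W : Sylow p (Equiv.Perm (Fin (p ^ 2))))
      (f : S →* ↥(W : Subgroup (Equiv.Perm (Fin (p ^ 2))))), Function.Surjective f)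
    (lam : S →* Multiplicative (ZMod p))
    (hinv : ∀ (α : S →* Ω) (hα : α ∈ F.Hom S) (s : S), lam ⟨α s, map_mem F hα s⟩ = lam s)
    (P : Subgroup Ω) (φ : P →* Ω) (hφ : φ ∈ F.Hom P) (u : P) :
    lam ⟨φ u, map_mem F hφ u⟩ = lam ⟨u, dom_le F hφ u.2⟩ := by
  obtain ⟨X, i1, i2, hstab, hstable, n, hn, hpn⟩ := exists_charBiset hS F hF
  letI := i1
  haveI := i2
  have hfree : ∀ (b : S) (x : X), (MonoidHom.inr S S) b • x = x → b = 1 := right_free F hstab
  have hcardO : Nat.card (ROrb (MonoidHom.inr S S) X) = n := by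
    have h1 := card_eq (r := MonoidHom.inr S S) (X := X) hfree
    rw [hn] at h1
    exact (Nat.eq_of_mul_eq_mul_right Nat.card_pos h1).symm
  obtain ⟨m, hm⟩ : ∃ m : ℕ, m = Nat.card {o : ROrb (MonoidHom.inr S S) X //
      ∀ s : S, bar (MonoidHom.inr S S) X (leftHom S X s) o = o} := ⟨_, rfl⟩
  have hpm : ¬ p ∣ m := by
    letI : MulAction S (ROrb (MonoidHom.inr S S) X) :=
      MulAction.compHom _ ((bar (MonoidHom.inr S S) X).comp (leftHom S X))
    have h1 := hS.card_modEq_card_fixedPoints (ROrb (MonoidHom.inr S S) X)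
    have h2 : Nat.card (MulAction.fixedPoints S (ROrb (MonoidHom.inr S S) X)) = m := by
      rw [hm]
      rfl
    rw [h2, hcardO] at h1
    intro hdvd
    exact hpn (Nat.modEq_zero_iff_dvd.mp (h1.trans (Nat.modEq_zero_iff_dvd.mpr hdvd)))
  obtain ⟨Θ, hΘ⟩ : ∃ Θ : rPerm (MonoidHom.inr S S) X →* Multiplicative (ZMod p),
      ∀ σ, Θ σ = ∏ᶠ o, lam (d (MonoidHom.inr S S) σ o) := by
    refine ⟨(Abelianization.lift lam).comp (T (MonoidHom.inr S S) X hfree), fun σ => ?_⟩
    rw [MonoidHom.comp_apply, T_apply, MonoidHom.map_finprod _ (Set.toFinite _)]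
    apply finprod_congr
    intro o
    exact Abelianization.lift_apply_of _ _
  have hΘstable : ∀ (P : Subgroup Ω) (φ : P →* Ω) (hφ : φ ∈ F.Hom P) (u : P),
      Θ (leftHom S X ⟨φ u, map_mem F hφ u⟩) = Θ (leftHom S X ⟨u, dom_le F hφ u.2⟩) := by
    intro P φ hφ u
    obtain ⟨e, he⟩ := hstable P S φ S.subtype hφ (subtype_mem F le_rfl)
    have he1 : e ∈ rPerm (MonoidHom.inr S S) X := by
      intro b x
      have h1 := he 1 b x
      have e1 : (⟨φ 1, map_mem F hφ 1⟩ : S) = 1 := Subtype.ext (map_one φ)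
      rw [e1] at h1
      exact h1
    symm
    apply hom_eq_of_conj Θ (e := ⟨e, he1⟩)
    apply Subtype.ext
    ext x
    have h2 := he u 1 x
    exact h2
  have main : ∀ N : ℕ, ∀ u : S, orderOf u = N → ∀ (P : Subgroup Ω) (φ : P →* Ω)
      (hφ : φ ∈ F.Hom P) (h : (u : Ω) ∈ P), lam ⟨φ ⟨u, h⟩, map_mem F hφ _⟩ = lam u := by
    intro N
    induction N using Nat.strong_induction_on with
    | _ N ih =>
    have key : ∀ w : S, orderOf w = N → Θ (leftHom S X w) = (lam w)⁻¹ ^ m := by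
      intro w hw
      rw [hΘ, hm]
      apply finprod_eq_pow_card_fixed hfree hS hnw (leftHom S X) lam w (lam w)⁻¹
      · intro o hfixed
        have h1 := mem_stab_of_fixed X w o (hfixed w)
        obtain ⟨P, φ, hφ, hPφ⟩ := hstab o.out
        rw [hPφ, mem_graph] at h1
        obtain ⟨hwP, e⟩ := h1
        have hSP : S ≤ P := by
          intro s hs
          have h2 := mem_stab_of_fixed X ⟨s, hs⟩ o (hfixed ⟨s, hs⟩)
          rw [hPφ, mem_graph] at h2
          exact h2.1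
        have h3 := hinv _ (restrict_mem F hφ hSP) w
        have h4 : (⟨(φ.comp (Subgroup.inclusion hSP)) w,
            map_mem F (restrict_mem F hφ hSP) w⟩ : S) =
            (d (MonoidHom.inr S S) (leftHom S X w) o)⁻¹ := Subtype.ext e
        rw [h4, map_inv] at h3
        rw [← h3, inv_inv]
      · intro k hk o ho
        have h1 := mem_stab_of_fixed X (w ^ k) o ho
        obtain ⟨P, φ, hφ, hPφ⟩ := hstab o.out
        rw [hPφ, mem_graph] at h1
        obtain ⟨hwP, e⟩ := h1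
        have h2 : lam (⟨φ ⟨((w ^ k : S) : Ω), hwP⟩, map_mem F hφ _⟩ : S) = lam (w ^ k) := by
          by_cases hw1 : w = 1
          · have e1 : (⟨((w ^ k : S) : Ω), hwP⟩ : P) = 1 := by
              apply Subtype.ext
              show ((w ^ k : S) : Ω) = 1
              rw [hw1, one_pow]
              rfl
            have e2 : (⟨φ ⟨((w ^ k : S) : Ω), hwP⟩, map_mem F hφ _⟩ : S) = 1 := by
              apply Subtype.ext
              show φ ⟨((w ^ k : S) : Ω), hwP⟩ = 1
              rw [e1, map_one]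
            rw [e2, hw1, one_pow, map_one]
          · exact ih (orderOf (w ^ k)) (by rw [← hw]; exact orderOf_lt_of_dvd hS w hw1 hk)
              (w ^ k) rfl P φ hφ hwP
        have h3 : (⟨φ ⟨((w ^ k : S) : Ω), hwP⟩, map_mem F hφ _⟩ : S) =
            (d (MonoidHom.inr S S) (leftHom S X (w ^ k)) o)⁻¹ := Subtype.ext e
        rw [h3, map_inv, map_pow lam w k, pow_eq_one_of_dvd _ hk] at h2
        exact inv_eq_one.mp h2
    intro u hu P φ hφ h
    have hv : orderOf (⟨φ ⟨u, h⟩, map_mem F hφ _⟩ : S) = N := by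
      rw [← hu, ← Subgroup.orderOf_coe, ← Subgroup.orderOf_coe u]
      show orderOf (φ ⟨u, h⟩) = _
      rw [orderOf_injective φ (F.injective_of_mem hφ)]
      exact (Subgroup.orderOf_coe (⟨(u : Ω), h⟩ : P)).symm
    have h1 := key _ hv
    have h2 := key u hu
    have h3 := hΘstable P φ hφ ⟨u, h⟩
    rw [h1] at h3
    have h4 : (lam ⟨φ ⟨u, h⟩, map_mem F hφ _⟩)⁻¹ ^ m = (lam u)⁻¹ ^ m := h3.trans h2
    exact inv_injective (eq_of_pow_eq hpm _ _ h4)
  exact main _ ⟨u, dom_le F hφ u.2⟩ rfl P φ hφ u.2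

end Cfsg.Agent.Lib.Helper87.Yoshida
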