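import Mathlib
import Cfsg.Prelude.Def_FusionSystem
import Cfsg.Agent.Lib.Helper87.FSBasic
import Cfsg.Agent.Lib.Helper87.FSSat
import Cfsg.Agent.Lib.Helper87.FSHyp
import Cfsg.Agent.Lib.Helper87.HypExt
import Cfsg.Agent.Lib.Helper87.Tate
import Cfsg.Agent.Lib.Helper87.FSBurn
import Cfsg.Agent.Lib.Helper87.Yoshida
import Cfsg.Agent.Lib.Helper63.PFrattini
import Cfsg.Agent.Lib.Helper47.Frat
import Cfsg.Agent.S5092

/-!
# Yoshida's theorem for fusion systems: the focal subgroup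

If the finite `p`-group `S` has no quotient isomorphic to `C_p ≀ C_p`, the focal subgroup of a
saturated fusion system over `S` is the focal subgroup of the normalizer system of `S`.
-/

set_option autoImplicit false
open Cfsg

namespace Cfsg.Agent.Lib.Helper87.YoshidaFocal

open Cfsg.FusionSystem
open Cfsg.Agent.Lib.Helper87.FSBasic Cfsg.Agent.Lib.Helper87.FSSat
  Cfsg.Agent.Lib.Helper87.FSHyp Cfsg.Agent.Lib.Helper87.HypExt Cfsg.Agent.Lib.Helper87.Tate
  Cfsg.Agent.Lib.Helper87.FSBurn Cfsg.Agent.Lib.Helper87.Yoshida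

open scoped commutatorElement

/-- A character of order `p` separating an element from a subgroup containing the Frattini
subgroup. -/
theorem exists_character {G : Type*} [Group G] [Finite G] {p : ℕ} [hp : Fact p.Prime]
    (hG : IsPGroup p G) (E : Subgroup G) (hE : frattini G ≤ E) (y : G) (hy : y ∉ E) :
    ∃ lam : G →* Multiplicative (ZMod p), (∀ e ∈ E, lam e = 1) ∧ lam y ≠ 1 := by
  have hcomm : commutator G ≤ E :=
    (Cfsg.Agent.Lib.Helper63.PFrattini.commutator_le_frattini hG).trans hE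
  haveI hEn : E.Normal := by
    refine ⟨fun e he g => ?_⟩
    have h1 : ⁅g, e⁆ ∈ E := hcomm (Subgroup.commutator_mem_commutator (Subgroup.mem_top g)
      (Subgroup.mem_top e))
    have h2 := E.mul_mem h1 he
    rw [commutatorElement_def, inv_mul_cancel_right] at h2
    exact h2
  have hQ : IsPGroup p (G ⧸ E) := hG.to_quotient E
  have hfr : frattini (G ⧸ E) ≤ ⊥ := by
    apply Cfsg.Agent.Lib.Helper47.Frat.frattini_le_of_pow_comm (p := p)
    · intro x
      obtain ⟨g, rfl⟩ := QuotientGroup.mk_surjective x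
      rw [Subgroup.mem_bot, ← QuotientGroup.mk_pow, QuotientGroup.eq_one_iff]
      exact hE (Cfsg.Agent.Lib.Helper63.PFrattini.pow_mem_frattini hG g)
    · rw [commutator_def, Subgroup.commutator_le]
      intro a _ b _
      obtain ⟨g, rfl⟩ := QuotientGroup.mk_surjective a
      obtain ⟨h, rfl⟩ := QuotientGroup.mk_surjective b
      rw [Subgroup.mem_bot]
      have h1 : ⁅(g : G ⧸ E), (h : G ⧸ E)⁆ = ((⁅g, h⁆ : G) : G ⧸ E) := rfl
      rw [h1, QuotientGroup.eq_one_iff]
      exact hcomm (Subgroup.commutator_mem_commutator (Subgroup.mem_top g) (Subgroup.mem_top h))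
  have hy1 : (y : G ⧸ E) ∉ frattini (G ⧸ E) := by
    intro h
    have h1 := hfr h
    rw [Subgroup.mem_bot, QuotientGroup.eq_one_iff] at h1
    exact hy h1
  rw [Cfsg.Agent.Lib.Helper63.PFrattini.mem_frattini_iff] at hy1
  push Not at hy1
  obtain ⟨M, hMco, hyM⟩ := hy1
  haveI hMn : M.Normal := Cfsg.Agent.Lib.Helper63.PFrattini.coatom_normal hQ M hMco
  have hMidx : M.index = p := Cfsg.Agent.Lib.Helper63.PFrattini.coatom_index hQ M hMco
  have hcard : Nat.card ((G ⧸ E) ⧸ M) = p := by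
    rw [← Subgroup.index_eq_card]
    exact hMidx
  have hcardA : Nat.card (Multiplicative (ZMod p)) = p := by
    rw [Nat.card_congr Multiplicative.toAdd, Nat.card_zmod]
  obtain ⟨e⟩ : Nonempty (((G ⧸ E) ⧸ M) ≃* Multiplicative (ZMod p)) :=
    ⟨mulEquivOfPrimeCardEq hcard hcardA⟩
  refine ⟨e.toMonoidHom.comp ((QuotientGroup.mk' M).comp (QuotientGroup.mk' E)), ?_, ?_⟩
  · intro z hz
    show e (QuotientGroup.mk' M (QuotientGroup.mk' E z)) = 1
    have h1 : QuotientGroup.mk' E z = 1 := (QuotientGroup.eq_one_iff z).mpr hz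
    rw [h1, map_one, map_one]
  · intro h
    have h1 : e (QuotientGroup.mk' M (QuotientGroup.mk' E y)) = 1 := h
    rw [EmbeddingLike.map_eq_one_iff] at h1
    exact hyM ((QuotientGroup.eq_one_iff _).mp h1)

universe u

variable {Ω : Type u} [Group Ω] {S : Subgroup Ω}

/-- The automorphisms of `S` in `F` are maps of the normalizer system of `S`. -/
theorem mem_normalizerSystem_top [Finite S] (F : FusionSystem S)
    (N : FusionSystem (normalizerIn S S)) (hN : F.IsNormalizerSystem S N)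
    {α : S →* Ω} (hα : α ∈ F.Hom S) : α ∈ N.Hom S := by
  rw [hN S]
  have hSN : S ≤ normalizerIn S S := le_inf le_rfl Subgroup.le_normalizer
  refine ⟨hα, hSN, fun x => hSN (map_mem F hα x),
    α.comp (Subgroup.inclusion (sup_le le_rfl le_rfl)), restrict_mem F hα _, fun x => rfl, ?_⟩
  apply le_antisymm
  · rintro _ ⟨y, _, rfl⟩
    exact map_mem F hα _
  · intro y hy
    have hr := range_eq_top F hα
    rw [← hr] at hy
    obtain ⟨x, rfl⟩ := hy
    exact ⟨⟨x, (le_sup_left : S ≤ S ⊔ S) x.2⟩, Subgroup.mem_subgroupOf.mpr x.2, rfl⟩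

theorem aut_gen_mem [Finite S] (F : FusionSystem S)
    (N : FusionSystem (normalizerIn S S)) (hN : F.IsNormalizerSystem S N)
    {α : S →* Ω} (hα : α ∈ F.Hom S) (x : S) : (x : Ω)⁻¹ * α x ∈ N.focalSubgroup :=
  Subgroup.subset_closure ⟨S, α, x, mem_normalizerSystem_top F N hN hα, rfl⟩

theorem commutator_le_focal [Finite S] (F : FusionSystem S)
    (N : FusionSystem (normalizerIn S S)) (hN : F.IsNormalizerSystem S N) :
    ⁅S, S⁆ ≤ N.focalSubgroup := by
  rw [Subgroup.commutator_le]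
  intro g₁ hg₁ g₂ hg₂
  have h1 := aut_gen_mem F N hN (F.conj_mem le_rfl hg₂) ⟨g₁⁻¹, S.inv_mem hg₁⟩
  have e : ((⟨g₁⁻¹, S.inv_mem hg₁⟩ : S) : Ω)⁻¹ * conjHom S g₂ ⟨g₁⁻¹, S.inv_mem hg₁⟩ =
      ⁅g₁, g₂⁆ := by
    show (g₁⁻¹)⁻¹ * (g₂ * g₁⁻¹ * g₂⁻¹) = _
    rw [commutatorElement_def]
    group
  rw [e] at h1
  exact h1

theorem focal_le_focal (F : FusionSystem S)
    (N : FusionSystem (normalizerIn S S)) (hN : F.IsNormalizerSystem S N) :
    N.focalSubgroup ≤ F.focalSubgroup := by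
  unfold FusionSystem.focalSubgroup
  apply Subgroup.closure_mono
  rintro _ ⟨P, φ, x, hφ, rfl⟩
  rw [hN P] at hφ
  exact ⟨P, φ, x, hφ.1, rfl⟩

theorem focal_le (F : FusionSystem S) : F.focalSubgroup ≤ S := by
  unfold FusionSystem.focalSubgroup
  rw [Subgroup.closure_le]
  rintro _ ⟨P, φ, x, hφ, rfl⟩
  exact S.mul_mem (S.inv_mem (dom_le F hφ x.2)) (map_mem F hφ x)

/-- The maps of the normalizer system of `S` are restrictions of automorphisms of `S`. -/
theorem exists_aut_of_mem (F : FusionSystem S)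
    (N : FusionSystem (normalizerIn S S)) (hN : F.IsNormalizerSystem S N)
    {P : Subgroup Ω} {φ : P →* Ω} (hφ : φ ∈ N.Hom P) (x : P) :
    ∃ (α : S →* Ω) (_ : α ∈ F.Hom S) (hx : (x : Ω) ∈ S), φ x = α ⟨x, hx⟩ := by
  rw [hN P] at hφ
  obtain ⟨hφF, -, -, ψ, hψ, hext, -⟩ := hφ
  refine ⟨ψ.comp (Subgroup.inclusion le_sup_right), restrict_mem F hψ _, dom_le F hφF x.2, ?_⟩
  rw [← hext x]
  rfl

/-- **Yoshida's theorem** for fusion systems, the focal subgroup form. -/
theorem focal_eq [Finite S] {p : ℕ} [hp : Fact p.Prime] (hS : IsPGroup p S)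
    (F : FusionSystem S) (hF : F.IsSaturated p)
    (hnw : ¬ ∃ (W : Sylow p (Equiv.Perm (Fin (p ^ 2))))
      (f : S →* ↥(W : Subgroup (Equiv.Perm (Fin (p ^ 2))))), Function.Surjective f)
    (N : FusionSystem (normalizerIn S S)) (hN : F.IsNormalizerSystem S N) :
    N.focalSubgroup = F.focalSubgroup := by
  apply le_antisymm (focal_le_focal F N hN)
  have hK₁S : N.focalSubgroup ≤ S := (focal_le_focal F N hN).trans (focal_le F)
  have hcommK : ⁅S, S⁆ ≤ N.focalSubgroup := commutator_le_focal F N hN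
  -- step (i)
  have step1 : F.focalSubgroup ≤ (frattini S).map S.subtype ⊔ N.focalSubgroup := by
    conv_lhs => unfold FusionSystem.focalSubgroup
    rw [Subgroup.closure_le]
    rintro _ ⟨P, φ, x, hφ, rfl⟩
    by_contra hy
    have hyS : (x : Ω)⁻¹ * φ x ∈ S :=
      S.mul_mem (S.inv_mem (dom_le F hφ x.2)) (map_mem F hφ x)
    have hfrE : frattini S ≤ ((frattini S).map S.subtype ⊔ N.focalSubgroup).subgroupOf S := by
      intro z hz
      rw [Subgroup.mem_subgroupOf]
      exact (le_sup_left : (frattini S).map S.subtype ≤ _) ⟨z, hz, rfl⟩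
    obtain ⟨lam, hlamE, hlamy⟩ := exists_character hS
      (((frattini S).map S.subtype ⊔ N.focalSubgroup).subgroupOf S) hfrE
      ⟨(x : Ω)⁻¹ * φ x, hyS⟩ (fun h => hy (Subgroup.mem_subgroupOf.mp h))
    have hinv : ∀ (α : S →* Ω) (hα : α ∈ F.Hom S) (s : S),
        lam ⟨α s, map_mem F hα s⟩ = lam s := by
      intro α hα s
      have h1 : (⟨α s, map_mem F hα s⟩ : S) =
          s * ⟨(s : Ω)⁻¹ * α s, S.mul_mem (S.inv_mem s.2) (map_mem F hα s)⟩ := by
        apply Subtype.ext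
        show α s = (s : Ω) * ((s : Ω)⁻¹ * α s)
        rw [mul_inv_cancel_left]
      have h2 : (⟨(s : Ω)⁻¹ * α s, S.mul_mem (S.inv_mem s.2) (map_mem F hα s)⟩ : S) ∈
          ((frattini S).map S.subtype ⊔ N.focalSubgroup).subgroupOf S :=
        Subgroup.mem_subgroupOf.mpr
          ((le_sup_right : N.focalSubgroup ≤ _) (aut_gen_mem F N hN hα s))
      rw [h1, map_mul, hlamE _ h2, mul_one]
    have h2 := stable_of_aut_stable hS F hF hnw lam hinv P φ hφ x
    apply hlamy
    have h3 : (⟨(x : Ω)⁻¹ * φ x, hyS⟩ : S) =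
        (⟨x, dom_le F hφ x.2⟩ : S)⁻¹ * ⟨φ x, map_mem F hφ x⟩ := rfl
    rw [h3, map_mul, map_inv, h2, inv_mul_cancel]
  -- step (ii)
  have step2 : N.focalSubgroup ≤ ⁅S, S⁆ ⊔ (N.focalSubgroup ⊓ F.hyperfocalSubgroup p) := by
    conv_lhs => unfold FusionSystem.focalSubgroup
    rw [Subgroup.closure_le]
    rintro _ ⟨P, φ, x, hφ, rfl⟩
    obtain ⟨α, hα, hx, hφx⟩ := exists_aut_of_mem F N hN hφ x
    rw [hφx]
    obtain ⟨n, hn, r, hr, har⟩ := autGroup_decomp F (far_top F hF).1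
      (autOfMap α (F.injective_of_mem hα) (range_eq_top F hα))
      (autOfMap_mem F hα (range_eq_top F hα))
    obtain ⟨g, hg, hgr⟩ := (Cfsg.Agent.Lib.Helper87.FSBasic.mem_autInducedBy_iff r).mp hr
    have h1 : α ⟨x, hx⟩ = (((n : MulAut S) (r ⟨x, hx⟩) : S) : Ω) := by
      have h2 : (((autOfMap α (F.injective_of_mem hα) (range_eq_top F hα)) ⟨x, hx⟩ : S) : Ω) =
          α ⟨x, hx⟩ := rfl
      rw [← h2, har]
      rfl
    have e : (x : Ω)⁻¹ * α ⟨x, hx⟩ = ((x : Ω)⁻¹ * (g * (x : Ω) * g⁻¹)) *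
        ((((r ⟨x, hx⟩ : S) : Ω))⁻¹ * (((n : MulAut S) (r ⟨x, hx⟩) : S) : Ω)) := by
      rw [h1, hgr ⟨x, hx⟩]
      group
    rw [e]
    apply Subgroup.mul_mem
    · exact (le_sup_left : ⁅S, S⁆ ≤ _) (inv_mul_conj_mem_commutator hx hg)
    · refine (le_sup_right : N.focalSubgroup ⊓ F.hyperfocalSubgroup p ≤ _) ⟨?_, ?_⟩
      · exact aut_gen_mem F N hN (autGroup_hom F le_rfl n.2) (r ⟨x, hx⟩)
      · exact gen_mem F p le_rfl n hn (r ⟨x, hx⟩)
  have hfoc := Cfsg.Agent.S5092.result p hS F hF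
  have hhyp : F.hyperfocalSubgroup p ≤ N.focalSubgroup ⊓ F.hyperfocalSubgroup p := by
    apply hyp_le_of_le_frattini_sup hS F hF _ inf_le_right
    · intro s hs t ht
      refine ⟨?_, hyp_conj_mem F p hs ht.2⟩
      have h1 : ⁅s, t⁆ ∈ N.focalSubgroup :=
        hcommK (Subgroup.commutator_mem_commutator hs (hK₁S ht.1))
      have h2 := Subgroup.mul_mem _ h1 ht.1
      rw [commutatorElement_def, inv_mul_cancel_right] at h2
      exact h2
    · have h1 : F.hyperfocalSubgroup p ≤ F.focalSubgroup := by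
        rw [hfoc]
        exact le_sup_left
      refine h1.trans (step1.trans ?_)
      rw [sup_assoc]
      exact sup_le_sup_left step2 _
  rw [hfoc]
  exact sup_le (hhyp.trans inf_le_left) hcommK

end Cfsg.Agent.Lib.Helper87.YoshidaFocal
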