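import Cfsg.Agent.Lib.Helper18.ReeOutStmt

/-!
# S2127 / FMEM: an automorphism stabilizing `P` and `H` stabilizes the unique other Sylow
subgroup `Q` normalized by `H`
-/

set_option autoImplicit false

namespace Cfsg.Agent.Lib.Helper87.ReeOutFMEM

universe u

theorem mem_inv_smul_sylow {G : Type u} [Group G] {p : ℕ} (Q : Sylow p G) (α : MulAut G) (g : G) :
    g ∈ ((α⁻¹ • Q : Sylow p G) : Subgroup G) ↔ α g ∈ (Q : Subgroup G) := by
  rw [Sylow.pointwise_smul_def, Subgroup.mem_pointwise_smul_iff_inv_smul_mem, inv_inv,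
    MulAut.smul_def]

theorem main : Cfsg.Agent.Lib.Helper18.ReeOutStmt.FMEM.{u} := by
  intro G _ _ p _ P Q H α hQP hnQ huniq hP hH
  have hne : (α⁻¹ • Q : Sylow p G) ≠ P := by
    intro heq
    apply hQP
    apply Sylow.ext
    apply Subgroup.ext
    intro g
    obtain ⟨g', rfl⟩ := α.surjective g
    rw [← mem_inv_smul_sylow Q α g', heq, hP]
  have hnorm : ∀ h ∈ H, ∀ u ∈ ((α⁻¹ • Q : Sylow p G) : Subgroup G),
      h * u * h⁻¹ ∈ ((α⁻¹ • Q : Sylow p G) : Subgroup G) := by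
    intro h hh u hu
    rw [mem_inv_smul_sylow] at hu ⊢
    have h1 : α (h * u * h⁻¹) = α h * α u * (α h)⁻¹ := by
      rw [map_mul α (h * u) h⁻¹, map_mul α h u, map_inv α h]
    rw [h1]
    exact hnQ (α h) ((hH h).mpr hh) (α u) hu
  have heq := huniq _ hne hnorm
  intro g
  rw [← mem_inv_smul_sylow Q α g, heq]

end Cfsg.Agent.Lib.Helper87.ReeOutFMEM
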