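import Cfsg.Agent.Lib.Helper18.ReeOutStmt

/-!
# S2127 / IFFMEM: an automorphism of a finite group mapping a subgroup into itself maps it
onto itself
-/

set_option autoImplicit false

namespace Cfsg.Agent.Lib.Helper87.ReeOutIFFMEM

universe u

theorem iffmem_aux (G : Type u) [Group G] [Finite G] (S : Subgroup G) (α : MulAut G)
    (h : ∀ g ∈ S, α g ∈ S) : ∀ g, α g ∈ S ↔ g ∈ S := by
  intro g
  constructor
  · intro hg
    -- the restriction of α to S is an injective self-map of a finite set, hence surjective
    let f : S → S := fun s => ⟨α s.1, h s.1 s.2⟩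
    have hf : Function.Injective f := by
      intro a b hab
      have h1 : α a.1 = α b.1 := congrArg Subtype.val hab
      exact Subtype.ext (α.injective h1)
    have hs : Function.Surjective f := Finite.surjective_of_injective hf
    obtain ⟨a, ha⟩ := hs ⟨α g, hg⟩
    have h1 : α a.1 = α g := congrArg Subtype.val ha
    have h2 : a.1 = g := α.injective h1
    rw [← h2]
    exact a.2
  · exact h g

theorem main : Cfsg.Agent.Lib.Helper18.ReeOutStmt.IFFMEM.{u} := by
  intro G _ _ S α h
  exact iffmem_aux G S α h

end Cfsg.Agent.Lib.Helper87.ReeOutIFFMEM
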