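import Mathlib
import Cfsg.Prelude.Def_FusionSystem
import Cfsg.Prelude.Def_FusionComponents
import Cfsg.Agent.H85.PrimeIdx
import Cfsg.Agent.S5110
import Cfsg.Agent.Lib.Helper88.PResStmt
import Cfsg.Agent.Lib.Helper88.PResMIN
import Cfsg.Agent.Lib.Helper88.PResGEN
import Cfsg.Agent.Lib.Helper47.PResEXT
import Cfsg.Agent.Lib.Helper63.PResSATC
import Cfsg.Agent.Lib.Helper87.NRStmt

/-! Assembly for S5142 from the pieces of `NRStmt`. -/

set_option autoImplicit false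

namespace Cfsg.Agent.Lib.Helper87.NRAsm

open Cfsg Cfsg.FusionSystem Cfsg.Agent.Lib.Helper88.PResStmt Cfsg.Agent.Lib.Helper87.NRStmt

universe u

/-- The system `resSys p F` is the `p'`-residual subsystem of the saturated system `F`. -/
theorem resSys_isPPrimeResidual {Ω : Type u} [Group Ω] {S : Subgroup Ω} [Finite S] (p : ℕ)
    [Fact p.Prime] (hS : IsPGroup p S) (F : Cfsg.FusionSystem S) (hF : F.IsSaturated p) :
    F.IsPPrimeResidual p (resSys p F) := by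
  have hcl := closed_resSys p F
  have hle := resSys_le p F
  obtain ⟨hidx, -, hcen⟩ := H85.primeIdx_main p hS F hF (resSys p F) hle hcl.1
  refine ⟨?_, hidx, fun D hD hDF =>
    resSys_min p F (Cfsg.Agent.Lib.Helper88.PResMIN.main p hS F hF D hD hDF)⟩
  refine Cfsg.Agent.S5110.result p hS (resSys p F) {P | F.IsCentric P} (fun P hP => hP.1)
    ?_ ?_ ?_ ?_
  · intro P hP Q hPQ
    obtain ⟨φ, hφ, hφQ⟩ := hPQ
    exact H85.isCentric_of_isConj F hP ⟨φ, hle P hφ, hφQ⟩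
  · intro P hP
    exact Cfsg.Agent.Lib.Helper63.PResSATC.main p hS F hF (resSys p F) hle hcl
      (Cfsg.Agent.Lib.Helper47.PResEXT.main p hS F hF (resSys p F) hle hcl) P hP
  · intro E' hE'
    exact Cfsg.Agent.Lib.Helper88.PResGEN.main p hS F hF E' hE'
  · intro P hPc hPn
    exact absurd ((hcen P).mp hPc) hPn

theorem autGroup_infSys {Ω : Type*} [Group Ω] {T : Subgroup Ω} (E D : FusionSystem T)
    {P : Subgroup Ω} (hP : P ≤ T) :
    (infSys E D).autGroup P = E.autGroup P ⊓ D.autGroup P := by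
  ext a
  rw [Subgroup.mem_inf, H85.mem_autGroup_iff _ hP, H85.mem_autGroup_iff _ hP,
    H85.mem_autGroup_iff _ hP]
  exact Iff.rfl

/-- For `E`, `D` weakly normal in `F` over the same `T`, the system `D` is closed relative to
`E`. -/
theorem closed_of_pieces (h1 : PPIn.{u}) (h2 : CentricTransfer.{u}) (h3 : IndexCoprime.{u})
    (h4 : PElt.{u}) (h5 : ExtUp.{u})
    {Ω : Type u} [Group Ω] {S : Subgroup Ω} [Finite S] (p : ℕ) [Fact p.Prime] (hS : IsPGroup p S)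
    (F : FusionSystem S) (hF : F.IsSaturated p) {T : Subgroup Ω} (E D : FusionSystem T)
    (hE : E.IsWeaklyNormalIn F p) (hD : D.IsWeaklyNormalIn F p) : Closed p E D := by
  have hTS : T ≤ S := hE.2.2.2.1.1
  haveI : Finite T := H85.finite_of_le hTS
  have hT : IsPGroup p T := hS.to_le hTS
  obtain ⟨I, hI⟩ : ∃ I : FusionSystem T, I = infSys E D := ⟨_, rfl⟩
  have hID : I.IsSubsystemOf D := by rw [hI]; exact fun P φ h => h.2
  have hppED := h1 p hS F hF E D hE hD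
  have hppDE := h1 p hS F hF D E hD hE
  obtain ⟨-, hfrat, -⟩ := H85.primeIdx_main p hT D hD.1 I hID (fun P hP => by
    intro a ha
    rw [hI, autGroup_infSys E D hP.1]
    refine ⟨hppDE P hP.1 ha, ?_⟩
    obtain ⟨b, -, rfl⟩ := ha
    exact b.2)
  obtain ⟨Γ, hΓ⟩ : ∃ Γ : Subgroup (MulAut T), Γ = E.autGroup T ⊔ D.autGroup T := ⟨_, rfl⟩
  have hΓF : Γ ≤ F.autGroup T := by
    rw [hΓ]
    exact sup_le (Subgroup.closure_mono (fun a ha => hE.2.2.1 T ha))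
      (Subgroup.closure_mono (fun a ha => hD.2.2.1 T ha))
  have hinvI : ∀ γ ∈ Γ, ∀ (P : Subgroup Ω) (hPT : P ≤ T) (φ : P →* Ω), φ ∈ I.Hom P →
      H85.ConjMem I γ hPT φ := by
    intro γ hγ P hPT φ hφ
    rw [hI] at hφ
    obtain ⟨χ₁, hχ₁, h1x⟩ := hE.2.2.2.2.1 P hPT φ hφ.1 γ (hΓF hγ)
    obtain ⟨χ₂, hχ₂, h2x⟩ := hD.2.2.2.2.1 P hPT φ hφ.2 γ (hΓF hγ)
    have e : χ₁ = χ₂ := by
      ext ⟨y, hy⟩
      obtain ⟨x, hx⟩ := H85.exists_of_mem_autImage γ hPT hy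
      have hφT : φ x ∈ T := (E.le_of_mem hφ.1).2 x
      have e1 : (⟨y, hy⟩ : ↥(H85.autImage γ P)) =
          ⟨((γ ⟨x, hPT x.2⟩ : T) : Ω), H85.mem_autImage γ hPT x⟩ := Subtype.ext hx.symm
      rw [e1, h1x x hφT, h2x x hφT]
    refine ⟨χ₁, ?_, fun x hφx => h1x x hφx _⟩
    rw [hI]
    exact ⟨hχ₁, e ▸ hχ₂⟩
  have hidx : ∀ γ ∈ Γ, ∃ m : ℕ, Nat.Coprime m p ∧ γ ^ m ∈ I.autGroup T := by
    intro γ hγ
    rw [hΓ] at hγ
    obtain ⟨m, hm, hγm⟩ := h3 p hS F hF E D hE hD γ hγ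
    exact ⟨m, hm, by rw [hI, autGroup_infSys E D le_rfl]; exact hγm⟩
  have hpelt : ∀ (N : Subgroup Ω) (hN : N ≤ T) (γ : MulAut T), γ ∈ Γ → ∀ (ρ : N →* Ω),
      ρ ∈ I.Hom N → ∀ (μ : MulAut N),
      (∀ x : N, ρ x = ((γ ⟨((μ x : N) : Ω), hN (μ x).2⟩ : T) : Ω)) →
      ∀ k : ℕ, orderOf μ = p ^ k → μ ∈ I.autGroup N :=
    fun N hN γ hγ ρ hρ μ hμ k hk => h4 p I Γ hinvI hidx N hN γ hγ ρ hρ μ hμ k hk
  have hext := h5 p hT D hD.1 I hID Γ (by rw [hΓ]; exact le_sup_right) hfrat hpelt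
  refine ⟨fun P hP => hppED P hP.1, fun α hα P hP hres => ?_⟩
  have hPD : D.IsCentric P := h2 p hS F hF E D hE hD P hP
  obtain ⟨β, hβ, φ₀, hφ₀, hφβ⟩ := hfrat P _ hres
  have hγ : β⁻¹ * α ∈ Γ := by
    rw [hΓ]
    exact Subgroup.mul_mem _ (Subgroup.inv_mem _ (Subgroup.mem_sup_right hβ))
      (Subgroup.mem_sup_left hα)
  have hφ₀T : ∀ x, φ₀ x ∈ T := (I.le_of_mem hφ₀).2
  have hres' : resAut (β⁻¹ * α) P hPD.1 ∈ I.Hom P := by
    refine H85.hom_congr I hφ₀ (fun x => ?_)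
    have h := hφβ x (hφ₀T x)
    rw [resAut_apply] at h
    rw [resAut_apply]
    have h' : α ⟨x, hP.1 x.2⟩ = β ⟨φ₀ x, hφ₀T x⟩ := Subtype.ext h
    show ((β⁻¹ (α ⟨x, hPD.1 x.2⟩) : T) : Ω) = φ₀ x
    rw [h', MulAut.inv_apply_self]
  have h6 := hext (β⁻¹ * α) hγ P hPD hres'
  have h' : α = β * (β⁻¹ * α) := by group
  rw [h']
  exact Subgroup.mul_mem _ hβ h6

/-- S5142 from the pieces. -/
theorem main (h1 : PPIn.{u}) (h2 : CentricTransfer.{u}) (h3 : IndexCoprime.{u})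
    (h4 : PElt.{u}) (h5 : ExtUp.{u})
    {Ω : Type u} [Group Ω] {S : Subgroup Ω} [Finite S] (p : ℕ) [Fact p.Prime] (hS : IsPGroup p S)
    (F : Cfsg.FusionSystem S) (hF : F.IsSaturated p) {T : Subgroup Ω} (E : Cfsg.FusionSystem T)
    (hE : E.IsNormalIn F p) (D : Cfsg.FusionSystem T) (hD : E.IsPPrimeResidual p D) :
    ∀ D' : Cfsg.FusionSystem T, D'.IsNormalIn F p → D.IsSubsystemOf D' := by
  intro D' hD'
  have hTS : T ≤ S := hE.1.2.2.2.1.1
  haveI : Finite T := H85.finite_of_le hTS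
  have hT : IsPGroup p T := hS.to_le hTS
  have hcl := closed_of_pieces h1 h2 h3 h4 h5 p hS F hF E D' hE.1 hD'.1
  have hres := resSys_isPPrimeResidual p hT E hE.1.1
  have h6 : D.IsSubsystemOf (resSys p E) := hD.2.2 (resSys p E) hres.1 hres.2.1
  exact fun P φ hφ => resSys_min p E hcl P (h6 P hφ)

end Cfsg.Agent.Lib.Helper87.NRAsm
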