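import Mathlib
import Cfsg.Agent.Lib.Helper25.ACStmt

set_option autoImplicit false

/-!
# S3912 / P2CENT (helper87, third seat)
-/

namespace Cfsg.Agent.Lib.Helper87.ACP2CENT

open Cfsg.Agent.Lib.Helper25.ACStmt

universe u

theorem main (hC : CycChain.{u}) : P2Cent.{u} := by
  intro P _ _ hP z hz hinv hcomm x y hxy c hcx hcy
  have hz2 : z * z = 1 := by
    have key : ∀ k : ℕ, ∀ g : P, g ^ 2 ^ k = 1 → g ≠ 1 → z * z = 1 := by
      intro k
      induction k with
      | zero => intro g hg hg1; exact absurd (by simpa using hg) hg1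
      | succ k ih =>
        intro g hg hg1
        by_cases h2 : g ^ 2 = 1
        · rcases hinv g h2 with h | h
          · exact absurd h hg1
          · rw [← h, ← pow_two]; exact h2
        · exact ih (g ^ 2) (by rw [← pow_mul, ← pow_succ']; exact hg) h2
    have hx1 : x ≠ 1 := by rintro rfl; exact hxy (by simp)
    obtain ⟨k, hk⟩ := hP x
    exact key k x hk hx1
  have hzc : ∀ g : P, z * g = g * z := by
    intro g
    have h1 : (g * z * g⁻¹) ^ 2 = 1 := by rw [conj_pow, pow_two, hz2]; group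
    rcases hinv _ h1 with h | h
    · exfalso; apply hz
      have : z = g⁻¹ * (g * z * g⁻¹) * g := by group
      rw [this, h]; group
    · calc z * g = g * z * g⁻¹ * g := by rw [h]
        _ = g * z := by group
  have hκ : ∀ a b : P, ∃ κ : P, a * b = κ * (b * a) ∧ (∀ g, κ * g = g * κ) ∧ κ * κ = 1 ∧
      (κ = 1 ∨ κ = z) := by
    intro a b
    refine ⟨a * b * a⁻¹ * b⁻¹, by group, ?_, ?_, hcomm a b⟩
    · intro g
      rcases hcomm a b with h | h <;> rw [h]
      · simp
      · exact hzc g
    · rcases hcomm a b with h | h <;> rw [h]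
      · simp
      · exact hz2
  have hsq : ∀ a b : P, a ^ 2 * b = b * a ^ 2 := by
    intro a b
    obtain ⟨κ, hab, hκc, hκ2, -⟩ := hκ a b
    calc a ^ 2 * b = a * (a * b) := by rw [pow_two, mul_assoc]
      _ = a * (κ * (b * a)) := by rw [hab]
      _ = κ * (a * b) * a := by rw [← mul_assoc a κ, ← hκc a]; simp only [mul_assoc]
      _ = κ * (κ * (b * a)) * a := by rw [hab]
      _ = (κ * κ) * b * a * a := by simp only [mul_assoc]
      _ = b * a ^ 2 := by rw [hκ2, one_mul, pow_two, mul_assoc]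
  have S1 : ∀ u v d : P, u * v ≠ v * u → d * u = u * d → d * v = v * d →
      d ∈ Subgroup.zpowers (v ^ 2) := by
    intro u v d huv hdu hdv
    have hcontra : v ∈ Subgroup.zpowers d → False := by
      intro hv
      have hd : d ∈ Subgroup.centralizer ({u} : Set P) := by
        rw [Subgroup.mem_centralizer_singleton_iff]; exact hdu
      have hv' := (Subgroup.zpowers_le.mpr hd) hv
      rw [Subgroup.mem_centralizer_singleton_iff] at hv'
      exact huv hv'.symm
    rcases hC P hP z hz hinv d v hdv with h | h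
    · obtain ⟨n, hn⟩ := (Submonoid.mem_powers_iff _ _).mp (mem_powers_iff_mem_zpowers.mpr h)
      rcases Nat.even_or_odd n with he | ho
      · obtain ⟨m, rfl⟩ := he
        rw [← hn, ← two_mul, pow_mul]
        exact Subgroup.pow_mem _ (Subgroup.mem_zpowers _) m
      · exfalso
        obtain ⟨k, hk⟩ := hP v
        have hord : orderOf v ∣ 2 ^ k := orderOf_dvd_of_pow_eq_one hk
        have hcop : Nat.Coprime n (orderOf v) := by
          apply Nat.Coprime.coprime_dvd_right hord
          apply Nat.Coprime.pow_right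
          rw [Nat.coprime_comm, Nat.Prime.coprime_iff_not_dvd Nat.prime_two]
          exact fun h => (Nat.not_even_iff_odd.mpr ho) (even_iff_two_dvd.mpr h)
        obtain ⟨m, hm⟩ := exists_pow_eq_self_of_coprime hcop
        apply hcontra
        rw [← hm, hn]
        exact Subgroup.pow_mem _ (Subgroup.mem_zpowers _) m
    · exact (hcontra h).elim
  have hyx : y * x ≠ x * y := fun h => hxy h.symm
  have h1 : y ^ 2 ∈ Subgroup.zpowers (x ^ 2) :=
    S1 y x (y ^ 2) hyx (by rw [pow_two, mul_assoc]) (hsq y x)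
  obtain ⟨k, hk⟩ := Subgroup.mem_zpowers_iff.mp h1
  obtain ⟨t, ht⟩ : ∃ t : P, t = x ^ k := ⟨_, rfl⟩
  have htt : t * t = y * y := by
    rw [ht, ← zpow_add, ← pow_two y, ← hk, ← zpow_natCast x 2, ← zpow_mul]
    congr 1; push_cast; ring
  have htx : t * x = x * t := by rw [ht]; exact (Commute.zpow_self x k).eq
  have hct : c * t⁻¹ = t⁻¹ * c := by
    have h : Commute c t := by rw [ht]; exact (show Commute c x from hcx).zpow_right k
    exact h.inv_right.eq
  obtain ⟨w, hw⟩ : ∃ w : P, w = y * t⁻¹ := ⟨_, rfl⟩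
  have hcw : c * w = w * c := by
    rw [hw, ← mul_assoc, hcy, mul_assoc, hct, mul_assoc]
  have hxw : x * w ≠ w * x := by
    intro h
    apply hxy
    rw [hw] at h
    have htx' : t⁻¹ * x = x * t⁻¹ := (show Commute t x from htx).inv_left.eq
    have h2 : x * y * t⁻¹ = y * x * t⁻¹ := by
      rw [mul_assoc, h, mul_assoc, htx', mul_assoc]
    exact mul_right_cancel h2
  obtain ⟨κ, hκ1, hκc, -, hκz⟩ := hκ t⁻¹ y
  have hw2 : w ^ 2 = κ := by
    rw [hw, pow_two]
    calc y * t⁻¹ * (y * t⁻¹) = y * (t⁻¹ * y) * t⁻¹ := by simp only [mul_assoc]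
      _ = y * (κ * (y * t⁻¹)) * t⁻¹ := by rw [hκ1]
      _ = κ * ((y * y) * (t * t)⁻¹) := by
          rw [← mul_assoc y κ, ← hκc y]; simp only [mul_assoc, mul_inv_rev]
      _ = κ := by rw [htt, mul_inv_cancel, mul_one]
  have h2 : c ∈ Subgroup.zpowers (w ^ 2) := S1 x w c hxw hcx hcw
  rw [hw2] at h2
  apply hinv
  obtain ⟨j, hj⟩ := Subgroup.mem_zpowers_iff.mp h2
  rw [← hj, pow_two, ← zpow_add]
  rcases hκz with h | h
  · rw [h, one_zpow]
  · rw [h, ← two_mul, zpow_mul, zpow_two, hz2, one_zpow]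

end Cfsg.Agent.Lib.Helper87.ACP2CENT
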