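import Mathlib
import Cfsg.Agent.Lib.Helper88.CEStmt
import Cfsg.Agent.Lib.Helper88.WNStmt
import Cfsg.Agent.Lib.Helper30.WNWSYL
import Cfsg.Agent.Lib.Helper87.FSSat
import Cfsg.Agent.Lib.Helper87.FSMisc

/-!
# S5127, piece KCONJS: an automorphism in `K` becomes conjugation by an element of `S` after
applying a map of `F` defined on the normalizer
-/

set_option autoImplicit false

namespace Cfsg.Agent.Lib.Helper87.CEKCONJS

open Cfsg Cfsg.FusionSystem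
open Cfsg.Agent.Lib.Helper87.FSBasic
open Cfsg.Agent.Lib.Helper87.FSSat
open Cfsg.Agent.Lib.Helper87.FSMisc

universe u

theorem main : Cfsg.Agent.Lib.Helper88.CEStmt.KConjS.{u} := by
  intro Ω _ S _ p _ hS F hF T hT R hR κ hκ hκT hκd
  obtain ⟨Q, ⟨θ, hθ, hθQ⟩, hfa, hrec⟩ := hF R hR
  subst hθQ
  obtain ⟨χ₀, hχ₀, hχ₀r, ψ, hψ, hψx⟩ := exists_extension_normalizer hS F hθ hfa hrec
  have hθ' := F.comp_mem hθ hχ₀ (fun x => ⟨x, rfl⟩)
  obtain ⟨θ', hθ'def⟩ : ∃ θ' : R →* Ω,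
      θ' = χ₀.comp (θ.codRestrict θ.range (fun x => ⟨x, rfl⟩)) := ⟨_, rfl⟩
  rw [← hθ'def] at hθ'
  have hθ'apply : ∀ x : R, θ' x = χ₀ ⟨θ x, ⟨x, rfl⟩⟩ := by
    intro x
    rw [hθ'def]
    rfl
  have hrange : θ'.range = θ.range := by
    rw [← hχ₀r]
    ext w
    constructor
    · rintro ⟨x, rfl⟩
      exact ⟨⟨θ x, ⟨x, rfl⟩⟩, (hθ'apply x).symm⟩
    · rintro ⟨⟨_, ⟨x, rfl⟩⟩, rfl⟩
      exact ⟨x, hθ'apply x⟩
  have hfa' : F.IsFullyAutomized p θ'.range := by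
    rw [hrange]
    exact hfa
  obtain ⟨e', he'⟩ : ∃ e' : R ≃* θ'.range,
      e' = MonoidHom.ofInjective (F.injective_of_mem hθ') := ⟨_, rfl⟩
  have he'apply : ∀ y : R, ((e' y : θ'.range) : Ω) = θ' y := by
    intro y
    rw [he']
    exact MonoidHom.ofInjective_apply _
  have hξ : MulAut.congr e' κ ∈ F.autGroup θ'.range := by
    rw [he']
    exact congr_mem_autGroup F hθ' hκ
  have hξapply : ∀ y : R, (MulAut.congr e' κ) (e' y) = e' (κ y) := by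
    intro y
    simp [MulAut.congr]
  have hTR : ∀ y : R, (y : Ω) ∈ T ↔ ((e' y : θ'.range) : Ω) ∈ T := by
    intro y
    rw [he'apply]
    exact stronglyClosed_mem_iff F hT hθ' y
  have hA : ∀ x : θ'.range, (x : Ω) ∈ T → (MulAut.congr e' κ) x = x := by
    intro x hx
    obtain ⟨y, rfl⟩ := e'.surjective x
    rw [hξapply, hκT y ((hTR y).2 hx)]
  have hB : ∀ y' : θ'.range, (y' : Ω)⁻¹ * (((MulAut.congr e' κ) y' : θ'.range) : Ω) ∈ T ∧
      ∀ x : θ'.range, (x : Ω) ∈ T →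
        (y' : Ω)⁻¹ * (((MulAut.congr e' κ) y' : θ'.range) : Ω) * (x : Ω) =
          (x : Ω) * ((y' : Ω)⁻¹ * (((MulAut.congr e' κ) y' : θ'.range) : Ω)) := by
    intro y'
    obtain ⟨y, rfl⟩ := e'.surjective y'
    rw [hξapply]
    have hd : ((e' y : θ'.range) : Ω)⁻¹ * ((e' (κ y) : θ'.range) : Ω) =
        ((e' (y⁻¹ * κ y) : θ'.range) : Ω) := by
      rw [map_mul, map_inv]
      rfl
    have hdT : ((y⁻¹ * κ y : R) : Ω) ∈ T := by
      have := (hκd y).1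
      simpa using this
    rw [hd]
    refine ⟨(hTR _).1 hdT, ?_⟩
    intro x hx
    obtain ⟨x₀, rfl⟩ := e'.surjective x
    have hx₀ : (x₀ : Ω) ∈ T := (hTR x₀).2 hx
    have hcomm : (y⁻¹ * κ y) * x₀ = x₀ * (y⁻¹ * κ y) := by
      apply Subtype.ext
      have := (hκd y).2 x₀ hx₀
      simpa using this
    have hmul : ∀ a b : R, ((e' a : θ'.range) : Ω) * ((e' b : θ'.range) : Ω) =
        ((e' (a * b) : θ'.range) : Ω) := by
      intro a b
      rw [map_mul e' a b]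
      rfl
    have h1 := hmul (y⁻¹ * κ y) x₀
    have h2 := hmul x₀ (y⁻¹ * κ y)
    rw [h1, h2, hcomm]
  obtain ⟨h, hh, hconj⟩ := Cfsg.Agent.Lib.Helper30.WNWSYL.main p hS F T hT θ'.range hfa'
    (MulAut.congr e' κ) hξ hA hB
  refine ⟨ψ, hψ, h, hh, ?_⟩
  intro y hy hy'
  rw [hψx y hy, hψx (κ y) hy', ← hθ'apply, ← hθ'apply, ← he'apply, ← he'apply, ← hξapply]
  exact hconj (e' y)

end Cfsg.Agent.Lib.Helper87.CEKCONJS
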