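import Mathlib
import Cfsg.Agent.Lib.Helper88.CESStmt
import Cfsg.Agent.Lib.Helper87.FSSat
import Cfsg.Agent.Lib.Helper87.FSNormal
import Cfsg.Agent.H85.Aut

/-!
# S5127, piece LGFAR: an `F`-conjugate `R'` of a subgroup centralizing `E` with `R' C_T(R')`
fully automized and receptive lies in `C_S(T)`
-/

set_option autoImplicit false

namespace Cfsg.Agent.Lib.Helper87.CELGFAR

open Cfsg Cfsg.FusionSystem Cfsg.Agent.Lib.Helper88.FCStmt Cfsg.Agent.Lib.Helper88.CESStmt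
open Cfsg.Agent.Lib.Helper87.FSBasic
open Cfsg.Agent.Lib.Helper87.FSSat
open Cfsg.Agent.Lib.Helper87.FSNormal

universe u

theorem main (hMu : MuExists.{u}) (hNu : LemGNu.{u}) (hNG : NormGrow.{u}) (hYC : YCap.{u}) :
    LemGFar.{u} := by
  intro Ω _ S _ p _ hS F hF T E hE X hX hXc φ hφ hfa hrec
  have hT : F.StronglyClosed T := hE.1.2.2.2.1
  have hTS : T ≤ S := hT.1
  have hR'S : φ.range ≤ S := range_le F hφ
  have hyc := hYC F T hT X hX φ hφ
  have hYS : φ.range ⊔ centralizerIn T φ.range ≤ S := hrec.1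
  obtain ⟨μ, hμ, hμC, hμR⟩ :=
    hMu p hS F hF E hE X hX hXc φ hφ (centralizerIn T φ.range) le_rfl
  have hμinj := F.injective_of_mem hμ
  obtain ⟨θ, hθ, hθY, hθμ, hμθ, hθr⟩ := exists_inv F hμ
  obtain ⟨ψ, hψ, hψx⟩ := hrec.2 μ.range θ hθ hθr
  have hψinj := F.injective_of_mem hψ
  have hY'S : μ.range ≤ S := range_le F hμ
  have hY'ext : μ.range ≤ extender S μ.range θ :=
    Cfsg.Agent.H85.le_extender S μ.range θ hY'S (fun x => hYS (hθY x))
  have hfin : Finite ↥μ.range := finite_of_le hY'S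
  have hNT : normalizerIn T (φ.range ⊔ centralizerIn T φ.range) ≤
      φ.range ⊔ centralizerIn T φ.range := by
    intro t ht
    obtain ⟨g, hg, hgy⟩ := hNu p hS F hF T hT φ.range hR'S hyc hfa t ht μ hμ hμC hμR
    have htS : t ∈ S := hTS ht.1
    have hconj : ∀ z ∈ μ.range, t * z * t⁻¹ ∈ μ.range := by
      rintro _ ⟨y, rfl⟩
      obtain ⟨y', -, hμy'⟩ := hgy y
      exact ⟨y', hμy'⟩
    have htN : t ∈ Subgroup.normalizer (μ.range : Set Ω) := by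
      obtain ⟨c, hc⟩ : ∃ c : μ.range → μ.range, ∀ z : μ.range, ((c z : μ.range) : Ω) =
          t * (z : Ω) * t⁻¹ := ⟨fun z => ⟨t * z * t⁻¹, hconj z z.2⟩, fun z => rfl⟩
      have hcinj : Function.Injective c := by
        intro a b hab
        have h1 : t * (a : Ω) * t⁻¹ = t * (b : Ω) * t⁻¹ := by rw [← hc a, ← hc b, hab]
        exact Subtype.ext (mul_left_cancel (mul_right_cancel h1))
      have hcsurj := Finite.surjective_of_injective hcinj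
      rw [Subgroup.mem_normalizer_iff]
      intro x
      constructor
      · exact hconj x
      · intro hx
        obtain ⟨z, hz⟩ := hcsurj ⟨t * x * t⁻¹, hx⟩
        have h1 : t * (z : Ω) * t⁻¹ = t * x * t⁻¹ := by rw [← hc z, hz]
        have h2 : (z : Ω) = x := mul_left_cancel (mul_right_cancel h1)
        rw [← h2]
        exact z.2
    have htE : t ∈ extender S μ.range θ := by
      apply Subgroup.subset_closure
      refine ⟨htS, htN, g, hg, ?_⟩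
      rintro ⟨_, ⟨y, rfl⟩⟩ hx
      obtain ⟨y', hy', hμy'⟩ := hgy y
      have e1 : (⟨t * μ y * t⁻¹, hx⟩ : μ.range) = ⟨μ y', ⟨y', rfl⟩⟩ := Subtype.ext hμy'.symm
      rw [e1, hθμ, hθμ, hy']
    obtain ⟨g₀, hg₀⟩ : ∃ g₀ : Ω, g₀ = ψ ⟨t, htE⟩ := ⟨_, rfl⟩
    have hg₀T : g₀ ∈ T := by
      rw [hg₀]
      exact stronglyClosed_maps F hT hψ ⟨t, htE⟩ ht.1
    have h1 : ∀ y : ↥(φ.range ⊔ centralizerIn T φ.range),
        g₀ * (y : Ω) * g₀⁻¹ = g * (y : Ω) * g⁻¹ := by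
      intro y
      obtain ⟨y', hy', hμy'⟩ := hgy y
      have hx : μ y ∈ extender S μ.range θ := hY'ext ⟨y, rfl⟩
      have hx' : μ y' ∈ extender S μ.range θ := hY'ext ⟨y', rfl⟩
      have e1 : ψ ⟨μ y, hx⟩ = y := by rw [hψx (μ y) ⟨y, rfl⟩ hx, hθμ]
      have e2 : ψ ⟨μ y', hx'⟩ = y' := by rw [hψx (μ y') ⟨y', rfl⟩ hx', hθμ]
      have e3 : (⟨μ y', hx'⟩ : extender S μ.range θ) =
          ⟨t, htE⟩ * ⟨μ y, hx⟩ * (⟨t, htE⟩ : extender S μ.range θ)⁻¹ := Subtype.ext hμy'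
      rw [← hy', ← e2, e3, map_mul, map_mul, map_inv, e1, hg₀]
    have h2 : ∀ r ∈ φ.range, g₀ * r * g₀⁻¹ = r := by
      intro r hr
      have hrY : r ∈ φ.range ⊔ centralizerIn T φ.range := Subgroup.mem_sup_left hr
      have h3 := h1 ⟨r, hrY⟩
      simp only at h3
      rw [h3]
      obtain ⟨y', hy', hμy'⟩ := hgy ⟨r, hrY⟩
      have hc : μ ⟨r, hrY⟩ ∈ centralizerIn S T := hμR ⟨r, hr⟩
      have hct : t * μ ⟨r, hrY⟩ * t⁻¹ = μ ⟨r, hrY⟩ := by
        have h4 := (Subgroup.mem_centralizer_iff.1 hc.2) t ht.1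
        rw [h4, mul_inv_cancel_right]
      rw [hct] at hμy'
      have h5 : y' = ⟨r, hrY⟩ := hμinj hμy'
      rw [← hy', h5]
    have hg₀C : g₀ ∈ centralizerIn T φ.range := by
      suffices hcen : g₀ ∈ Subgroup.centralizer (φ.range : Set Ω) from ⟨hg₀T, hcen⟩
      rw [Subgroup.mem_centralizer_iff]
      intro r hr
      have h3 := h2 r hr
      calc r * g₀ = g₀ * r * g₀⁻¹ * g₀ := by rw [h3]
        _ = g₀ * r := by group
    have hg₀Y : g₀ ∈ φ.range ⊔ centralizerIn T φ.range := Subgroup.mem_sup_right hg₀C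
    have hμg₀ : μ ⟨g₀, hg₀Y⟩ = g₀ := hμC ⟨g₀, hg₀C⟩
    have hg₀Y' : g₀ ∈ μ.range := ⟨⟨g₀, hg₀Y⟩, hμg₀⟩
    have hg₀E : g₀ ∈ extender S μ.range θ := hY'ext hg₀Y'
    have hψg₀ : ψ ⟨g₀, hg₀E⟩ = g₀ := by
      rw [hψx g₀ hg₀Y' hg₀E]
      have e : (⟨g₀, hg₀Y'⟩ : μ.range) = ⟨μ ⟨g₀, hg₀Y⟩, ⟨_, rfl⟩⟩ := Subtype.ext hμg₀.symm
      rw [e, hθμ]
    have h6 : (⟨t, htE⟩ : extender S μ.range θ) = ⟨g₀, hg₀E⟩ := hψinj (by rw [hψg₀, hg₀])
    have htg : t = g₀ := congrArg Subtype.val h6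
    rw [htg]
    exact hg₀Y
  have hSn : ∀ s ∈ S, ∀ t ∈ T, s * t * s⁻¹ ∈ T := by
    intro s hs t ht
    have h1 := le_normalizer_of_stronglyClosed F hT hs
    exact (Subgroup.mem_normalizer_iff.1 h1 t).1 ht
  have hTY : T ≤ φ.range ⊔ centralizerIn T φ.range := hNG p hS T _ hTS hYS hSn hNT
  intro r hr
  suffices hcen : r ∈ Subgroup.centralizer (T : Set Ω) from ⟨hR'S hr, hcen⟩
  rw [Subgroup.mem_centralizer_iff]
  intro t ht
  have h1 : t ∈ centralizerIn T φ.range := hyc t (hTY ht) ht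
  exact ((Subgroup.mem_centralizer_iff.1 h1.2) r hr).symm

end Cfsg.Agent.Lib.Helper87.CELGFAR
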