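import Mathlib
import Cfsg.Agent.Lib.Helper88.CESStmt
import Cfsg.Agent.Lib.Helper87.FSSat
import Cfsg.Agent.Lib.Helper87.FSNormal

/-!
# S5127, piece LGSTEP: the inductive step for the strong closure of the largest subgroup of
`C_S(T)` centralizing `E`
-/

set_option autoImplicit false

namespace Cfsg.Agent.Lib.Helper87.CELGSTEP

open Cfsg Cfsg.FusionSystem Cfsg.Agent.Lib.Helper88.FCStmt Cfsg.Agent.Lib.Helper88.CESStmt
open Cfsg.Agent.Lib.Helper87.FSBasic
open Cfsg.Agent.Lib.Helper87.FSSat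
open Cfsg.Agent.Lib.Helper87.FSNormal

universe u

theorem main (hFar : LemGFar.{u}) (hNG : NormGrow.{u}) (hYC : YCap.{u}) : LemGStep.{u} := by
  intro Ω _ S _ p _ hS F hF T E hE X hX hXc φ hφ hIH
  have hT : F.StronglyClosed T := hE.1.2.2.2.1
  have hTS : T ≤ S := hT.1
  have hR'S : φ.range ≤ S := range_le F hφ
  obtain ⟨C₁, hC₁⟩ : ∃ C₁ : Subgroup Ω, C₁ = centralizerIn T φ.range := ⟨_, rfl⟩
  have hC₁T : C₁ ≤ T := by
    rw [hC₁]
    exact inf_le_left
  have hC₁c : ∀ c ∈ C₁, ∀ r ∈ φ.range, r * c = c * r := by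
    intro c hc r hr
    rw [hC₁] at hc
    exact (Subgroup.mem_centralizer_iff.1 hc.2) r hr
  obtain ⟨Y, hY⟩ : ∃ Y : Subgroup Ω, Y = φ.range ⊔ C₁ := ⟨_, rfl⟩
  have hRY : φ.range ≤ Y := by
    rw [hY]
    exact le_sup_left
  have hCY : C₁ ≤ Y := by
    rw [hY]
    exact le_sup_right
  have hYS : Y ≤ S := by
    rw [hY]
    exact sup_le hR'S (hC₁T.trans hTS)
  have hYN : Y ≤ normalizerIn S Y := fun y hy => ⟨hYS hy, Subgroup.le_normalizer hy⟩
  obtain ⟨θ, hθ, hfa, hrec⟩ := exists_far F hF hYS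
  obtain ⟨χ₀, hχ₀, hχ₀r, ω, hω, hωx⟩ := exists_extension_normalizer hS F hθ hfa hrec
  have hωinj := F.injective_of_mem hω
  obtain ⟨θ', hθ'def⟩ : ∃ θ' : Y →* Ω, θ' = ω.comp (Subgroup.inclusion hYN) := ⟨_, rfl⟩
  have hθ'apply : ∀ y : Y, θ' y = ω ⟨y, hYN y.2⟩ := by
    intro y
    rw [hθ'def]
    rfl
  have hrange : θ'.range = θ.range := by
    rw [← hχ₀r]
    ext w
    constructor
    · rintro ⟨y, rfl⟩
      exact ⟨⟨θ y, ⟨y, rfl⟩⟩, by rw [hθ'apply, hωx y (hYN y.2)]⟩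
    · rintro ⟨⟨_, ⟨y, rfl⟩⟩, rfl⟩
      exact ⟨y, by rw [hθ'apply, hωx y (hYN y.2)]⟩
  have hφN : ∀ x : X, φ x ∈ normalizerIn S Y := fun x => hYN (hRY ⟨x, rfl⟩)
  obtain ⟨φs, hφsdef⟩ : ∃ φs : X →* Ω,
      φs = ω.comp (φ.codRestrict (normalizerIn S Y) hφN) := ⟨_, rfl⟩
  have hφs : φs ∈ F.Hom X := by
    rw [hφsdef]
    exact F.comp_mem hφ hω hφN
  have hφsapply : ∀ x : X, φs x = ω ⟨φ x, hφN x⟩ := by
    intro x
    rw [hφsdef]
    rfl
  have hCim : ∀ c (hc : c ∈ C₁), ω ⟨c, hYN (hCY hc)⟩ ∈ centralizerIn T φs.range := by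
    intro c hc
    have hcen : ω ⟨c, hYN (hCY hc)⟩ ∈ Subgroup.centralizer (φs.range : Set Ω) := by
      rw [Subgroup.mem_centralizer_iff]
      rintro _ ⟨x, rfl⟩
      rw [hφsapply, ← map_mul, ← map_mul]
      congr 1
      apply Subtype.ext
      exact hC₁c c hc (φ x) ⟨x, rfl⟩
    exact ⟨stronglyClosed_maps F hT hω ⟨c, hYN (hCY hc)⟩ (hC₁T hc), hcen⟩
  obtain ⟨f, hf⟩ : ∃ f : C₁ → centralizerIn T φs.range,
      ∀ c : C₁, ((f c : centralizerIn T φs.range) : Ω) = ω ⟨c, hYN (hCY c.2)⟩ :=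
    ⟨fun c => ⟨ω ⟨c, hYN (hCY c.2)⟩, hCim c c.2⟩, fun c => rfl⟩
  have hfinj : Function.Injective f := by
    intro a b hab
    have h1 : ω ⟨a, hYN (hCY a.2)⟩ = ω ⟨b, hYN (hCY b.2)⟩ := by
      rw [← hf a, ← hf b, hab]
    have h2 := hωinj h1
    exact Subtype.ext (Subtype.mk.inj h2)
  have hfin : Finite ↥(centralizerIn T φs.range) :=
    finite_of_le ((inf_le_left : centralizerIn T φs.range ≤ T).trans hTS)
  have hRs : φs.range ≤ centralizerIn S T := by
    by_cases hlt : Nat.card (centralizerIn T φ.range) < Nat.card (centralizerIn T φs.range)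
    · exact hIH φs hφs hlt
    · have hle : Nat.card (centralizerIn T φs.range) ≤ Nat.card C₁ := by
        rw [hC₁]
        omega
      have hbij := hfinj.bijective_of_nat_card_le hle
      have heq : θ'.range = φs.range ⊔ centralizerIn T φs.range := by
        apply le_antisymm
        · obtain ⟨M, hM⟩ : ∃ M : Subgroup Ω,
              M = ((φs.range ⊔ centralizerIn T φs.range).comap θ').map Y.subtype := ⟨_, rfl⟩
          have hRM : φ.range ≤ M := by
            rintro _ ⟨x, rfl⟩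
            rw [hM]
            refine ⟨⟨φ x, hRY ⟨x, rfl⟩⟩, ?_, rfl⟩
            show θ' ⟨φ x, hRY ⟨x, rfl⟩⟩ ∈ φs.range ⊔ centralizerIn T φs.range
            rw [hθ'apply]
            exact Subgroup.mem_sup_left ⟨x, hφsapply x⟩
          have hCM : C₁ ≤ M := by
            intro c hc
            rw [hM]
            refine ⟨⟨c, hCY hc⟩, ?_, rfl⟩
            show θ' ⟨c, hCY hc⟩ ∈ φs.range ⊔ centralizerIn T φs.range
            rw [hθ'apply]
            exact Subgroup.mem_sup_right (hCim c hc)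
          have hYM : Y ≤ M := by
            rw [hY]
            exact sup_le hRM hCM
          rintro _ ⟨y, rfl⟩
          have h1 := hYM y.2
          rw [hM] at h1
          obtain ⟨y', hy', hyy'⟩ := h1
          have h2 : y' = y := Subtype.ext hyy'
          rw [h2] at hy'
          exact hy'
        · apply sup_le
          · rintro _ ⟨x, rfl⟩
            exact ⟨⟨φ x, hRY ⟨x, rfl⟩⟩, by rw [hθ'apply, hφsapply]⟩
          · intro d hd
            obtain ⟨c, hc⟩ := hbij.2 ⟨d, hd⟩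
            have h1 : ω ⟨c, hYN (hCY c.2)⟩ = d := by
              rw [← hf c, hc]
            exact ⟨⟨c, hCY c.2⟩, by rw [hθ'apply]; exact h1⟩
      apply hFar p hS F hF E hE X hX hXc φs hφs
      · rw [← heq, hrange]
        exact hfa
      · rw [← heq, hrange]
        exact hrec
  have hNT : normalizerIn T Y ≤ Y := by
    intro t ht
    apply hCY
    rw [hC₁]
    suffices hcen : t ∈ Subgroup.centralizer (φ.range : Set Ω) from ⟨ht.1, hcen⟩
    rw [Subgroup.mem_centralizer_iff]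
    rintro _ ⟨x, rfl⟩
    have htN : t ∈ normalizerIn S Y := ⟨hTS ht.1, ht.2⟩
    have hωt : ω ⟨t, htN⟩ ∈ T := stronglyClosed_maps F hT hω ⟨t, htN⟩ ht.1
    have hωr : ω ⟨φ x, hφN x⟩ ∈ centralizerIn S T := hRs ⟨x, hφsapply x⟩
    have hc := (Subgroup.mem_centralizer_iff.1 hωr.2) _ hωt
    have h3 : (⟨φ x, hφN x⟩ : normalizerIn S Y) * ⟨t, htN⟩ = ⟨t, htN⟩ * ⟨φ x, hφN x⟩ := by
      apply hωinj
      rw [map_mul, map_mul]
      exact hc.symm
    exact congrArg Subtype.val h3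
  have hSn : ∀ s ∈ S, ∀ t ∈ T, s * t * s⁻¹ ∈ T := by
    intro s hs t ht
    have h1 := le_normalizer_of_stronglyClosed F hT hs
    exact (Subgroup.mem_normalizer_iff.1 h1 t).1 ht
  have hTY : T ≤ Y := hNG p hS T Y hTS hYS hSn hNT
  have hyc := hYC F T hT X hX φ hφ
  intro r hr
  suffices hcen : r ∈ Subgroup.centralizer (T : Set Ω) from ⟨hR'S hr, hcen⟩
  rw [Subgroup.mem_centralizer_iff]
  intro t ht
  have h1 : t ∈ centralizerIn T φ.range := hyc t (by rw [← hC₁, ← hY]; exact hTY ht) ht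
  exact ((Subgroup.mem_centralizer_iff.1 h1.2) r hr).symm

end Cfsg.Agent.Lib.Helper87.CELGSTEP
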