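import Mathlib
import Cfsg.Agent.Lib.Helper88.CNStmt
import Cfsg.Agent.Lib.Helper87.FSSat
import Cfsg.Agent.Lib.Helper87.FSNormal
import Cfsg.Agent.H85.Aut

/-!
# S5155, piece EXTY: maps of `F` on subgroups of a strongly closed `Y ≤ C_S(T)` extend over `T`
-/

set_option autoImplicit false

namespace Cfsg.Agent.Lib.Helper87.CNEXTY

open Cfsg Cfsg.FusionSystem Cfsg.Agent.Lib.Helper88.CNStmt
open Cfsg.Agent.Lib.Helper87.FSBasic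
open Cfsg.Agent.Lib.Helper87.FSSat
open Cfsg.Agent.Lib.Helper87.FSNormal

universe u

theorem main : ExtOverT.{u} := by
  intro Ω _ S _ p _ hS F hF T hT Y hY hYc P hPY ψ hψ
  have hTS : T ≤ S := hT.1
  have hfinT : Finite ↥T := finite_of_le hTS
  have hψY : ψ.range ≤ Y := by
    rintro _ ⟨x, rfl⟩
    exact hYc.2 P hPY ψ hψ x
  have hQS : ψ.range ≤ S := range_le F hψ
  have hTcent : ∀ P₀ : Subgroup Ω, P₀ ≤ Y → T ≤ centralizerIn S P₀ := by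
    intro P₀ hP₀ t ht
    suffices hcen : t ∈ Subgroup.centralizer (P₀ : Set Ω) from ⟨hTS ht, hcen⟩
    rw [Subgroup.mem_centralizer_iff]
    intro h hh
    have h1 : h ∈ centralizerIn S T := hY (hP₀ hh)
    exact ((Subgroup.mem_centralizer_iff.1 h1.2) t ht).symm
  obtain ⟨σ, hσ, hfa, hrec⟩ := exists_far F hF hQS
  have hσψ := F.comp_mem hψ hσ (fun x => ⟨x, rfl⟩)
  obtain ⟨ρ, hρdef⟩ : ∃ ρ : P →* Ω,
      ρ = σ.comp (ψ.codRestrict ψ.range (fun x => ⟨x, rfl⟩)) := ⟨_, rfl⟩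
  rw [← hρdef] at hσψ
  have hρapply : ∀ x : P, ρ x = σ ⟨ψ x, ⟨x, rfl⟩⟩ := by
    intro x
    rw [hρdef]
    rfl
  have hρrange : ρ.range = σ.range := by
    ext w
    constructor
    · rintro ⟨x, rfl⟩
      exact ⟨⟨ψ x, ⟨x, rfl⟩⟩, (hρapply x).symm⟩
    · rintro ⟨⟨_, ⟨x, rfl⟩⟩, rfl⟩
      exact ⟨x, hρapply x⟩
  obtain ⟨ρh, hρh, hρhx⟩ := Cfsg.Agent.H85.receptive_extend_sup F hrec hσψ hρrange
  obtain ⟨σh, hσh, hσhx⟩ := Cfsg.Agent.H85.receptive_extend_sup F hrec hσ rfl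
  have hA : T ⊔ P ≤ P ⊔ centralizerIn S P :=
    sup_le ((hTcent P hPY).trans le_sup_right) le_sup_left
  have hB : T ⊔ ψ.range ≤ ψ.range ⊔ centralizerIn S ψ.range :=
    sup_le ((hTcent _ hψY).trans le_sup_right) le_sup_left
  obtain ⟨ρ₁, hρ₁def⟩ : ∃ ρ₁ : ↥(T ⊔ P) →* Ω, ρ₁ = ρh.comp (Subgroup.inclusion hA) := ⟨_, rfl⟩
  have hρ₁ : ρ₁ ∈ F.Hom (T ⊔ P) := by
    rw [hρ₁def]
    exact restrict_mem F hρh hA
  obtain ⟨σ₁, hσ₁def⟩ : ∃ σ₁ : ↥(T ⊔ ψ.range) →* Ω,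
      σ₁ = σh.comp (Subgroup.inclusion hB) := ⟨_, rfl⟩
  have hσ₁ : σ₁ ∈ F.Hom (T ⊔ ψ.range) := by
    rw [hσ₁def]
    exact restrict_mem F hσh hB
  have hρ₁P : ∀ x : P, ρ₁ (Subgroup.inclusion le_sup_right x) = σ ⟨ψ x, ⟨x, rfl⟩⟩ := by
    intro x
    rw [hρ₁def, ← hρapply, ← hρhx x]
    rfl
  have hσ₁Q : ∀ y : ψ.range, σ₁ (Subgroup.inclusion le_sup_right y) = σ y := by
    intro y
    rw [hσ₁def, ← hσhx y]
    rfl
  have hσ₁T : ∀ t : T, σ₁ (Subgroup.inclusion le_sup_left t) ∈ T :=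
    fun t => stronglyClosed_maps F hT hσ₁ _ t.2
  obtain ⟨c, hc⟩ : ∃ c : T → T, ∀ t : T,
      ((c t : T) : Ω) = σ₁ (Subgroup.inclusion le_sup_left t) :=
    ⟨fun t => ⟨_, hσ₁T t⟩, fun t => rfl⟩
  have hcinj : Function.Injective c := by
    intro a b hab
    have h1 : σ₁ (Subgroup.inclusion le_sup_left a) = σ₁ (Subgroup.inclusion le_sup_left b) := by
      rw [← hc a, ← hc b, hab]
    have h2 := F.injective_of_mem hσ₁ h1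
    exact Subgroup.inclusion_injective _ h2
  have hcsurj := Finite.surjective_of_injective hcinj
  have hmaps : ∀ a : ↥(T ⊔ P), ρ₁ a ∈ σ₁.range := by
    obtain ⟨M, hM⟩ : ∃ M : Subgroup Ω,
        M = (σ₁.range.comap ρ₁).map (T ⊔ P).subtype := ⟨_, rfl⟩
    have hTM : T ≤ M := by
      intro t ht
      rw [hM]
      refine ⟨⟨t, Subgroup.mem_sup_left ht⟩, ?_, rfl⟩
      show ρ₁ ⟨t, Subgroup.mem_sup_left ht⟩ ∈ σ₁.range
      have h1 : ρ₁ ⟨t, Subgroup.mem_sup_left ht⟩ ∈ T := stronglyClosed_maps F hT hρ₁ _ ht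
      obtain ⟨t', ht'⟩ := hcsurj ⟨_, h1⟩
      exact ⟨Subgroup.inclusion le_sup_left t', by rw [← hc t', ht']⟩
    have hPM : P ≤ M := by
      intro x hx
      rw [hM]
      refine ⟨⟨x, Subgroup.mem_sup_right hx⟩, ?_, rfl⟩
      show ρ₁ ⟨x, Subgroup.mem_sup_right hx⟩ ∈ σ₁.range
      exact ⟨Subgroup.inclusion le_sup_right ⟨ψ ⟨x, hx⟩, ⟨_, rfl⟩⟩, by
        rw [hσ₁Q]
        exact (hρ₁P ⟨x, hx⟩).symm⟩
    intro a
    have h1 : (a : Ω) ∈ M := (sup_le hTM hPM) a.2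
    rw [hM] at h1
    obtain ⟨a', ha', haa'⟩ := h1
    have h2 : a' = a := Subtype.ext haa'
    rw [h2] at ha'
    exact ha'
  obtain ⟨τ, hτ, -, hτσ, -, -⟩ := exists_inv F hσ₁
  refine ⟨τ.comp (ρ₁.codRestrict σ₁.range hmaps), F.comp_mem hρ₁ hτ hmaps, ?_⟩
  intro x
  show τ ⟨ρ₁ (Subgroup.inclusion le_sup_right x), hmaps _⟩ = ψ x
  have e : (⟨ρ₁ (Subgroup.inclusion le_sup_right x), hmaps _⟩ : σ₁.range) =
      ⟨σ₁ (Subgroup.inclusion le_sup_right ⟨ψ x, ⟨x, rfl⟩⟩), ⟨_, rfl⟩⟩ :=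
    Subtype.ext ((hρ₁P x).trans (hσ₁Q ⟨ψ x, ⟨x, rfl⟩⟩).symm)
  rw [e, hτσ]
  rfl

end Cfsg.Agent.Lib.Helper87.CNEXTY
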