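import Mathlib
import Cfsg.Agent.Lib.Helper32.D8Stmt
import Cfsg.Agent.Lib.Helper26.GenChar
import Cfsg.Agent.Lib.Helper3.Irr
import Cfsg.Agent.Lib.CT.Ops

/-!
# S3716 / C2A: the main case of the fusion `a ~ a*b`

`X` in all four `Θi` with sign `e`, `U` in `Θ2, Θ4` with sign `s`.  PAIR six times, normalized
by `norm_pair`, then ALG2.
-/

set_option autoImplicit false

namespace Cfsg.Agent.Lib.Helper87.D8C2A

open Cfsg Cfsg.Agent.Lib.CT Cfsg.Agent.Lib.Helper26.GenChar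
open Cfsg.Agent.Lib.Helper32 Cfsg.Agent.Lib.Helper32.D8Stmt Cfsg.Agent.Lib.Helper3.Irr
open scoped ComplexConjugate

universe u

theorem bb_sub {G : Type u} [Group G] [Fintype G] (Θ Θ' : G → ℂ) (u v : G) :
    bb (Θ - Θ') u v = bb Θ u v - bb Θ' u v := by
  unfold bb
  simp only [Pi.sub_apply]
  rw [Finset.sum_sub_distrib, mul_sub]

/-- the pair relation in normalized coordinates -/
theorem norm_pair (ca cw n m1 m2 D1 D2 P Q A B C Baa Baw Bww : ℂ) (hca : ca ≠ 0) (hcw : cw ≠ 0)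
    (hn : n ≠ 0) (hD1 : D1 = ca * P) (hD2 : D2 = cw * Q)
    (hBaa : Baa = A * ca ^ 2 / n) (hBaw : Baw = B * (ca * cw) / n) (hBww : Bww = C * cw ^ 2 / n)
    (h : m1 * m2 * (Bww * D1 ^ 2 - 2 * Baw * D1 * D2 + Baa * D2 ^ 2) =
      (m1 + m2) * (Baa * Bww - Baw ^ 2)) :
    m1 * m2 * (C * P ^ 2 - 2 * B * P * Q + A * Q ^ 2) * n = (m1 + m2) * (A * C - B ^ 2) := by
  have h2 : ca ^ 2 * cw ^ 2 ≠ 0 := mul_ne_zero (pow_ne_zero 2 hca) (pow_ne_zero 2 hcw)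
  have hBaa' : Baa * n = A * ca ^ 2 := by rw [hBaa]; field_simp
  have hBaw' : Baw * n = B * (ca * cw) := by rw [hBaw]; field_simp
  have hBww' : Bww * n = C * cw ^ 2 := by rw [hBww]; field_simp
  have key : (ca ^ 2 * cw ^ 2) * (m1 * m2 * (C * P ^ 2 - 2 * B * P * Q + A * Q ^ 2) * n -
      (m1 + m2) * (A * C - B ^ 2)) = 0 := by
    have e1 : m1 * m2 * n * ((Bww * n) * D1 ^ 2 - 2 * (Baw * n) * D1 * D2 + (Baa * n) * D2 ^ 2) =
        (m1 + m2) * ((Baa * n) * (Bww * n) - (Baw * n) ^ 2) := by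
      linear_combination (n ^ 2) * h
    rw [hBaa', hBaw', hBww', hD1, hD2] at e1
    linear_combination e1
  rcases mul_eq_zero.mp key with h3 | h3
  · exact absurd h3 h2
  · exact sub_eq_zero.mp h3

theorem main (hPAIR : D8Stmt.PAIR.{u}) (hALG2 : D8Stmt.ALG2) : D8Stmt.C2A.{u} := by
  intro G _ _ Θ1 Θ2 Θ3 Θ4 a w ca cw hB hca hcw hMod hTab X U e s hX hU hXt hUt he hs
    h1X h2X h3X h4X h1U h2U h3U h4U
  classical
  obtain ⟨⟨t1a, t1b, t1c⟩, ⟨t2a, t2b, t2c⟩, ⟨t3a, t3b, t3c⟩, ⟨t4a, t4b, t4c⟩⟩ := hTab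
  obtain ⟨n, hn⟩ : ∃ n : ℂ, n = (Nat.card G : ℂ) := ⟨_, rfl⟩
  rw [← hn] at t1a t1c t2a t2c t3a t3b t3c t4a t4b t4c
  have hn0 : n ≠ 0 := by rw [hn]; exact Nat.cast_ne_zero.mpr Nat.card_pos.ne'
  -- integer signs
  obtain ⟨eI, heI, rfl⟩ : ∃ eI : ℤ, (eI = 1 ∨ eI = -1) ∧ e = (eI : ℂ) := by
    rcases he with rfl | rfl
    · exact ⟨1, Or.inl rfl, by norm_num⟩
    · exact ⟨-1, Or.inr rfl, by norm_num⟩
  obtain ⟨sI, hsI, rfl⟩ : ∃ sI : ℤ, (sI = 1 ∨ sI = -1) ∧ s = (sI : ℂ) := by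
    rcases hs with rfl | rfl
    · exact ⟨1, Or.inl rfl, by norm_num⟩
    · exact ⟨-1, Or.inr rfl, by norm_num⟩
  obtain ⟨NX, hNX, hX1⟩ := IsIrrCharacter.exists_apply_one_pos hX
  obtain ⟨NU, hNU, hU1⟩ := IsIrrCharacter.exists_apply_one_pos hU
  obtain ⟨mX, hmX⟩ : ∃ mX : ℤ, mX = eI * NX := ⟨_, rfl⟩
  obtain ⟨mU, hmU⟩ : ∃ mU : ℤ, mU = sI * NU := ⟨_, rfl⟩
  have hmXc : (mX : ℂ) = (eI : ℂ) * X 1 := by rw [hmX, hX1]; push_cast; ring
  have hmUc : (mU : ℂ) = (sI : ℂ) * U 1 := by rw [hmU, hU1]; push_cast; ring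
  -- the congruences
  have hmX9 : mX % 9 = 2 := by
    obtain ⟨k, hk⟩ := hMod X hX
    rw [h1X, h2X, h3X, h4X, hX1] at hk
    have hk' : (NX : ℤ) + 4 * (eI + eI + eI + eI) = 9 * k := by exact_mod_cast hk
    rcases heI with h | h <;> subst h <;> omega
  have hmU9 : mU % 9 = 1 := by
    obtain ⟨k, hk⟩ := hMod U hU
    rw [h1U, h2U, h3U, h4U, hU1] at hk
    have hk' : (NU : ℤ) + 4 * (0 + sI + 0 + sI) = 9 * k := by exact_mod_cast hk
    rcases hsI with h | h <;> subst h <;> omega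
  -- normalized coordinates
  have hcancel : ∀ c z : ℂ, c ≠ 0 → c * (z / c) = z := fun c z hc => by field_simp
  obtain ⟨px, hpx⟩ : ∃ px : ℂ, X a / X 1 = 1 - ca * px :=
    ⟨(1 - X a / X 1) / ca, by rw [hcancel _ _ hca]; ring⟩
  obtain ⟨py, hpy⟩ : ∃ py : ℂ, X w / X 1 = 1 - cw * py :=
    ⟨(1 - X w / X 1) / cw, by rw [hcancel _ _ hcw]; ring⟩
  obtain ⟨ux, hux⟩ : ∃ ux : ℂ, U a / U 1 = 1 - ca * ux :=
    ⟨(1 - U a / U 1) / ca, by rw [hcancel _ _ hca]; ring⟩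
  obtain ⟨uy, huy⟩ : ∃ uy : ℂ, U w / U 1 = 1 - cw * uy :=
    ⟨(1 - U w / U 1) / cw, by rw [hcancel _ _ hcw]; ring⟩
  have ht1 : triv G (1 : G) = 1 := rfl
  have hta : triv G a = 1 := rfl
  have htw : triv G w = 1 := rfl
  have htriv : IsIrrCharacter G (triv G) := Ops.isIrrCharacter_one
  have hD1X : triv G a / triv G 1 - X a / X 1 = ca * px := by rw [hta, ht1, hpx]; ring
  have hD2X : triv G w / triv G 1 - X w / X 1 = cw * py := by rw [htw, ht1, hpy]; ring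
  have hD1U : triv G a / triv G 1 - U a / U 1 = ca * ux := by rw [hta, ht1, hux]; ring
  have hD2U : triv G w / triv G 1 - U w / U 1 = cw * uy := by rw [htw, ht1, huy]; ring
  have hD1XU : X a / X 1 - U a / U 1 = ca * (ux - px) := by rw [hpx, hux]; ring
  have hD2XU : X w / X 1 - U w / U 1 = cw * (uy - py) := by rw [hpy, huy]; ring
  have hXU : X ≠ U := by
    intro h
    rw [h, h1U] at h1X
    have h0 : eI = 0 := by exact_mod_cast h1X.symm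
    rcases heI with h' | h' <;> omega
  -- (1) `(triv, X)` in `Θ1`
  have eq1 : (mX : ℂ) * (px ^ 2 + 8 * py ^ 2) * n = 8 * (1 + mX) := by
    have p := hPAIR Θ1 (triv G) X 1 (eI : ℂ) a w hB.g1 hB.o1 hB.n11 hB.a1 hB.w1 htriv hX
      (Ne.symm hXt) (Or.inl rfl) he hB.t1 h1X
    have := norm_pair ca cw n _ _ _ _ px py 8 0 1 _ _ _ hca hcw hn0 hD1X hD2X t1a
      (by rw [t1b]; ring) (by rw [t1c]; ring) p
    rw [ht1] at this
    rw [hmXc]
    linear_combination this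
  -- (2) `(triv, X)` in `Θ3`
  have eq2 : (mX : ℂ) * (px ^ 2 - 6 * px * py + 11 * py ^ 2) * n = 1 + mX := by
    have p := hPAIR Θ3 (triv G) X 1 (eI : ℂ) a w hB.g3 hB.o3 hB.n33 hB.a3 hB.w3 htriv hX
      (Ne.symm hXt) (Or.inl rfl) he hB.t3 h3X
    have := norm_pair ca cw n _ _ _ _ px py (11 / 2) (3 / 2) (1 / 2) _ _ _ hca hcw hn0 hD1X hD2X
      (by rw [t3a]; ring) (by rw [t3b]; ring) (by rw [t3c]; ring) p
    rw [ht1] at this
    rw [hmXc]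
    linear_combination 2 * this
  -- (3) `(X, U)` in `Θ2`
  have eq3 : (mX : ℂ) * mU * ((ux - px) ^ 2 + 2 * (uy - py) ^ 2) * n = 2 * (mX + mU) := by
    have p := hPAIR Θ2 X U (eI : ℂ) (sI : ℂ) a w hB.g2 hB.o2 hB.n22 hB.a2 hB.w2 hX hU hXU he hs
      h2X h2U
    have := norm_pair ca cw n _ _ _ _ (ux - px) (uy - py) 2 0 1 _ _ _ hca hcw hn0 hD1XU hD2XU t2a
      (by rw [t2b]; ring) (by rw [t2c]; ring) p
    rw [hmXc, hmUc]
    linear_combination this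
  -- (4) `(X, U)` in `Θ4`
  have eq4 : (mX : ℂ) * mU *
      ((ux - px) ^ 2 + 6 * (ux - px) * (uy - py) + 11 * (uy - py) ^ 2) * n = mX + mU := by
    have p := hPAIR Θ4 X U (eI : ℂ) (sI : ℂ) a w hB.g4 hB.o4 hB.n44 hB.a4 hB.w4 hX hU hXU he hs
      h4X h4U
    have := norm_pair ca cw n _ _ _ _ (ux - px) (uy - py) (11 / 2) (-3 / 2) (1 / 2) _ _ _ hca hcw
      hn0 hD1XU hD2XU (by rw [t4a]; ring) (by rw [t4b]; ring) (by rw [t4c]; ring) p
    rw [hmXc, hmUc]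
    linear_combination 2 * this
  -- (5) `(triv, U)` in `Θ1 - Θ4`
  have eq5 : (mU : ℂ) * (ux ^ 2 - 6 * ux * uy + 5 * uy ^ 2) * n = 2 * (1 - mU) := by
    have hg : IsGeneralizedCharacter G (Θ1 - Θ4) := isGeneralizedCharacter_sub hB.g1 hB.g4
    have ho : (Θ1 - Θ4) 1 = 0 := by rw [Pi.sub_apply, hB.o1, hB.o4, sub_zero]
    have ha : (Θ1 - Θ4) a = 0 := by rw [Pi.sub_apply, hB.a1, hB.a4, sub_zero]
    have hw : (Θ1 - Θ4) w = 0 := by rw [Pi.sub_apply, hB.w1, hB.w4, sub_zero]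
    have hnorm : classInner (Θ1 - Θ4) (Θ1 - Θ4) = 4 := by
      rw [Orth.classInner_sub_left, Cfsg.Agent.Lib.Helper26.GenChar.classInner_sub_right,
        Cfsg.Agent.Lib.Helper26.GenChar.classInner_sub_right, hB.n11, hB.n14, hB.n41, hB.n44]
      norm_num
    have ht : classInner (Θ1 - Θ4) (triv G) = 1 := by
      rw [Orth.classInner_sub_left, hB.t1, hB.t4, sub_zero]
    have hU' : classInner (Θ1 - Θ4) U = -(sI : ℂ) := by
      rw [Orth.classInner_sub_left, h1U, h4U, zero_sub]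
    have hs' : (-(sI : ℂ) = 1 ∨ -(sI : ℂ) = -1) := by
      rcases hs with h | h
      · right; rw [h]
      · left; rw [h]; norm_num
    have p := hPAIR (Θ1 - Θ4) (triv G) U 1 (-(sI : ℂ)) a w hg ho hnorm ha hw htriv hU
      (Ne.symm hUt) (Or.inl rfl) hs' ht hU'
    have := norm_pair ca cw n _ _ _ _ ux uy (5 / 2) (3 / 2) (1 / 2) _ _ _ hca hcw hn0 hD1U hD2U
      (by rw [bb_sub, t1a, t4a]; ring) (by rw [bb_sub, t1b, t4b]; ring)
      (by rw [bb_sub, t1c, t4c]; ring) p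
    rw [ht1] at this
    rw [hmUc]
    linear_combination (-2) * this
  -- (6) `(triv, U)` in `Θ2 - Θ3`
  have eq6 : (mU : ℂ) * (ux ^ 2 + 6 * ux * uy - 7 * uy ^ 2) * n = -8 * (1 - mU) := by
    have hg : IsGeneralizedCharacter G (Θ2 - Θ3) := isGeneralizedCharacter_sub hB.g2 hB.g3
    have ho : (Θ2 - Θ3) 1 = 0 := by rw [Pi.sub_apply, hB.o2, hB.o3, sub_zero]
    have ha : (Θ2 - Θ3) a = 0 := by rw [Pi.sub_apply, hB.a2, hB.a3, sub_zero]
    have hw : (Θ2 - Θ3) w = 0 := by rw [Pi.sub_apply, hB.w2, hB.w3, sub_zero]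
    have hnorm : classInner (Θ2 - Θ3) (Θ2 - Θ3) = 4 := by
      rw [Orth.classInner_sub_left, Cfsg.Agent.Lib.Helper26.GenChar.classInner_sub_right,
        Cfsg.Agent.Lib.Helper26.GenChar.classInner_sub_right, hB.n22, hB.n23, hB.n32, hB.n33]
      norm_num
    have ht : classInner (Θ2 - Θ3) (triv G) = -1 := by
      rw [Orth.classInner_sub_left, hB.t2, hB.t3, zero_sub]
    have hU' : classInner (Θ2 - Θ3) U = (sI : ℂ) := by
      rw [Orth.classInner_sub_left, h2U, h3U, sub_zero]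
    have p := hPAIR (Θ2 - Θ3) (triv G) U (-1) (sI : ℂ) a w hg ho hnorm ha hw htriv hU
      (Ne.symm hUt) (Or.inr rfl) hs ht hU'
    have := norm_pair ca cw n _ _ _ _ ux uy (-7 / 2) (-3 / 2) (1 / 2) _ _ _ hca hcw hn0 hD1U hD2U
      (by rw [bb_sub, t2a, t3a]; ring) (by rw [bb_sub, t2b, t3b]; ring)
      (by rw [bb_sub, t2c, t3c]; ring) p
    rw [ht1] at this
    rw [hmUc]
    linear_combination (-2) * this
  have hmU1 : mU = 1 := hALG2 px py ux uy n mX mU hn0 hmX9 hmU9 eq1 eq2 eq3 eq4 eq5 eq6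
  have hNU1 : NU = 1 := by
    rw [hmU] at hmU1
    rcases hsI with h | h
    · rw [h] at hmU1; omega
    · rw [h] at hmU1; omega
  rw [hU1, hNU1]
  norm_num

end Cfsg.Agent.Lib.Helper87.D8C2A
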