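import Mathlib
import Cfsg.Agent.Lib.Helper32.D8Stmt
import Cfsg.Agent.Lib.Helper26.GenChar
import Cfsg.Agent.Lib.Helper3.Irr
import Cfsg.Agent.Lib.CT.Ops

/-!
# S3716 / MULT4: a generalized character of norm 4 vanishing at 1 has all multiplicities in
`{0, 1, -1}`
-/

set_option autoImplicit false

namespace Cfsg.Agent.Lib.Helper87.D8MULT4

open Cfsg Cfsg.Agent.Lib.CT Cfsg.Agent.Lib.CT.Wedderburn Cfsg.Agent.Lib.Helper26.GenChar
open Cfsg.Agent.Lib.Helper32 Cfsg.Agent.Lib.Helper3.Irr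
open scoped ComplexConjugate

universe u

theorem main : D8Stmt.MULT4.{u} := by
  intro G _ _ Ψ χ hΨ h1 hnorm hχ
  classical
  haveI := finite_irrCharacter G
  haveI := Fintype.ofFinite (IrrCharacter G)
  obtain ⟨c, hc, he⟩ := exists_int_mult hΨ
  have hsq := classInner_self_eq_sum_sq c hc he
  rw [hnorm] at hsq
  have hsq' : ∑ ψ : IrrCharacter G, c ψ * c ψ = 4 := by exact_mod_cast hsq.symm
  obtain ⟨χ₀, hχ₀⟩ : ∃ χ₀ : IrrCharacter G, (χ₀ : G → ℂ) = χ := ⟨⟨χ, hχ⟩, rfl⟩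
  have hcχ : classInner Ψ χ = c χ₀ := by rw [← hχ₀]; exact hc χ₀
  rw [hcχ]
  have hle : c χ₀ * c χ₀ + ∑ ψ ∈ Finset.univ.erase χ₀, c ψ * c ψ = 4 := by
    rw [Finset.add_sum_erase Finset.univ (fun ψ => c ψ * c ψ) (Finset.mem_univ χ₀)]
    exact hsq'
  have hnn : 0 ≤ ∑ ψ ∈ Finset.univ.erase χ₀, c ψ * c ψ :=
    Finset.sum_nonneg (fun ψ _ => mul_self_nonneg _)
  have hb : c χ₀ * c χ₀ ≤ 4 := by linarith
  have hlo : -2 ≤ c χ₀ := by nlinarith
  have hhi : c χ₀ ≤ 2 := by nlinarith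
  -- if `c χ₀ = ± 2` then `Ψ = ± 2 χ` does not vanish at `1`
  have hbig : c χ₀ * c χ₀ = 4 → False := by
    intro h4
    have hrest : ∑ ψ ∈ Finset.univ.erase χ₀, c ψ * c ψ = 0 := by linarith
    have hz : ∀ ψ ∈ Finset.univ.erase χ₀, c ψ = 0 := by
      intro ψ hψ
      have := (Finset.sum_eq_zero_iff_of_nonneg (fun ψ _ => mul_self_nonneg (c ψ))).mp hrest ψ hψ
      exact mul_self_eq_zero.mp this
    have h2 := congrFun he 1
    rw [Finset.sum_apply, ← Finset.add_sum_erase _ _ (Finset.mem_univ χ₀),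
      Finset.sum_eq_zero, add_zero] at h2
    · obtain ⟨n, hn, hn1⟩ := IsIrrCharacter.exists_apply_one_pos χ₀.2
      simp only [Pi.smul_apply, smul_eq_mul] at h2
      rw [h1, hn1] at h2
      have h3 : (0 : ℤ) = c χ₀ * n := by exact_mod_cast h2
      have h5 : c χ₀ = 0 := by
        rcases mul_eq_zero.mp h3.symm with h | h
        · exact h
        · exfalso
          have : (n : ℤ) ≠ 0 := by exact_mod_cast hn.ne'
          exact this h
      rw [h5] at h4
      norm_num at h4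
    · intro ψ hψ
      rw [hz ψ hψ]
      simp
  have hcases : c χ₀ = 0 ∨ c χ₀ = 1 ∨ c χ₀ = -1 ∨ c χ₀ = 2 ∨ c χ₀ = -2 := by omega
  rcases hcases with h | h | h | h | h
  · left; rw [h]; simp
  · right; left; rw [h]; simp
  · right; right; rw [h]; simp
  · exact (hbig (by rw [h]; norm_num)).elim
  · exact (hbig (by rw [h]; norm_num)).elim

end Cfsg.Agent.Lib.Helper87.D8MULT4
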