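import Mathlib
import Cfsg.Agent.Lib.Helper32.D8Stmt
import Cfsg.Agent.Lib.Helper26.GenChar
import Cfsg.Agent.Lib.Helper3.Irr
import Cfsg.Agent.Lib.CT.Ops
import Cfsg.Agent.Lib.Helper87.D8MULT4

/-!
# S3716 / COMMONNEG: two generalized characters of norm 4 vanishing at 1 with
`(Ψ,1) = 1`, `(Ψ',1) = -1`, `(Ψ,Ψ') = -2` have a common nontrivial constituent with opposite
signs
-/

set_option autoImplicit false

namespace Cfsg.Agent.Lib.Helper87.D8COMMONNEG

open Cfsg Cfsg.Agent.Lib.CT Cfsg.Agent.Lib.CT.Wedderburn Cfsg.Agent.Lib.Helper26.GenChar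
open Cfsg.Agent.Lib.Helper32 Cfsg.Agent.Lib.Helper3.Irr
open scoped ComplexConjugate

universe u

theorem main : D8Stmt.COMMONNEG.{u} := by
  intro G _ _ Ψ Ψ' hΨ hΨ' h1 h1' hnorm hnorm' htriv htriv' hinner
  classical
  haveI := finite_irrCharacter G
  haveI := Fintype.ofFinite (IrrCharacter G)
  obtain ⟨c, hc, he⟩ := exists_int_mult hΨ
  obtain ⟨d, hd, he'⟩ := exists_int_mult hΨ'
  have hpar : classInner Ψ Ψ' = ((∑ ψ : IrrCharacter G, c ψ * d ψ : ℤ) : ℂ) := by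
    conv_lhs => rw [he']
    rw [classInner_sum_right]
    push_cast
    refine Finset.sum_congr rfl fun ψ _ => ?_
    rw [Cfsg.Agent.Lib.Helper26.GenChar.classInner_smul_right, hc ψ, map_intCast]
    ring
  rw [hinner] at hpar
  have hsum : ∑ ψ : IrrCharacter G, c ψ * d ψ = -2 := by exact_mod_cast hpar.symm
  obtain ⟨t₀, ht₀⟩ : ∃ t₀ : IrrCharacter G, (t₀ : G → ℂ) = D8Stmt.triv G :=
    ⟨⟨fun _ => (1 : ℂ), Ops.isIrrCharacter_one⟩, rfl⟩
  have hct : c t₀ = 1 := by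
    have h2 := hc t₀
    rw [ht₀, htriv] at h2
    exact_mod_cast h2.symm
  have hdt : d t₀ = -1 := by
    have h2 := hd t₀
    rw [ht₀, htriv'] at h2
    exact_mod_cast h2.symm
  have hrest : ∑ ψ ∈ Finset.univ.erase t₀, c ψ * d ψ = -1 := by
    have e1 := Finset.add_sum_erase Finset.univ (fun ψ => c ψ * d ψ) (Finset.mem_univ t₀)
    simp only [hsum, hct, hdt] at e1
    linarith
  have hcr : ∀ ψ : IrrCharacter G, c ψ = 0 ∨ c ψ = 1 ∨ c ψ = -1 := by
    intro ψ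
    have := Cfsg.Agent.Lib.Helper87.D8MULT4.main Ψ (ψ : G → ℂ) hΨ h1 hnorm ψ.2
    rw [hc ψ] at this
    rcases this with h | h | h
    · left; exact_mod_cast h
    · right; left; exact_mod_cast h
    · right; right; exact_mod_cast h
  have hdr : ∀ ψ : IrrCharacter G, d ψ = 0 ∨ d ψ = 1 ∨ d ψ = -1 := by
    intro ψ
    have := Cfsg.Agent.Lib.Helper87.D8MULT4.main Ψ' (ψ : G → ℂ) hΨ' h1' hnorm' ψ.2
    rw [hd ψ] at this
    rcases this with h | h | h
    · left; exact_mod_cast h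
    · right; left; exact_mod_cast h
    · right; right; exact_mod_cast h
  -- some product is `-1`
  have hex : ∃ ψ ∈ Finset.univ.erase t₀, c ψ * d ψ = -1 := by
    by_contra hno
    have hnn : 0 ≤ ∑ ψ ∈ Finset.univ.erase t₀, c ψ * d ψ := by
      apply Finset.sum_nonneg
      intro ψ hψ
      have h3 : c ψ * d ψ ≠ -1 := fun h => hno ⟨ψ, hψ, h⟩
      have h4 : c ψ * d ψ = 0 ∨ c ψ * d ψ = 1 ∨ c ψ * d ψ = -1 := by
        rcases hcr ψ with h | h | h <;> rcases hdr ψ with h' | h' | h' <;> rw [h, h'] <;>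
          norm_num
      omega
    linarith
  obtain ⟨ψ, hψ, hprod⟩ := hex
  have hψne : (ψ : G → ℂ) ≠ D8Stmt.triv G := by
    intro h
    exact (Finset.ne_of_mem_erase hψ) (Subtype.ext (h.trans ht₀.symm))
  refine ⟨(ψ : G → ℂ), ψ.2, hψne, ?_⟩
  rw [hc ψ, hd ψ]
  have hfin : (c ψ = 1 ∧ d ψ = -1) ∨ (c ψ = -1 ∧ d ψ = 1) := by
    rcases hcr ψ with h | h | h <;> rcases hdr ψ with h' | h' | h' <;>
      rw [h, h'] at hprod <;> omega
  rcases hfin with ⟨h, h'⟩ | ⟨h, h'⟩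
  · left
    rw [h, h']
    constructor <;> norm_num
  · right
    rw [h, h']
    constructor <;> norm_num

end Cfsg.Agent.Lib.Helper87.D8COMMONNEG
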