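import Mathlib
import Cfsg.Agent.Lib.Helper32.D8Stmt
import Cfsg.Agent.Lib.CT.FrobRec

/-!
# S3716 / CSD1: the `x*y`-side class-pair sums, no fusion (CS1 for the dual configuration,
moved back by conjugation)

Also the transport lemmas used by CSD2.
-/

set_option autoImplicit false

namespace Cfsg.Agent.Lib.Helper87.D8CSD1

open Cfsg Cfsg.Agent.Lib.Helper32 Cfsg.Agent.Lib.Helper32.D8Stmt
open scoped ComplexConjugate

universe u

/-- the centralizer order is a class invariant -/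
theorem cz_conj {G : Type u} [Group G] (k u : G) : cz (k * u * k⁻¹) = cz u := by
  unfold cz
  congr 1
  apply Nat.card_congr
  refine
    { toFun := fun c => ⟨k⁻¹ * c.1 * k, ?_⟩
      invFun := fun c => ⟨k * c.1 * k⁻¹, ?_⟩
      left_inv := ?_
      right_inv := ?_ }
  · have h := Subgroup.mem_centralizer_singleton_iff.mp c.2
    rw [Subgroup.mem_centralizer_singleton_iff]
    calc k⁻¹ * c.1 * k * u = k⁻¹ * (c.1 * (k * u * k⁻¹)) * k := by group
      _ = k⁻¹ * ((k * u * k⁻¹) * c.1) * k := by rw [h]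
      _ = u * (k⁻¹ * c.1 * k) := by group
  · have h := Subgroup.mem_centralizer_singleton_iff.mp c.2
    rw [Subgroup.mem_centralizer_singleton_iff]
    calc k * c.1 * k⁻¹ * (k * u * k⁻¹) = k * (c.1 * u) * k⁻¹ := by group
      _ = k * (u * c.1) * k⁻¹ := by rw [h]
      _ = k * u * k⁻¹ * (k * c.1 * k⁻¹) := by group
  · intro c
    apply Subtype.ext
    show k * (k⁻¹ * c.1 * k) * k⁻¹ = c.1
    group
  · intro c
    apply Subtype.ext
    show k⁻¹ * (k * c.1 * k⁻¹) * k = c.1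
    group

/-- transport of a `bb`-table along conjugations swapping the two arguments -/
theorem tab_transport {G : Type u} [Group G] [Fintype G] (hBB : D8Stmt.BBINV.{u})
    (Θ : G → ℂ) (hΘ : IsClassFunction G Θ) (a w a' w' k₁ k₂ : G)
    (ha' : a' = k₁ * w * k₁⁻¹) (hw' : w' = k₂ * a * k₂⁻¹) (α β γ : ℂ)
    (h : Tab Θ a' w' α β γ) : Tab Θ a w γ β α := by
  subst ha' hw'
  obtain ⟨ta, tb, tc⟩ := h
  refine ⟨?_, ?_, ?_⟩
  · have e : bb Θ (k₂ * a * k₂⁻¹) (k₂ * a * k₂⁻¹) = bb Θ a a :=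
      ((hBB Θ hΘ a (k₂ * a * k₂⁻¹) k₂).2.1).trans ((hBB Θ hΘ a a k₂).2.2)
    exact e.symm.trans tc
  · have e : bb Θ (k₁ * w * k₁⁻¹) (k₂ * a * k₂⁻¹) = bb Θ a w :=
      ((hBB Θ hΘ w (k₂ * a * k₂⁻¹) k₁).2.1).trans
        (((hBB Θ hΘ w a k₂).2.2).trans (hBB Θ hΘ w a 1).1)
    exact e.symm.trans tb
  · have e : bb Θ (k₁ * w * k₁⁻¹) (k₁ * w * k₁⁻¹) = bb Θ w w :=
      ((hBB Θ hΘ w (k₁ * w * k₁⁻¹) k₁).2.1).trans ((hBB Θ hΘ w w k₁).2.2)
    exact e.symm.trans ta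

theorem main (hCS1 : D8Stmt.CS1.{u}) (hBB : D8Stmt.BBINV.{u}) (hDUAL : D8Stmt.DUAL.{u}) :
    D8Stmt.CSD1.{u} := by
  intro G _ _ T N x y a b w hcfg f' g' hOm hnaw hnaz hnwz
  obtain ⟨hcfg', h1, h2, h3, -, -⟩ := hDUAL hcfg
  have hcw : IsConj w (w * a * b) := isConj_iff.mpr ⟨a, h1.symm⟩
  have hca : IsConj a b := isConj_iff.mpr ⟨w, h3.symm⟩
  have hc1 : ¬ IsConj (w * a * b) b := by
    intro hc
    exact hnaw ((hcw.trans hc).trans hca.symm).symm
  have hc2 : ¬ IsConj (w * a * b) (w * a * b * w) := by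
    rw [h2]
    intro hc
    exact hnwz (hcw.trans hc)
  have hc3 : ¬ IsConj b (w * a * b * w) := by
    rw [h2]
    intro hc
    exact hnaz (hca.trans hc)
  obtain ⟨t1, t2⟩ := hCS1 hcfg' f' g' hOm hc1 hc2 hc3
  have hcz1 : cz (w * a * b) = cz w := by rw [h1]; exact cz_conj a w
  have hcz2 : cz b = cz a := by
    have := cz_conj w a
    rw [← h3] at this
    exact this
  rw [hcz1, hcz2] at t1 t2
  refine ⟨?_, ?_⟩
  · exact tab_transport hBB _
      (Cfsg.Agent.Lib.CT.FrobRec.indFun_isClassFunction _ _) a w (w * a * b) b a w h1 h3 _ _ _ t1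
  · exact tab_transport hBB _
      (Cfsg.Agent.Lib.CT.FrobRec.indFun_isClassFunction _ _) a w (w * a * b) b a w h1 h3 _ _ _ t2

end Cfsg.Agent.Lib.Helper87.D8CSD1
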