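import Mathlib
import Cfsg.Agent.Lib.Helper32.D8Stmt
import Cfsg.Agent.Lib.CT.FrobRec
import Cfsg.Agent.Lib.Helper87.D8CSD1

/-!
# S3716 / CSD2: the `x*y`-side class-pair sums when `a ~ a*b` (CS3 for the dual configuration,
moved back by conjugation)
-/

set_option autoImplicit false

namespace Cfsg.Agent.Lib.Helper87.D8CSD2

open Cfsg Cfsg.Agent.Lib.Helper32 Cfsg.Agent.Lib.Helper32.D8Stmt
open Cfsg.Agent.Lib.Helper87.D8CSD1
open scoped ComplexConjugate

universe u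

theorem main (hCS3 : D8Stmt.CS3.{u}) (hBB : D8Stmt.BBINV.{u}) (hDUAL : D8Stmt.DUAL.{u}) :
    D8Stmt.CSD2.{u} := by
  intro G _ _ T N x y a b w hcfg f' g' hOm hnaw haz
  obtain ⟨hcfg', h1, h2, h3, -, -⟩ := hDUAL hcfg
  have hcw : IsConj w (w * a * b) := isConj_iff.mpr ⟨a, h1.symm⟩
  have hca : IsConj a b := isConj_iff.mpr ⟨w, h3.symm⟩
  have hc1 : ¬ IsConj (w * a * b) b := by
    intro hc
    exact hnaw ((hcw.trans hc).trans hca.symm).symm
  have hc2 : IsConj b (w * a * b * w) := by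
    rw [h2]
    exact hca.symm.trans haz
  obtain ⟨t1, t2⟩ := hCS3 hcfg' f' g' hOm hc1 hc2
  have hcz1 : cz (w * a * b) = cz w := by rw [h1]; exact cz_conj a w
  have hcz2 : cz b = cz a := by
    have := cz_conj w a
    rw [← h3] at this
    exact this
  rw [hcz1, hcz2] at t1 t2
  have r1 := tab_transport hBB _
      (Cfsg.Agent.Lib.CT.FrobRec.indFun_isClassFunction _ _) a w (w * a * b) b a w h1 h3 _ _ _ t1
  have r2 := tab_transport hBB _
      (Cfsg.Agent.Lib.CT.FrobRec.indFun_isClassFunction _ _) a w (w * a * b) b a w h1 h3 _ _ _ t2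
  obtain ⟨p1, q1, s1⟩ := r1
  obtain ⟨p2, q2, s2⟩ := r2
  refine ⟨⟨p1, ?_, s1⟩, ⟨p2, ?_, s2⟩⟩
  · exact q1.trans (by ring)
  · exact q2.trans (by ring)

end Cfsg.Agent.Lib.Helper87.D8CSD2
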