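import Mathlib
import Cfsg.Agent.Lib.Helper75.DCStmt

/-!
# S4719, piece NC: the centralizer of the normal closure of an element with few conjugates
has bounded index
-/

set_option autoImplicit false

namespace Cfsg.Agent.Lib.Helper87.DCNC

open Cfsg

universe u

theorem main : Cfsg.Agent.Lib.Helper75.DCStmt.NC.{u} := by
  intro Γ _ _ G v w m hGn hGen g hgG hm
  classical
  have : Finite (ConjAct Γ) := inferInstanceAs (Finite Γ)
  -- |Γ| ≤ 4 |G|
  have hΓ : Nat.card Γ ≤ 4 * Nat.card G := by
    let f : ↥G × Fin 4 → Γ := fun p =>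
      (p.1 : Γ) * (if p.2 = 0 then 1 else if p.2 = 1 then v else if p.2 = 2 then w else v * w)
    have hf : Function.Surjective f := by
      intro γ
      obtain ⟨x, hx, u, hu, rfl⟩ := hGen γ
      rcases hu with rfl | rfl | rfl | rfl
      · exact ⟨(⟨x, hx⟩, 0), by simp [f]⟩
      · exact ⟨(⟨x, hx⟩, 1), by simp [f]⟩
      · exact ⟨(⟨x, hx⟩, 2), by simp [f]⟩
      · exact ⟨(⟨x, hx⟩, 3), by simp [f]⟩
    have h1 := Nat.card_le_card_of_surjective f hf
    rw [Nat.card_prod] at h1
    simpa [mul_comm] using h1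
  -- orbit-stabilizer for the conjugation action of Γ
  have hos : Nat.card (MulAction.stabilizer (ConjAct Γ) g) *
      Nat.card ↥(MulAction.orbit (ConjAct Γ) g) = Nat.card Γ := by
    have h1 := Subgroup.card_mul_index (MulAction.stabilizer (ConjAct Γ) g)
    rw [MulAction.index_stabilizer] at h1
    rw [Nat.card_coe_set_eq]
    exact h1
  -- the centralizer of g in G embeds in the stabilizer
  have hmemst : ∀ x : ↥(G ⊓ Subgroup.centralizer ({g} : Set Γ)),
      ConjAct.toConjAct (x : Γ) ∈ MulAction.stabilizer (ConjAct Γ) g := by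
    intro x
    rw [MulAction.mem_stabilizer_iff, ConjAct.smul_def, ConjAct.ofConjAct_toConjAct]
    have h1 : (x : Γ) ∈ Subgroup.centralizer ({g} : Set Γ) := x.2.2
    rw [Subgroup.mem_centralizer_singleton_iff] at h1
    rw [h1, mul_inv_cancel_right]
  have hst : Nat.card ↥(G ⊓ Subgroup.centralizer ({g} : Set Γ)) ≤
      Nat.card (MulAction.stabilizer (ConjAct Γ) g) := by
    apply Nat.card_le_card_of_injective
      (fun x : ↥(G ⊓ Subgroup.centralizer ({g} : Set Γ)) =>
        (⟨ConjAct.toConjAct (x : Γ), hmemst x⟩ : MulAction.stabilizer (ConjAct Γ) g))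
    intro a b hab
    have h1 := congrArg Subtype.val hab
    simp only at h1
    exact Subtype.ext (ConjAct.toConjAct.injective h1)
  have hkpos : 0 < Nat.card ↥(G ⊓ Subgroup.centralizer ({g} : Set Γ)) := Nat.card_pos
  -- the class has at most 4 m elements
  have hX : Nat.card ↥(MulAction.orbit (ConjAct Γ) g) ≤ 4 * m := by
    have h1 : Nat.card ↥(G ⊓ Subgroup.centralizer ({g} : Set Γ)) *
        Nat.card ↥(MulAction.orbit (ConjAct Γ) g) ≤
        Nat.card ↥(G ⊓ Subgroup.centralizer ({g} : Set Γ)) * (4 * m) := by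
      calc Nat.card ↥(G ⊓ Subgroup.centralizer ({g} : Set Γ)) *
            Nat.card ↥(MulAction.orbit (ConjAct Γ) g)
          ≤ Nat.card (MulAction.stabilizer (ConjAct Γ) g) *
            Nat.card ↥(MulAction.orbit (ConjAct Γ) g) := Nat.mul_le_mul_right _ hst
        _ = Nat.card Γ := hos
        _ ≤ 4 * Nat.card G := hΓ
        _ ≤ 4 * (m * Nat.card ↥(G ⊓ Subgroup.centralizer ({g} : Set Γ))) :=
            Nat.mul_le_mul_left _ hm
        _ = Nat.card ↥(G ⊓ Subgroup.centralizer ({g} : Set Γ)) * (4 * m) := by ring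
    exact Nat.le_of_mul_le_mul_left h1 hkpos
  -- the permutation representation of G on the class
  obtain ⟨φ, hφ⟩ : ∃ φ : ↥G →* Equiv.Perm ↥(MulAction.orbit (ConjAct Γ) g),
      φ = (MulAction.toPermHom (ConjAct Γ) ↥(MulAction.orbit (ConjAct Γ) g)).comp
        ((ConjAct.toConjAct (G := Γ)).toMonoidHom.comp G.subtype) := ⟨_, rfl⟩
  have hker : ∀ x : ↥G, x ∈ φ.ker → (x : Γ) ∈
      Subgroup.centralizer ((Subgroup.normalClosure ({g} : Set Γ) : Subgroup Γ) : Set Γ) := by
    intro x hx
    rw [MonoidHom.mem_ker] at hx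
    have hfix : ∀ y : Γ, IsConj g y → (x : Γ) * y = y * (x : Γ) := by
      intro y hy
      have hyo : y ∈ MulAction.orbit (ConjAct Γ) g := ConjAct.mem_orbit_conjAct.2 hy.symm
      have h1 := congrArg (fun σ => ((σ ⟨y, hyo⟩ : ↥(MulAction.orbit (ConjAct Γ) g)) : Γ)) hx
      simp only [hφ, MonoidHom.comp_apply, MulAction.toPermHom_apply, MulAction.toPerm_apply,
        Equiv.Perm.coe_one, id_eq] at h1
      have h2 : (ConjAct.toConjAct (x : Γ)) • y = y := by
        simpa using h1
      rw [ConjAct.smul_def, ConjAct.ofConjAct_toConjAct] at h2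
      calc (x : Γ) * y = (x : Γ) * y * (x : Γ)⁻¹ * (x : Γ) := by group
        _ = y * (x : Γ) := by rw [h2]
    have hle : Subgroup.normalClosure ({g} : Set Γ) ≤
        Subgroup.centralizer ({(x : Γ)} : Set Γ) := by
      unfold Subgroup.normalClosure
      rw [Subgroup.closure_le]
      intro y hy
      rw [Group.mem_conjugatesOfSet_iff] at hy
      obtain ⟨a, ha, hay⟩ := hy
      have ha' : a = g := ha
      rw [ha'] at hay
      show y ∈ Subgroup.centralizer ({(x : Γ)} : Set Γ)
      rw [Subgroup.mem_centralizer_singleton_iff]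
      exact (hfix y hay).symm
    rw [Subgroup.mem_centralizer_iff]
    intro y hy
    have h1 := hle hy
    rw [Subgroup.mem_centralizer_singleton_iff] at h1
    exact h1
  have hkcard : Nat.card φ.ker ≤ Nat.card ↥(G ⊓ Subgroup.centralizer
      ((Subgroup.normalClosure ({g} : Set Γ) : Subgroup Γ) : Set Γ)) := by
    apply Nat.card_le_card_of_injective
      (fun x : φ.ker => (⟨((x : ↥G) : Γ), ⟨(x : ↥G).2, hker x x.2⟩⟩ :
        ↥(G ⊓ Subgroup.centralizer
          ((Subgroup.normalClosure ({g} : Set Γ) : Subgroup Γ) : Set Γ))))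
    intro a b hab
    have h1 := congrArg Subtype.val hab
    simp only at h1
    exact Subtype.ext (Subtype.ext h1)
  have hrange : Nat.card φ.range ≤ (4 * m).factorial := by
    calc Nat.card φ.range ≤ Nat.card (Equiv.Perm ↥(MulAction.orbit (ConjAct Γ) g)) :=
          Subgroup.card_le_card_group _
      _ = (Nat.card ↥(MulAction.orbit (ConjAct Γ) g)).factorial := Nat.card_perm
      _ ≤ (4 * m).factorial := Nat.factorial_le hX
  have hG : Nat.card ↥G = Nat.card φ.ker * Nat.card φ.range := by
    rw [← Subgroup.index_ker, Subgroup.card_mul_index]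
  rw [hG, mul_comm]
  exact Nat.mul_le_mul hrange hkcard

end Cfsg.Agent.Lib.Helper87.DCNC
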