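import Mathlib
import Cfsg.Agent.Lib.Helper57.FTStmt

/-!
S3999 piece CNT: in a Frobenius group with kernel `K` and complement `C`, the elements of order
`d > 1`, `d ∣ |C|`, are counted by `(k, c) ↦ k c k⁻¹`.
-/

set_option autoImplicit false

namespace Cfsg.Agent.Lib.Helper87.FTCNT

universe u

open scoped Pointwise

theorem orderOf_conj_eq {X : Type u} [Group X] (g x : X) :
    orderOf (g * x * g⁻¹) = orderOf x := by
  have h := (MulAut.conj g).orderOf_eq x
  simpa [MulAut.conj_apply] using h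

theorem main : Cfsg.Agent.Lib.Helper57.FTStmt.Cnt.{u} := by
  intro X _ _ C K hC hKn hcomp hker hcop d hd hdC
  have hdisj : K ⊓ C = ⊥ := Subgroup.inf_eq_bot_of_coprime hcop
  let φ : K × {c : C // orderOf c = d} → {x : X // orderOf x = d} := fun kc =>
    ⟨(kc.1 : X) * (kc.2.1 : X) * (kc.1 : X)⁻¹, by
      rw [orderOf_conj_eq, Subgroup.orderOf_coe]; exact kc.2.2⟩
  have hinj : Function.Injective φ := by
    rintro ⟨k, c, hc⟩ ⟨k', c', hc'⟩ h
    have h1 : (k : X) * (c : X) * (k : X)⁻¹ = (k' : X) * (c' : X) * (k' : X)⁻¹ :=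
      congrArg Subtype.val h
    obtain ⟨g, hg⟩ : ∃ g : X, g = (k' : X)⁻¹ * (k : X) := ⟨_, rfl⟩
    have hgK : g ∈ K := by rw [hg]; exact K.mul_mem (K.inv_mem k'.2) k.2
    have h2 : (c' : X) = g * (c : X) * g⁻¹ := by
      have h3 : (c' : X) = (k' : X)⁻¹ * ((k' : X) * (c' : X) * (k' : X)⁻¹) * (k' : X) := by group
      rw [h3, ← h1, hg]; group
    have hc'1 : (c' : X) ≠ 1 := by
      intro h0
      have h4 : c' = 1 := Subtype.ext h0
      rw [h4, orderOf_one] at hc'
      omega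
    have hgC : g ∈ C := by
      by_contra hgC
      have h3 := hC.2.2 g hgC
      have h4 : (c' : X) ∈ C ⊓ (MulAut.conj g • C) := by
        refine Subgroup.mem_inf.mpr ⟨c'.2, ?_⟩
        rw [h2]
        exact ⟨(c : X), c.2, by simp [MulAut.conj_apply]⟩
      rw [h3, Subgroup.mem_bot] at h4
      exact hc'1 h4
    have hg1 : g = 1 := by
      have h5 : g ∈ K ⊓ C := Subgroup.mem_inf.mpr ⟨hgK, hgC⟩
      rwa [hdisj, Subgroup.mem_bot] at h5
    have hkk : (k : X) = (k' : X) := by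
      have h6 : (k : X) = (k' : X) * g := by rw [hg]; group
      rw [h6, hg1, mul_one]
    have hkk' : k = k' := Subtype.ext hkk
    subst hkk'
    have h8 : (k : X) * ((c : X) * (k : X)⁻¹) = (k : X) * ((c' : X) * (k : X)⁻¹) := by
      simpa [mul_assoc] using h1
    have hcc : (c : X) = (c' : X) := mul_right_cancel (mul_left_cancel h8)
    have hcc' : c = c' := Subtype.ext hcc
    subst hcc'
    rfl
  have hsurj : Function.Surjective φ := by
    rintro ⟨x, hx⟩
    have hxK : x ∉ K := by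
      intro hxK
      have h1 : d ∣ Nat.card K := by rw [← hx]; exact Subgroup.orderOf_dvd_natCard K hxK
      have h2 : d ∣ 1 := by
        have h3 := Nat.dvd_gcd h1 hdC
        rwa [Nat.Coprime.gcd_eq_one hcop] at h3
      have h4 : d = 1 := Nat.dvd_one.mp h2
      omega
    have hxk : x ∉ Cfsg.frobeniusKernel C := by
      rw [← hker]; exact hxK
    have hex : ∃ g : X, x ∈ MulAut.conj g • C := by
      by_contra hne
      push_neg at hne
      exact hxk (Or.inr hne)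
    obtain ⟨g, hg⟩ := hex
    rw [Subgroup.mem_pointwise_smul_iff_inv_smul_mem] at hg
    have hcC : g⁻¹ * x * g ∈ C := by
      simpa [MulAut.smul_def, MulAut.conj_inv_apply] using hg
    obtain ⟨⟨⟨k, hk⟩, ⟨c₀, hc₀⟩⟩, hkc⟩ := hcomp.2 g
    have hkc' : k * c₀ = g := hkc
    have hmem : c₀ * (g⁻¹ * x * g) * c₀⁻¹ ∈ C := C.mul_mem (C.mul_mem hc₀ hcC) (C.inv_mem hc₀)
    have hord : orderOf (⟨c₀ * (g⁻¹ * x * g) * c₀⁻¹, hmem⟩ : C) = d := by
      rw [← Subgroup.orderOf_coe]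
      show orderOf (c₀ * (g⁻¹ * x * g) * c₀⁻¹) = d
      rw [orderOf_conj_eq]
      have h7 : g⁻¹ * x * g = g⁻¹ * x * g⁻¹⁻¹ := by group
      rw [h7, orderOf_conj_eq]
      exact hx
    refine ⟨(⟨k, hk⟩, ⟨⟨c₀ * (g⁻¹ * x * g) * c₀⁻¹, hmem⟩, hord⟩), ?_⟩
    apply Subtype.ext
    show k * (c₀ * (g⁻¹ * x * g) * c₀⁻¹) * k⁻¹ = x
    rw [← hkc']
    group
  have hcard := Nat.card_congr (Equiv.ofBijective φ ⟨hinj, hsurj⟩)
  rw [Nat.card_prod] at hcard
  exact hcard.symm

end Cfsg.Agent.Lib.Helper87.FTCNT
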