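import Mathlib
import Cfsg.Agent.Lib.Helper87.FUSHStmt

/-!
S1438 piece FUSH, STEP C (helper87): `F` nilpotent normal, `H` a Hall subgroup of `S ≥ F`,
`x ∈ H`, `f ∈ F`, `f x f⁻¹ ∈ H`: then `f x f⁻¹ = h₀ x h₀⁻¹` with `h₀ ∈ H`.
-/

set_option autoImplicit false

namespace Cfsg.Agent.Lib.Helper87.FUSHC

universe u

open Cfsg.Agent.Lib.Helper23.HNStmt Cfsg.Agent.Lib.Helper87.FUSHStmt

theorem card_mul_relIndex' {G : Type u} [Group G] [Finite G] (A B : Subgroup G) (h : A ≤ B) :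
    Nat.card A * A.relIndex B = Nat.card B := by
  have h1 := Subgroup.card_mul_index (A.subgroupOf B)
  rw [Nat.card_congr (Subgroup.subgroupOfEquivOfLe h).toEquiv] at h1
  exact h1

/-- `|F : H ∩ F| = |H F : H|` for `F` normal -/
theorem relIndex_inf_eq {G : Type u} [Group G] [Finite G] (H F : Subgroup G) [F.Normal] :
    (H ⊓ F).relIndex F = H.relIndex (H ⊔ F) := by
  have e1 := card_mul_relIndex' F (H ⊔ F) le_sup_right
  have e2 : F.relIndex (H ⊔ F) = F.relIndex H := Subgroup.relIndex_sup_right H F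
  have e3 := card_mul_relIndex' (F ⊓ H) H inf_le_right
  rw [Subgroup.inf_relIndex_right] at e3
  have e4 := card_mul_relIndex' H (H ⊔ F) le_sup_left
  have e5 := card_mul_relIndex' (H ⊓ F) F inf_le_right
  rw [inf_comm] at e3
  rw [e2] at e1
  have hr : 0 < F.relIndex H := by
    rcases Nat.eq_zero_or_pos (F.relIndex H) with h0 | h0
    · rw [h0, mul_zero] at e3
      have : 0 < Nat.card H := Nat.card_pos
      omega
    · exact h0
  have ha : 0 < Nat.card ↥(H ⊓ F) := Nat.card_pos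
  have key : Nat.card ↥(H ⊓ F) * F.relIndex H * (H ⊓ F).relIndex F =
      Nat.card ↥(H ⊓ F) * F.relIndex H * H.relIndex (H ⊔ F) := by
    calc Nat.card ↥(H ⊓ F) * F.relIndex H * (H ⊓ F).relIndex F
        = (Nat.card ↥(H ⊓ F) * (H ⊓ F).relIndex F) * F.relIndex H := by ring
      _ = Nat.card F * F.relIndex H := by rw [e5]
      _ = Nat.card ↥(H ⊔ F) := e1
      _ = Nat.card H * H.relIndex (H ⊔ F) := e4.symm
      _ = Nat.card ↥(H ⊓ F) * F.relIndex H * H.relIndex (H ⊔ F) := by rw [e3]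
  exact Nat.eq_of_mul_eq_mul_left (Nat.mul_pos ha hr) key

theorem main (hU : HallNilUniq.{u}) : StepC.{u} := by
  intro X _ _ S F H hFn hFS hFnil hHS hHall x hx f hf hfx
  -- coprimality of `|H|` and `|F : H ∩ F|`
  have hrel : (H ⊓ F).relIndex F ∣ H.relIndex S := by
    rw [relIndex_inf_eq H F]
    exact Dvd.intro _ (Subgroup.relIndex_mul_relIndex H (H ⊔ F) S le_sup_left (sup_le hHS hFS))
  have hcop : (Nat.card H).Coprime ((H ⊓ F).relIndex F) :=
    Nat.Coprime.coprime_dvd_right hrel hHall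
  have hAF : H ⊓ F ≤ F := inf_le_right
  have hAcop : (Nat.card ↥(H ⊓ F)).Coprime ((H ⊓ F).relIndex F) :=
    Nat.Coprime.coprime_dvd_left (Subgroup.card_dvd_of_le inf_le_left) hcop
  -- `A = H ⊓ F` is normal in `F`
  have hAconj : ∀ g ∈ F, ∀ a ∈ H ⊓ F, g * a * g⁻¹ ∈ H ⊓ F := by
    intro g hg a ha
    have hle : (H ⊓ F).map (MulAut.conj g).toMonoidHom ≤ F := by
      rintro _ ⟨b, hb, rfl⟩
      exact hFn.conj_mem b (hAF hb) g
    have hcard : Nat.card ↥(H ⊓ F) = Nat.card ↥((H ⊓ F).map (MulAut.conj g).toMonoidHom) :=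
      (Subgroup.card_map_of_injective (MulAut.conj g).injective).symm
    have heq := hU F (H ⊓ F) _ hFnil hAF hle hcard hAcop
    have h1 : g * a * g⁻¹ ∈ (H ⊓ F).map (MulAut.conj g).toMonoidHom := ⟨a, ha, rfl⟩
    rw [← heq] at h1
    exact h1
  haveI hAn : ((H ⊓ F).subgroupOf F).Normal := by
    refine ⟨fun a ha g => ?_⟩
    rw [Subgroup.mem_subgroupOf] at ha ⊢
    exact hAconj g g.2 a ha
  -- Schur-Zassenhaus
  have hcardA' : Nat.card ↥((H ⊓ F).subgroupOf F) = Nat.card ↥(H ⊓ F) :=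
    Nat.card_congr (Subgroup.subgroupOfEquivOfLe hAF).toEquiv
  have hSZ : (Nat.card ↥((H ⊓ F).subgroupOf F)).Coprime ((H ⊓ F).subgroupOf F).index := by
    rw [hcardA']
    exact hAcop
  obtain ⟨R', hcompl⟩ := Subgroup.exists_right_complement'_of_coprime hSZ
  have hR'card : Nat.card R' = (H ⊓ F).relIndex F := (hcompl.symm.index_eq_card).symm
  have hRF : R'.map F.subtype ≤ F := by
    rintro _ ⟨r, -, rfl⟩
    exact r.2
  have hRcard : Nat.card ↥(R'.map F.subtype) = (H ⊓ F).relIndex F := by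
    rw [Subgroup.card_map_of_injective (Subgroup.subtype_injective F), hR'card]
  -- `R ⊓ H = ⊥`
  have hRH : R'.map F.subtype ⊓ H = ⊥ := by
    apply Subgroup.inf_eq_bot_of_coprime
    rw [hRcard]
    exact hcop.symm
  -- `R` is a Hall subgroup of `F`
  have hRrel : (R'.map F.subtype).relIndex F = Nat.card ↥(H ⊓ F) := by
    have h1 := card_mul_relIndex' (R'.map F.subtype) F hRF
    have h2 := card_mul_relIndex' (H ⊓ F) F hAF
    rw [hRcard] at h1
    have h3 : (H ⊓ F).relIndex F * (R'.map F.subtype).relIndex F =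
        (H ⊓ F).relIndex F * Nat.card ↥(H ⊓ F) := by
      rw [h1, ← h2, mul_comm]
    have hpos : 0 < (H ⊓ F).relIndex F := by
      rcases Nat.eq_zero_or_pos ((H ⊓ F).relIndex F) with h0 | h0
      · rw [h0, mul_zero] at h2
        have : 0 < Nat.card F := Nat.card_pos
        omega
      · exact h0
    exact Nat.eq_of_mul_eq_mul_left hpos h3
  have hRcop : (Nat.card ↥(R'.map F.subtype)).Coprime ((R'.map F.subtype).relIndex F) := by
    rw [hRcard, hRrel]
    exact hAcop.symm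
  -- `x` normalizes `R`
  have hxR : ∀ y ∈ H, ∀ r ∈ R'.map F.subtype, y * r * y⁻¹ ∈ R'.map F.subtype := by
    intro y _ r hr
    have hle : (R'.map F.subtype).map (MulAut.conj y).toMonoidHom ≤ F := by
      rintro _ ⟨b, hb, rfl⟩
      exact hFn.conj_mem b (hRF hb) y
    have hcard : Nat.card ↥(R'.map F.subtype) =
        Nat.card ↥((R'.map F.subtype).map (MulAut.conj y).toMonoidHom) :=
      (Subgroup.card_map_of_injective (MulAut.conj y).injective).symm
    have heq := hU F (R'.map F.subtype) _ hFnil hRF hle hcard hRcop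
    have h1 : y * r * y⁻¹ ∈ (R'.map F.subtype).map (MulAut.conj y).toMonoidHom := ⟨r, hr, rfl⟩
    rw [← heq] at h1
    exact h1
  -- `f = h₀ * r`
  obtain ⟨⟨⟨a', ha'⟩, ⟨r', hr'⟩⟩, hg⟩ := hcompl.2 ⟨f, hf⟩
  have hfar : (a' : X) * (r' : X) = f := congrArg Subtype.val hg
  have haA : (a' : X) ∈ H ⊓ F := Subgroup.mem_subgroupOf.mp ha'
  have haH : (a' : X) ∈ H := haA.1
  have hrR : (r' : X) ∈ R'.map F.subtype := ⟨r', hr', rfl⟩
  -- `r x r⁻¹ ∈ H`
  have h1 : (r' : X) * x * (r' : X)⁻¹ ∈ H := by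
    have h2 : (r' : X) * x * (r' : X)⁻¹ = (a' : X)⁻¹ * (f * x * f⁻¹) * (a' : X) := by
      rw [← hfar]; group
    rw [h2]
    exact H.mul_mem (H.mul_mem (H.inv_mem haH) hfx) haH
  have h3 : (r' : X) * x * (r' : X)⁻¹ * x⁻¹ ∈ R'.map F.subtype ⊓ H := by
    refine Subgroup.mem_inf.mpr ⟨?_, H.mul_mem h1 (H.inv_mem hx)⟩
    have h4 : x * (r' : X)⁻¹ * x⁻¹ ∈ R'.map F.subtype :=
      hxR x hx _ (Subgroup.inv_mem _ hrR)
    have h5 : (r' : X) * x * (r' : X)⁻¹ * x⁻¹ = (r' : X) * (x * (r' : X)⁻¹ * x⁻¹) := by group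
    rw [h5]
    exact Subgroup.mul_mem _ hrR h4
  rw [hRH, Subgroup.mem_bot] at h3
  have h6 : (r' : X) * x * (r' : X)⁻¹ = x := by
    calc (r' : X) * x * (r' : X)⁻¹ = ((r' : X) * x * (r' : X)⁻¹ * x⁻¹) * x := by group
      _ = x := by rw [h3, one_mul]
  refine ⟨(a' : X), haH, ?_⟩
  calc (a' : X) * x * (a' : X)⁻¹ = (a' : X) * ((r' : X) * x * (r' : X)⁻¹) * (a' : X)⁻¹ := by
        rw [h6]
    _ = f * x * f⁻¹ := by rw [← hfar]; group

end Cfsg.Agent.Lib.Helper87.FUSHC
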