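import Mathlib
import Cfsg.Agent.Lib.Helper40.GFStmt

set_option autoImplicit false

/-!
# S5886 / RANK1 (helper87, third seat): the rank one case
-/

namespace Cfsg.Agent.Lib.Helper87.GFRANK1

open Cfsg.Agent.Lib.Helper40.GFStmt

universe u

theorem decomp {F L : Type u} [Field F] [Field L] [Algebra F L] [FiniteDimensional F L]
    (K : Submodule F L) (a₀ : L) (ha₀ : a₀ ∉ K)
    (hK : Module.finrank F K + 1 = Module.finrank F L) :
    ∀ a : L, ∃ κ ∈ K, ∃ s : F, a = κ + s • a₀ := by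
  have hlt : K < K ⊔ Submodule.span F {a₀} := by
    refine SetLike.lt_iff_le_and_exists.mpr ⟨le_sup_left, a₀, ?_, ha₀⟩
    exact Submodule.mem_sup_right (Submodule.mem_span_singleton_self a₀)
  have h1 := Submodule.finrank_lt_finrank_of_lt hlt
  have h2 : Module.finrank F ↥(K ⊔ Submodule.span F {a₀}) ≤ Module.finrank F L :=
    Submodule.finrank_le _
  have htop : K ⊔ Submodule.span F {a₀} = ⊤ :=
    Submodule.eq_top_of_finrank_eq (by omega)
  intro a
  have ha : a ∈ K ⊔ Submodule.span F {a₀} := by rw [htop]; exact Submodule.mem_top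
  obtain ⟨κ, hκ, y, hy, rfl⟩ := Submodule.mem_sup.mp ha
  obtain ⟨s, rfl⟩ := Submodule.mem_span_singleton.mp hy
  exact ⟨κ, hκ, s, rfl⟩

theorem main (hSep : Sep.{u}) : Rank1.{u} := by
  intro F L _ _ _ _ k c hr2 g hg w v hv hrk1
  obtain ⟨Z, hZ⟩ : ∃ Z, Z = Zsub g w v := ⟨_, rfl⟩
  have hZle : Module.finrank F Z ≤ Module.finrank F L := Submodule.finrank_le Z
  have hrk : rk g w v = Module.finrank F L - Module.finrank F Z := by rw [hZ]; rfl
  have hZ1 : Module.finrank F Z + 1 = Module.finrank F L := by omega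
  have hgg : ∀ y, g (g⁻¹ y) = y := fun y => by
    rw [← LinearEquiv.mul_apply, mul_inv_cancel]; rfl
  have hgg' : ∀ y, g⁻¹ (g y) = y := fun y => by
    rw [← LinearEquiv.mul_apply, inv_mul_cancel]; rfl
  have hw : w ≠ 0 := by
    intro h0
    have : Z = ⊤ := by
      rw [hZ, eq_top_iff]
      intro a _
      exact ⟨0, by rw [h0, smul_zero, map_zero, zero_smul]⟩
    rw [this, finrank_top] at hZ1
    omega
  obtain ⟨P, hP⟩ : ∃ P : L →ₗ[F] V k L, ∀ a, P a = g (a • w) :=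
    ⟨(g : V k L →ₗ[F] V k L) ∘ₗ ((LinearMap.toSpanSingleton L (V k L) w).restrictScalars F),
      fun a => rfl⟩
  obtain ⟨Q, hQ⟩ : ∃ Q : L →ₗ[F] V k L, ∀ a, Q a = a • v :=
    ⟨(LinearMap.toSpanSingleton L (V k L) v).restrictScalars F, fun a => rfl⟩
  have hsmul_inj : ∀ u : V k L, u ≠ 0 → ∀ a b : L, a • u = b • u → a = b := by
    intro u hu a b hab
    by_contra hne
    apply hu
    have h1 : (a - b) • u = 0 := by rw [sub_smul, hab, sub_self]
    exact (smul_eq_zero.mp h1).resolve_left (sub_ne_zero.mpr hne)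
  have hPinj : Function.Injective P := by
    intro a b hab
    rw [hP, hP] at hab
    exact hsmul_inj w hw a b (g.injective hab)
  have hQinj : Function.Injective Q := by
    intro a b hab
    rw [hQ, hQ] at hab
    exact hsmul_inj v hv a b hab
  obtain ⟨K₀, hK₀⟩ : ∃ K₀, K₀ = Submodule.comap Q (LinearMap.range P) := ⟨_, rfl⟩
  have hZcomap : Z = Submodule.comap P (LinearMap.range Q) := by
    rw [hZ]; ext a
    rw [mem_Zsub, Submodule.mem_comap, LinearMap.mem_range]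
    constructor
    · rintro ⟨a', ha'⟩; exact ⟨a', by rw [hQ, hP, ha']⟩
    · rintro ⟨a', ha'⟩; exact ⟨a', by rw [← hP, ← ha', hQ]⟩
  have hdim : Module.finrank F K₀ = Module.finrank F Z := by
    have h1 : Submodule.map P Z = Submodule.map Q K₀ := by
      rw [hZcomap, hK₀, Submodule.map_comap_eq, Submodule.map_comap_eq, inf_comm]
    have h2 := (Submodule.equivMapOfInjective P hPinj Z).finrank_eq
    have h3 := (Submodule.equivMapOfInjective Q hQinj K₀).finrank_eq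
    rw [h3, ← h1, ← h2]
  have hK₀top : K₀ ≠ ⊤ := by
    intro h
    rw [h, finrank_top] at hdim
    omega
  obtain ⟨a₀, ha₀⟩ : ∃ a₀, a₀ ∉ K₀ := by
    by_contra hcon
    push_neg at hcon
    exact hK₀top (eq_top_iff.mpr fun a _ => hcon a)
  have hZtop : Z ≠ ⊤ := by
    intro h; rw [h, finrank_top] at hZ1; omega
  obtain ⟨a₁, ha₁⟩ : ∃ a₁, a₁ ∉ Z := by
    by_contra hcon
    push_neg at hcon
    exact hZtop (eq_top_iff.mpr fun a _ => hcon a)
  have hdecK := decomp K₀ a₀ ha₀ (by omega)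
  have hdecZ := decomp Z a₁ ha₁ hZ1
  have hy₀ : ∀ a : L, g⁻¹ (a₀ • v) ≠ a • w := by
    intro a h
    apply ha₀
    rw [hK₀, Submodule.mem_comap, LinearMap.mem_range]
    refine ⟨a, ?_⟩
    rw [hP, hQ, ← h, hgg]
  obtain ⟨φ, hφw, hφy⟩ := hSep L k w (g⁻¹ (a₀ • v)) hy₀
  obtain ⟨β, hβ⟩ : ∃ β : L →ₗ[F] L, ∀ a, β a = φ (g⁻¹ (a • v)) :=
    ⟨(φ.restrictScalars F) ∘ₗ ((g⁻¹ : V k L ≃ₗ[F] V k L) : V k L →ₗ[F] V k L) ∘ₗ Q,
      fun a => by
        show φ (g⁻¹ (Q a)) = _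
        rw [hQ]⟩
  obtain ⟨i₀, hi₀⟩ : ∃ i₀, i₀ = β a₀ := ⟨_, rfl⟩
  have hi₀0 : i₀ ≠ 0 := by rw [hi₀, hβ]; exact hφy
  have hkerK : ∀ a ∈ K₀, β a = 0 := by
    intro a ha
    rw [hK₀, Submodule.mem_comap, LinearMap.mem_range] at ha
    obtain ⟨a', ha'⟩ := ha
    rw [hP, hQ] at ha'
    rw [hβ, ← ha', hgg', map_smul, hφw, smul_zero]
  -- a left inverse of `s ↦ s • i₀`
  obtain ⟨ℓ, hℓ⟩ : ∃ ℓ : L →ₗ[F] F, ℓ i₀ = 1 := by
    have hinj : LinearMap.ker (LinearMap.toSpanSingleton F L i₀) = ⊥ := by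
      rw [LinearMap.ker_eq_bot]
      intro s t hst
      simp only [LinearMap.toSpanSingleton_apply] at hst
      by_contra hne
      apply hi₀0
      have h1 : (s - t) • i₀ = 0 := by rw [sub_smul, hst, sub_self]
      exact (smul_eq_zero.mp h1).resolve_left (sub_ne_zero.mpr hne)
    obtain ⟨ℓ, hℓ⟩ := LinearMap.exists_leftInverse_of_injective _ hinj
    refine ⟨ℓ, ?_⟩
    have := congrArg (fun f => f (1 : F)) hℓ
    simpa using this
  obtain ⟨b, hb⟩ : ∃ b : L →ₗ[F] F, ∀ a, b a = ℓ (β a) := ⟨ℓ ∘ₗ β, fun a => rfl⟩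
  have hβb : ∀ a, β a = b a • i₀ := by
    intro a
    obtain ⟨κ, hκ, s, rfl⟩ := hdecK a
    rw [hb, map_add, map_smul, hkerK κ hκ, zero_add, ← hi₀, map_smul, hℓ, smul_eq_mul, mul_one]
  have hZbot : Z ≠ ⊥ := by
    intro h; rw [h, finrank_bot] at hZ1; omega
  obtain ⟨z₀, hz₀Z, hz₀⟩ := (Submodule.ne_bot_iff Z).mp hZbot
  obtain ⟨e, he⟩ : ∃ e : L, g (z₀ • w) = e • v := by
    rw [hZ] at hz₀Z; exact (mem_Zsub g w v z₀).mp hz₀Z
  have he0 : e ≠ 0 := by
    intro h0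
    rw [h0, zero_smul] at he
    have h1 : z₀ • w = 0 := by
      have := g.injective (he.trans (map_zero g).symm)
      exact this
    exact hz₀ ((smul_eq_zero.mp h1).resolve_right hw)
  have hbe : b e = 0 := by
    rw [hb, hβ, ← he, hgg', map_smul, hφw, smul_zero, map_zero]
  have hb0 : b ≠ 0 := by
    intro h0
    have h1 : b a₀ = 1 := by rw [hb, ← hi₀, hℓ]
    rw [h0, LinearMap.zero_apply] at h1
    exact zero_ne_one h1
  refine ⟨e, b, g (a₁ • w), he0, hb0, hbe, fun f => ?_⟩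
  obtain ⟨a, ha⟩ : ∃ a : L, a = algebraMap F L f * (z₀ / i₀) := ⟨_, rfl⟩
  have h0 : (a • φ) w = 0 := by rw [LinearMap.smul_apply, hφw, smul_zero]
  have hTx : ∀ x : V k L, (g * (LinearEquiv.transvection h0).restrictScalars F * g⁻¹) x =
      x + g ((a * φ (g⁻¹ x)) • w) := by
    intro x
    rw [LinearEquiv.mul_apply, LinearEquiv.mul_apply]
    show g ((LinearEquiv.transvection h0) (g⁻¹ x)) = _
    rw [LinearEquiv.transvection.apply, map_add, hgg, LinearMap.smul_apply, smul_eq_mul]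
  refine ⟨g * (LinearEquiv.transvection h0).restrictScalars F * g⁻¹,
    c.M.mul_mem (c.M.mul_mem hg (mem_tv c (a • φ) w h0)) (c.M.inv_mem hg), fun a' => ?_,
    fun x => ?_⟩
  · rw [hTx, ← hβ, hβb, add_smul]
    congr 1
    have h1 : a * b a' • i₀ = (f * b a') • z₀ := by
      rw [ha, Algebra.smul_def, Algebra.smul_def, map_mul]
      field_simp
    rw [h1, smul_assoc, map_smul, he, ← smul_assoc]
    congr 1
    rw [smul_smul, mul_comm]
  · obtain ⟨ζ, hζ, s, hs⟩ := hdecZ (a * φ (g⁻¹ x))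
    obtain ⟨a'', ha''⟩ : ∃ a'' : L, g (ζ • w) = a'' • v := by
      rw [hZ] at hζ; exact (mem_Zsub g w v ζ).mp hζ
    refine ⟨a'', s, ?_⟩
    rw [hTx, add_sub_cancel_left, hs, add_smul, map_add, ha'', smul_assoc, map_smul]

end Cfsg.Agent.Lib.Helper87.GFRANK1
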