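import Mathlib
import Cfsg.Agent.Lib.Helper40.GFStmt

set_option autoImplicit false

/-!
# S5886 / REDUCE (helper87, second seat): rank reduction
-/

namespace Cfsg.Agent.Lib.Helper87.GFREDUCE

open Cfsg.Agent.Lib.Helper40.GFStmt

universe u

theorem main (hSep : Sep.{u}) (hFL : FL2.{u}) : Reduce.{u} := by
  intro F L _ _ _ _ k c hprime g hg w v hv hs2 hsr
  obtain ⟨Z, hZ⟩ : ∃ Z, Z = Zsub g w v := ⟨_, rfl⟩
  have hZle : Module.finrank F Z ≤ Module.finrank F L := Submodule.finrank_le Z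
  have hrk : rk g w v = Module.finrank F L - Module.finrank F Z := by rw [hZ]; rfl
  have hZ1 : 1 ≤ Module.finrank F Z := by omega
  have hZ2 : Module.finrank F Z + 2 ≤ Module.finrank F L := by omega
  have hgg : ∀ y, g (g⁻¹ y) = y := fun y => by
    rw [← LinearEquiv.mul_apply, mul_inv_cancel]; rfl
  have hgg' : ∀ y, g⁻¹ (g y) = y := fun y => by
    rw [← LinearEquiv.mul_apply, inv_mul_cancel]; rfl
  have hw : w ≠ 0 := by
    intro h0
    have : Z = ⊤ := by
      rw [hZ, eq_top_iff]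
      intro a _
      exact ⟨0, by rw [h0, smul_zero, map_zero, zero_smul]⟩
    rw [this, finrank_top] at hZ2
    omega
  obtain ⟨P, hP⟩ : ∃ P : L →ₗ[F] V k L, ∀ a, P a = g (a • w) :=
    ⟨(g : V k L →ₗ[F] V k L) ∘ₗ ((LinearMap.toSpanSingleton L (V k L) w).restrictScalars F),
      fun a => rfl⟩
  obtain ⟨Q, hQ⟩ : ∃ Q : L →ₗ[F] V k L, ∀ a, Q a = a • v :=
    ⟨(LinearMap.toSpanSingleton L (V k L) v).restrictScalars F, fun a => rfl⟩
  have hsmul_inj : ∀ u : V k L, u ≠ 0 → ∀ a b : L, a • u = b • u → a = b := by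
    intro u hu a b hab
    by_contra hne
    apply hu
    have h1 : (a - b) • u = 0 := by rw [sub_smul, hab, sub_self]
    exact (smul_eq_zero.mp h1).resolve_left (sub_ne_zero.mpr hne)
  have hPinj : Function.Injective P := by
    intro a b hab
    rw [hP, hP] at hab
    exact hsmul_inj w hw a b (g.injective hab)
  have hQinj : Function.Injective Q := by
    intro a b hab
    rw [hQ, hQ] at hab
    exact hsmul_inj v hv a b hab
  obtain ⟨K₀, hK₀⟩ : ∃ K₀, K₀ = Submodule.comap Q (LinearMap.range P) := ⟨_, rfl⟩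
  have hZcomap : Z = Submodule.comap P (LinearMap.range Q) := by
    rw [hZ]; ext a
    rw [mem_Zsub, Submodule.mem_comap, LinearMap.mem_range]
    constructor
    · rintro ⟨a', ha'⟩; exact ⟨a', by rw [hQ, hP, ha']⟩
    · rintro ⟨a', ha'⟩; exact ⟨a', by rw [← hP, ← ha', hQ]⟩
  have hdim : Module.finrank F K₀ = Module.finrank F Z := by
    have h1 : Submodule.map P Z = Submodule.map Q K₀ := by
      rw [hZcomap, hK₀, Submodule.map_comap_eq, Submodule.map_comap_eq, inf_comm]
    have h2 := (Submodule.equivMapOfInjective P hPinj Z).finrank_eq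
    have h3 := (Submodule.equivMapOfInjective Q hQinj K₀).finrank_eq
    rw [h3, ← h1, ← h2]
  have hK₀top : K₀ ≠ ⊤ := by
    intro h
    rw [h, finrank_top] at hdim
    omega
  obtain ⟨a₀, ha₀⟩ : ∃ a₀, a₀ ∉ K₀ := by
    by_contra hcon
    push_neg at hcon
    exact hK₀top (eq_top_iff.mpr fun a _ => hcon a)
  have hy₀ : ∀ a : L, g⁻¹ (a₀ • v) ≠ a • w := by
    intro a h
    apply ha₀
    rw [hK₀, Submodule.mem_comap, LinearMap.mem_range]
    refine ⟨a, ?_⟩
    rw [hP, hQ, ← h, hgg]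
  obtain ⟨φ, hφw, hφy⟩ := hSep L k w (g⁻¹ (a₀ • v)) hy₀
  obtain ⟨β, hβ⟩ : ∃ β : L →ₗ[F] L, ∀ a, β a = φ (g⁻¹ (a • v)) :=
    ⟨(φ.restrictScalars F) ∘ₗ ((g⁻¹ : V k L ≃ₗ[F] V k L) : V k L →ₗ[F] V k L) ∘ₗ Q,
      fun a => by
        show φ (g⁻¹ (Q a)) = _
        rw [hQ]⟩
  have hβ0 : β a₀ ≠ 0 := by rw [hβ]; exact hφy
  have hkerK : K₀ ≤ LinearMap.ker β := by
    intro a ha
    rw [hK₀, Submodule.mem_comap, LinearMap.mem_range] at ha
    obtain ⟨a', ha'⟩ := ha
    rw [hP, hQ] at ha'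
    rw [LinearMap.mem_ker, hβ, ← ha', hgg', map_smul, hφw, smul_zero]
  have hker : Module.finrank F Z ≤ Module.finrank F (LinearMap.ker β) := by
    rw [← hdim]; exact Submodule.finrank_mono hkerK
  have hT : ∀ a : L, ∃ T ∈ c.M, ∀ a' : L, a' ∈ Zsub T v v ↔ a * β a' ∈ Z := by
    intro a
    have h0 : (a • φ) w = 0 := by rw [LinearMap.smul_apply, hφw, smul_zero]
    refine ⟨g * (LinearEquiv.transvection h0).restrictScalars F * g⁻¹,
      c.M.mul_mem (c.M.mul_mem hg (mem_tv c (a • φ) w h0)) (c.M.inv_mem hg), fun a' => ?_⟩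
    have hTa : (g * (LinearEquiv.transvection h0).restrictScalars F * g⁻¹) (a' • v) =
        a' • v + g ((a * β a') • w) := by
      rw [LinearEquiv.mul_apply, LinearEquiv.mul_apply]
      show g ((LinearEquiv.transvection h0) (g⁻¹ (a' • v))) = _
      rw [LinearEquiv.transvection.apply, map_add, hgg, LinearMap.smul_apply, smul_eq_mul, hβ]
    rw [mem_Zsub, hTa, hZ, mem_Zsub]
    constructor
    · rintro ⟨a'', h⟩
      refine ⟨a'' - a', ?_⟩
      rw [sub_smul, ← h]; abel
    · rintro ⟨b, h⟩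
      exact ⟨a' + b, by rw [h, add_smul]⟩
  have hfin : ∀ a : L, (∃ a', a * β a' ∉ Z) →
      (Module.finrank F Z <
        Module.finrank F (Submodule.comap ((LinearMap.mulLeft F a) ∘ₗ β) Z)) →
      ∃ g' ∈ c.M, ∃ w' v' : V k L, v' ≠ 0 ∧ 1 ≤ rk g' w' v' ∧ rk g' w' v' < rk g w v := by
    intro a hnot hlt
    obtain ⟨T, hTM, hTZ⟩ := hT a
    refine ⟨T, hTM, v, v, hv, ?_⟩
    have hZ' : Zsub T v v = Submodule.comap ((LinearMap.mulLeft F a) ∘ₗ β) Z := by
      ext a'
      rw [hTZ, Submodule.mem_comap]; rfl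
    have hrk' : rk T v v = Module.finrank F L - Module.finrank F (Zsub T v v) := rfl
    have hne : Zsub T v v ≠ ⊤ := by
      intro h
      obtain ⟨a', ha'⟩ := hnot
      exact ha' ((hTZ a').mp (h ▸ Submodule.mem_top))
    have hlt' : Module.finrank F (Zsub T v v) < Module.finrank F L :=
      Submodule.finrank_lt hne
    rw [← hZ'] at hlt
    rw [hrk, hrk']
    omega
  have hIpos : 1 ≤ Module.finrank F (LinearMap.range β) := by
    by_contra hcon
    have h0 : Module.finrank F (LinearMap.range β) = 0 := by omega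
    have hbot : LinearMap.range β = ⊥ := Submodule.finrank_eq_zero.mp h0
    apply hβ0
    have : β a₀ ∈ LinearMap.range β := LinearMap.mem_range_self β a₀
    rw [hbot] at this
    exact (Submodule.mem_bot F).mp this
  have hZbot : Z ≠ ⊥ := by
    intro h; rw [h, finrank_bot] at hZ1; omega
  have hZtop : Z ≠ ⊤ := by
    intro h; rw [h, finrank_top] at hZ2; omega
  rcases Nat.lt_or_ge (Module.finrank F (LinearMap.range β)) 2 with hI | hI
  · have hI1 : Module.finrank F (LinearMap.range β) = 1 := by omega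
    have hrn := LinearMap.finrank_range_add_finrank_ker β
    obtain ⟨a₁, ha₁⟩ : ∃ a₁, a₁ ∉ Z := by
      by_contra hcon; push_neg at hcon
      exact hZtop (eq_top_iff.mpr fun a _ => hcon a)
    apply hfin (a₁ / β a₀)
    · exact ⟨a₀, by rw [div_mul_cancel₀ a₁ hβ0]; exact ha₁⟩
    · have hle : LinearMap.ker β ≤
          Submodule.comap ((LinearMap.mulLeft F (a₁ / β a₀)) ∘ₗ β) Z := by
        intro a' ha'
        rw [LinearMap.mem_ker] at ha'
        rw [Submodule.mem_comap, LinearMap.comp_apply, ha', map_zero]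
        exact Z.zero_mem
      have := Submodule.finrank_mono hle
      omega
  · obtain ⟨a, ⟨i, hiI, hi0, hiZ⟩, ⟨i', hi'I, hi'Z⟩⟩ :=
      hFL F L hprime Z (LinearMap.range β) hZbot hZtop hI
    obtain ⟨a₁', rfl⟩ := LinearMap.mem_range.mp hiI
    obtain ⟨a₂', rfl⟩ := LinearMap.mem_range.mp hi'I
    apply hfin a
    · exact ⟨a₂', hi'Z⟩
    · have hle : LinearMap.ker β < Submodule.comap ((LinearMap.mulLeft F a) ∘ₗ β) Z := by
        refine SetLike.lt_iff_le_and_exists.mpr ⟨?_, a₁', ?_, ?_⟩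
        · intro a' ha'
          rw [LinearMap.mem_ker] at ha'
          rw [Submodule.mem_comap, LinearMap.comp_apply, ha', map_zero]
          exact Z.zero_mem
        · rw [Submodule.mem_comap]; exact hiZ
        · rw [LinearMap.mem_ker]; exact hi0
      have := Submodule.finrank_lt_finrank_of_lt hle
      omega

end Cfsg.Agent.Lib.Helper87.GFREDUCE
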