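import Mathlib
import Cfsg.Agent.Lib.Helper40.HPStmt
import Cfsg.Agent.Lib.Helper45.EPStmt
import Cfsg.Agent.Lib.Helper66.OPINVOLP
import Cfsg.Agent.Lib.Helper35.EPSUBTYPE
import Cfsg.Agent.Lib.Helper77.OPTOPNDP

/-!
# S5974 / INVOLH (call by helper40)

An isometry of the plus form with `x * x = 1` (`q` odd) fixes a hyperbolic `m`-space (`m` even,
`2 ≤ m < d`): the space is the orthogonal sum of the two eigenspaces, one of them is nondegenerate
of dimension greater than `m`, it contains a hyperbolic `m`-space (landed SUBTYPE of S5988), and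
every subspace of an eigenspace is invariant.
-/

set_option autoImplicit false

universe u

open scoped Matrix

namespace Cfsg.Agent.Lib.Helper87.HPINVOLH

open Cfsg.Agent.Lib.Helper94.OPStmt (P NP FxP NDegP StabP TopNDP mem_FxP)
open Cfsg.Agent.Lib.Helper45.EPStmt (SubTypeE PlusP)
open Cfsg.Agent.Lib.Helper40.HPStmt (InvolH HypJ hypJ_iff)
open Cfsg.Agent.Lib.Helper66.OPINVOLP (FmP mem_FmP dec)

theorem main_of (hSub : SubTypeE.{u}) (hTop : TopNDP.{u}) : InvolH.{u} := by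
  intro F _ _ hodd d m hd hm2 hmev hmd x hx hx2M
  obtain ⟨hnd₁, hnd₂, hdim⟩ := dec hTop F hodd d x hx hx2M
  have hcase : m < Module.finrank F ↥(FxP (x : Matrix (P d) (P d) F)) ∨
      m < Module.finrank F ↥(FmP (x : Matrix (P d) (P d) F)) := by omega
  rcases hcase with h | h
  · obtain ⟨W, hWU, hfin, hnd, hplus⟩ := (hSub F d m _ hnd₁ hmev h).1
    refine ⟨W, (hypJ_iff d m W).mpr ⟨hfin, hnd, hplus⟩, ?_⟩
    rintro _ ⟨w, hw, rfl⟩
    rw [Matrix.toLin'_apply, (mem_FxP _ w).mp (hWU hw)]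
    exact hw
  · obtain ⟨W, hWU, hfin, hnd, hplus⟩ := (hSub F d m _ hnd₂ hmev h).1
    refine ⟨W, (hypJ_iff d m W).mpr ⟨hfin, hnd, hplus⟩, ?_⟩
    rintro _ ⟨w, hw, rfl⟩
    rw [Matrix.toLin'_apply, (mem_FmP _ w).mp (hWU hw)]
    exact Submodule.neg_mem _ hw

theorem main : InvolH.{u} :=
  main_of Cfsg.Agent.Lib.Helper35.EPSUBTYPE.main Cfsg.Agent.Lib.Helper77.OPTOPNDP.main

end Cfsg.Agent.Lib.Helper87.HPINVOLH
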