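import Mathlib
import Cfsg.Agent.Lib.Helper76.PSolv
import Cfsg.Agent.Lib.Helper76.SylowTools
import Cfsg.Agent.Lib.Helper11.ZJ
import Cfsg.Agent.Lib.Helper2.Focal
import Cfsg.Agent.Lib.Helper87.FSHyp

/-!
# Group-theoretic core of the correspondence between normal subsystems and normal subgroups

`G` is a finite group with Sylow `p`-subgroup `S` and `C_G(O_p(G)) ≤ O_p(G)`, and `T ≤ S` is strongly
closed.  The structure `Data` records what a normal subsystem over `T` provides on the level of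
elements; from it the normal subgroup `H` is built and characterized.
-/

set_option autoImplicit false

open Cfsg
open Cfsg.Agent.Lib.Helper76.PSolv Cfsg.Agent.Lib.Helper76.SylowTools
open Cfsg.Agent.Lib.Helper87.FSHyp

namespace Cfsg.Agent.Lib.Helper87.NSGroup

variable {G : Type*} [Group G]

/-! ### Generic lemmas -/

theorem pow_conj (c h : G) (hz : Commute c (c * h * c⁻¹ * h⁻¹)) (n : ℕ) :
    c ^ n * h * (c ^ n)⁻¹ = (c * h * c⁻¹ * h⁻¹) ^ n * h := by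
  induction n with
  | zero => simp
  | succ n ih =>
    have h1 : c ^ (n + 1) * h * (c ^ (n + 1))⁻¹ = c * (c ^ n * h * (c ^ n)⁻¹) * c⁻¹ := by
      rw [pow_succ']; group
    rw [h1, ih]
    have h2 : c * (c * h * c⁻¹ * h⁻¹) ^ n = (c * h * c⁻¹ * h⁻¹) ^ n * c := (hz.pow_right n).eq
    calc c * ((c * h * c⁻¹ * h⁻¹) ^ n * h) * c⁻¹
        = (c * (c * h * c⁻¹ * h⁻¹) ^ n) * (h * c⁻¹) := by simp only [mul_assoc]
      _ = (c * h * c⁻¹ * h⁻¹) ^ n * c * (h * c⁻¹) := by rw [h2]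
      _ = (c * h * c⁻¹ * h⁻¹) ^ n * ((c * h * c⁻¹ * h⁻¹) * h) := by
          have e : c * (h * c⁻¹) = (c * h * c⁻¹ * h⁻¹) * h := by group
          rw [mul_assoc, e]
      _ = (c * h * c⁻¹ * h⁻¹) ^ (n + 1) * h := by rw [pow_succ]; exact (mul_assoc _ _ _).symm

theorem conj_eq_of_mem_centralizer {T : Subgroup G} {g a : G}
    (h : g⁻¹ * a ∈ Subgroup.centralizer (T : Set G)) :
    ∀ x ∈ T, g * x * g⁻¹ = a * x * a⁻¹ := by
  intro x hx
  have h1 : x * (g⁻¹ * a) = g⁻¹ * a * x := Subgroup.mem_centralizer_iff.mp h x hx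
  calc g * x * g⁻¹ = g * (x * (g⁻¹ * a)) * a⁻¹ := by group
    _ = g * (g⁻¹ * a * x) * a⁻¹ := by rw [h1]
    _ = a * x * a⁻¹ := by group

theorem mem_centralizer_of_conj_eq {T : Subgroup G} {g a : G}
    (h : ∀ x ∈ T, g * x * g⁻¹ = a * x * a⁻¹) : g⁻¹ * a ∈ Subgroup.centralizer (T : Set G) := by
  rw [Subgroup.mem_centralizer_iff]
  intro x hx
  have h1 := h x hx
  calc x * (g⁻¹ * a) = g⁻¹ * (g * x * g⁻¹) * a := by group
    _ = g⁻¹ * (a * x * a⁻¹) * a := by rw [h1]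
    _ = g⁻¹ * a * x := by group

theorem mem_centralizer_iff_conj {T : Subgroup G} {g : G} :
    g ∈ Subgroup.centralizer (T : Set G) ↔ ∀ x ∈ T, g * x * g⁻¹ = x := by
  rw [Subgroup.mem_centralizer_iff]
  constructor
  · intro h x hx
    rw [← h x hx]; group
  · intro h x hx
    have := h x hx
    calc x * g = (g * x * g⁻¹) * g := by rw [this]
      _ = g * x := by group

theorem pow_conj_eq {T : Subgroup G} {a g : G} (ha : ∀ x ∈ T, a * x * a⁻¹ ∈ T)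
    (hag : ∀ x ∈ T, g * x * g⁻¹ = a * x * a⁻¹) (n : ℕ) :
    ∀ x ∈ T, g ^ n * x * (g ^ n)⁻¹ = a ^ n * x * (a ^ n)⁻¹ := by
  induction n with
  | zero => intro x _; simp
  | succ n ih =>
    intro x hx
    calc g ^ (n + 1) * x * (g ^ (n + 1))⁻¹ = g ^ n * (g * x * g⁻¹) * (g ^ n)⁻¹ := by
          rw [pow_succ]; group
      _ = g ^ n * (a * x * a⁻¹) * (g ^ n)⁻¹ := by rw [hag x hx]
      _ = a ^ n * (a * x * a⁻¹) * (a ^ n)⁻¹ := ih _ (ha x hx)
      _ = a ^ (n + 1) * x * (a ^ (n + 1))⁻¹ := by rw [pow_succ]; group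

theorem exists_zpow_decomp (g : G) {m n : ℕ} (h : m.Coprime n) :
    ∃ u v : ℤ, g = (g ^ m) ^ u * (g ^ n) ^ v := by
  refine ⟨Nat.gcdA m n, Nat.gcdB m n, ?_⟩
  have h1 : ((m : ℤ) * Nat.gcdA m n + n * Nat.gcdB m n) = 1 := by
    rw [← Nat.gcd_eq_gcd_ab, h.gcd_eq_one]; rfl
  calc g = g ^ (1 : ℤ) := (zpow_one g).symm
    _ = g ^ ((m : ℤ) * Nat.gcdA m n + n * Nat.gcdB m n) := by rw [h1]
    _ = (g ^ m) ^ (Nat.gcdA m n) * (g ^ n) ^ (Nat.gcdB m n) := by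
        rw [zpow_add, zpow_mul, zpow_mul, zpow_natCast, zpow_natCast]

theorem pow_card_eq_one_of_mem {s : Subgroup G} {x : G} (hx : x ∈ s) : x ^ Nat.card s = 1 :=
  orderOf_dvd_iff_pow_eq_one.mp (Subgroup.orderOf_dvd_natCard s hx)

theorem exists_mul_of_mem_sup_normal {A N : Subgroup G} [N.Normal] {g : G} (hg : g ∈ A ⊔ N) :
    ∃ a ∈ A, ∃ n ∈ N, g = a * n := by
  have h : g ∈ ((A ⊔ N : Subgroup G) : Set G) := hg
  rw [Subgroup.mul_normal] at h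
  obtain ⟨a, ha, n, hn, e⟩ := Set.mem_mul.mp h
  exact ⟨a, ha, n, hn, e.symm⟩

theorem exists_mul_of_mem_normal_sup {A N : Subgroup G} [N.Normal] {g : G} (hg : g ∈ N ⊔ A) :
    ∃ n ∈ N, ∃ a ∈ A, g = n * a := by
  have h : g ∈ ((N ⊔ A : Subgroup G) : Set G) := hg
  rw [Subgroup.normal_mul] at h
  obtain ⟨n, hn, a, ha, e⟩ := Set.mem_mul.mp h
  exact ⟨n, hn, a, ha, e.symm⟩

theorem le_normalizer_of_conj_mem' {H R : Subgroup G}
    (h : ∀ y ∈ H, ∀ r ∈ R, y * r * y⁻¹ ∈ R) : H ≤ Subgroup.normalizer (R : Set G) := by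
  intro y hy
  rw [Subgroup.mem_normalizer_iff]
  intro r
  constructor
  · exact h y hy r
  · intro hr
    have := h y⁻¹ (H.inv_mem hy) _ hr
    have e : y⁻¹ * (y * r * y⁻¹) * y⁻¹⁻¹ = r := by group
    rw [e] at this
    exact this

/-- `Q₀ = T ∩ O_p(G)`. -/
def Q0 (p : ℕ) (T : Subgroup G) : Subgroup G := T ⊓ pCore p G

/-- `C_G(Q₀)`. -/
def C0 (p : ℕ) (T : Subgroup G) : Subgroup G := Subgroup.centralizer ((Q0 p T : Subgroup G) : Set G)

/-- What a normal subsystem over `T` of the fusion system of `G` on `S` gives, on elements. -/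
structure Data (p : ℕ) (S : Sylow p G) (T : Subgroup G) where
  H₀ : Subgroup G
  AT : Subgroup G
  hTS : T ≤ (S : Subgroup G)
  hG : Subgroup.centralizer ((pCore p G : Subgroup G) : Set G) ≤ pCore p G
  sc : ∀ t ∈ T, ∀ g : G, g * t * g⁻¹ ∈ (S : Subgroup G) → g * t * g⁻¹ ∈ T
  H₀_normal : H₀.Normal
  T_le_AT : T ≤ AT
  cent_le_AT : Subgroup.centralizer (T : Set G) ≤ AT
  AT_le_norm : AT ≤ Subgroup.normalizer (T : Set G)
  AT_le_H₀ : AT ≤ H₀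
  cent_le_H₀ : C0 p T ≤ H₀
  pel : ∀ g ∈ AT, ∀ k : ℕ, g ^ (p ^ k) ∈ Subgroup.centralizer (T : Set G) →
    ∃ t ∈ T, t⁻¹ * g ∈ Subgroup.centralizer (T : Set G)
  extn : ∀ g ∈ AT, ∃ g₀ : G, g₀⁻¹ * g ∈ Subgroup.centralizer (T : Set G) ∧
    ∀ c ∈ (S : Subgroup G), c ∈ Subgroup.centralizer (T : Set G) → c⁻¹ * (g₀ * c * g₀⁻¹) ∈ T
  invar : ∀ n ∈ Subgroup.normalizer (T : Set G), ∀ g ∈ AT, n * g * n⁻¹ ∈ AT
  recv : ∀ n ∈ Subgroup.normalizer (T : Set G), n ∈ H₀ → ∃ g ∈ AT, g⁻¹ * n ∈ C0 p T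
  syl : ∀ x ∈ (S : Subgroup G), x ∈ H₀ → ∃ t ∈ T, t⁻¹ * x ∈ C0 p T

namespace Data

variable {p : ℕ} [hp : Fact p.Prime] [Finite G] {S : Sylow p G} {T : Subgroup G}

theorem T_normal_S (d : Data p S T) : (S : Subgroup G) ≤ Subgroup.normalizer (T : Set G) :=
  le_normalizer_of_conj_mem' (fun s hs t ht =>
    d.sc t ht s ((S : Subgroup G).mul_mem ((S : Subgroup G).mul_mem hs (d.hTS ht))
      ((S : Subgroup G).inv_mem hs)))

theorem Q_le_S (S : Sylow p G) : pCore p G ≤ (S : Subgroup G) := pCore_le_sylow S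

theorem Q_normal (p : ℕ) (G : Type*) [Group G] : (pCore p G).Normal := Cfsg.Agent.Lib.Helper11.ZJ.pCore_normal' p G

theorem Q0_le_T : Q0 p T ≤ T := inf_le_left

theorem Q0_le_Q : Q0 p T ≤ pCore p G := inf_le_right

theorem Q0_normal (d : Data p S T) : (Q0 p T).Normal := by
  have hQn : (pCore p G).Normal := Q_normal p G
  refine ⟨fun n hn g => ?_⟩
  have h1 : g * n * g⁻¹ ∈ pCore p G := hQn.conj_mem n hn.2 g
  exact ⟨d.sc n hn.1 g (pCore_le_sylow S h1), h1⟩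

theorem C0_normal (d : Data p S T) : (C0 p T).Normal := by
  haveI := d.Q0_normal
  exact Subgroup.normal_centralizer

theorem centT_le_C0 : Subgroup.centralizer (T : Set G) ≤ C0 p T :=
  Subgroup.centralizer_le (fun _ hx => Q0_le_T hx)

/-- `K`: the elements acting trivially on `O_p(G)/Q₀`. -/
def K (d : Data p S T) : Subgroup G where
  carrier := {g | ∀ q ∈ pCore p G, g * q * g⁻¹ * q⁻¹ ∈ Q0 p T}
  one_mem' := fun q _ => by
    have e : (1 : G) * q * 1⁻¹ * q⁻¹ = 1 := by group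
    rw [e]; exact (Q0 p T).one_mem
  mul_mem' := by
    intro a b ha hb q hq
    have h1 := d.Q0_normal.conj_mem _ (hb q hq) a
    have h2 := ha q hq
    have e : a * b * q * (a * b)⁻¹ * q⁻¹ =
        a * (b * q * b⁻¹ * q⁻¹) * a⁻¹ * (a * q * a⁻¹ * q⁻¹) := by group
    rw [e]; exact (Q0 p T).mul_mem h1 h2
  inv_mem' := by
    intro a ha q hq
    have h1 := d.Q0_normal.conj_mem _ ((Q0 p T).inv_mem (ha q hq)) a⁻¹
    have e : a⁻¹ * q * a⁻¹⁻¹ * q⁻¹ = a⁻¹ * (a * q * a⁻¹ * q⁻¹)⁻¹ * a⁻¹⁻¹ := by group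
    rw [e]; exact h1

theorem mem_K (d : Data p S T) {g : G} : g ∈ d.K ↔ ∀ q ∈ pCore p G, g * q * g⁻¹ * q⁻¹ ∈ Q0 p T := Iff.rfl

theorem K_normal (d : Data p S T) : d.K.Normal := by
  have hQn : (pCore p G).Normal := Q_normal p G
  refine ⟨fun g hg n => ?_⟩
  rw [mem_K]
  intro q hq
  have hq' : n⁻¹ * q * n⁻¹⁻¹ ∈ pCore p G := hQn.conj_mem q hq n⁻¹
  have h1 := d.Q0_normal.conj_mem _ ((d.mem_K.mp hg) _ hq') n
  have e : n * g * n⁻¹ * q * (n * g * n⁻¹)⁻¹ * q⁻¹ =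
      n * (g * (n⁻¹ * q * n⁻¹⁻¹) * g⁻¹ * (n⁻¹ * q * n⁻¹⁻¹)⁻¹) * n⁻¹ := by group
  rw [e]; exact h1

theorem T_le_K (d : Data p S T) : T ≤ d.K := by
  have hQn : (pCore p G).Normal := Q_normal p G
  intro t ht
  rw [mem_K]
  intro q hq
  have hqS : q ∈ (S : Subgroup G) := pCore_le_sylow S hq
  refine ⟨?_, (pCore p G).mul_mem (hQn.conj_mem q hq t) ((pCore p G).inv_mem hq)⟩
  have h1 : q * t⁻¹ * q⁻¹ ∈ T :=
    (Subgroup.mem_normalizer_iff.mp (d.T_normal_S hqS) t⁻¹).mp (T.inv_mem ht)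
  have e : t * q * t⁻¹ * q⁻¹ = t * (q * t⁻¹ * q⁻¹) := by group
  rw [e]; exact T.mul_mem ht h1

/-- `D = K ∩ C_G(Q₀)`. -/
def D (d : Data p S T) : Subgroup G := d.K ⊓ C0 p T

theorem D_normal (d : Data p S T) : d.D.Normal := by
  haveI := d.K_normal
  haveI := d.C0_normal
  exact Subgroup.normal_inf_normal _ _

theorem D_pow (d : Data p S T) (g : G) (hg : g ∈ d.D) :
    g ^ (Nat.card (Q0 p T) * Nat.card (pCore p G)) = 1 := by
  have h1 : g ^ Nat.card (Q0 p T) ∈ Subgroup.centralizer ((pCore p G : Subgroup G) : Set G) := by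
    rw [mem_centralizer_iff_conj]
    intro q hq
    have hz : g * q * g⁻¹ * q⁻¹ ∈ Q0 p T := (d.mem_K.mp hg.1) q hq
    have hc : Commute g (g * q * g⁻¹ * q⁻¹) :=
      (Subgroup.mem_centralizer_iff.mp hg.2 _ hz).symm
    rw [pow_conj g q hc, pow_card_eq_one_of_mem hz, one_mul]
  rw [pow_mul]
  exact pow_card_eq_one_of_mem (d.hG h1)

theorem D_isPGroup (d : Data p S T) : IsPGroup p d.D := by
  have hQp : IsPGroup p (pCore p G) := pCore_isPGroup p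
  obtain ⟨a, ha⟩ := (hQp.to_le (Q0_le_Q (T := T))).exists_card_eq
  obtain ⟨b, hb⟩ := hQp.exists_card_eq
  intro g
  refine ⟨a + b, ?_⟩
  apply Subtype.ext
  have := d.D_pow g g.2
  rw [ha, hb, ← pow_add] at this
  simpa using this

theorem D_le_Q (d : Data p S T) : d.D ≤ pCore p G := le_pCore d.D_normal d.D_isPGroup

/-- `H* = K ∩ H₀`. -/
def Hs (d : Data p S T) : Subgroup G := d.K ⊓ d.H₀

theorem Hs_normal (d : Data p S T) : d.Hs.Normal := by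
  haveI := d.K_normal
  haveI := d.H₀_normal
  exact Subgroup.normal_inf_normal _ _

theorem T_le_Hs (d : Data p S T) : T ≤ d.Hs := le_inf d.T_le_K (d.T_le_AT.trans d.AT_le_H₀)

theorem D_le_Hs (d : Data p S T) : d.D ≤ d.Hs := fun _ hx => ⟨hx.1, d.cent_le_H₀ hx.2⟩

theorem sylow_decomp (d : Data p S T) (x : G) (hxS : x ∈ (S : Subgroup G)) (hx : x ∈ d.Hs) :
    ∃ t ∈ T, t⁻¹ * x ∈ d.D := by
  obtain ⟨t, ht, htx⟩ := d.syl x hxS hx.2
  exact ⟨t, ht, d.K.mul_mem (d.K.inv_mem (d.T_le_K ht)) hx.1, htx⟩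


/-- Step 5: a `p'`-automorphism in `Aut_E(T)` is induced by an element of `K`. -/
theorem key5 (d : Data p S T) (a : G) (ha : a ∈ d.AT) (m : ℕ) (hm : m.Coprime p)
    (ham : a ^ m ∈ Subgroup.centralizer (T : Set G)) :
    ∃ k ∈ d.K, k⁻¹ * a ∈ Subgroup.centralizer (T : Set G) := by
  obtain ⟨g₀, hg₀a, hext⟩ := d.extn a ha
  have hg₀AT : g₀ ∈ d.AT := by
    have e : g₀ = a * (g₀⁻¹ * a)⁻¹ := by group
    rw [e]; exact d.AT.mul_mem ha (d.AT.inv_mem (d.cent_le_AT hg₀a))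
  have hg₀N : g₀ ∈ Subgroup.normalizer (T : Set G) := d.AT_le_norm hg₀AT
  have hQn : (pCore p G).Normal := Q_normal p G
  have hQp : IsPGroup p (pCore p G) := pCore_isPGroup p
  obtain ⟨j, hj⟩ := hQp.exists_card_eq
  -- Claim A
  have hA : ∀ t ∈ T, ∀ c ∈ (S : Subgroup G), c ∈ Subgroup.centralizer (T : Set G) →
      g₀ * (t * c) * g₀⁻¹ * (t * c)⁻¹ ∈ T := by
    intro t ht c hcS hcC
    have h1 : g₀ * t * g₀⁻¹ ∈ T := (Subgroup.mem_normalizer_iff.mp hg₀N t).mp ht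
    have h2 : c⁻¹ * (g₀ * c * g₀⁻¹) ∈ T := hext c hcS hcC
    have h3 : c * (c⁻¹ * (g₀ * c * g₀⁻¹)) * c⁻¹ ∈ T :=
      (Subgroup.mem_normalizer_iff.mp (d.T_normal_S hcS) _).mp h2
    have e : g₀ * (t * c) * g₀⁻¹ * (t * c)⁻¹ =
        (g₀ * t * g₀⁻¹) * (c * (c⁻¹ * (g₀ * c * g₀⁻¹)) * c⁻¹) * t⁻¹ := by group
    rw [e]; exact T.mul_mem (T.mul_mem h1 h3) (T.inv_mem ht)
  -- Claim B
  have hB : ∀ q ∈ pCore p G,
      g₀ * (g₀ * q * g₀⁻¹ * q⁻¹) * g₀⁻¹ * (g₀ * q * g₀⁻¹ * q⁻¹)⁻¹ ∈ Q0 p T := by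
    intro q hq
    obtain ⟨u, hu⟩ : ∃ u, u = g₀ * q * g₀⁻¹ * q⁻¹ := ⟨_, rfl⟩
    rw [← hu]
    have huQ : u ∈ pCore p G := by
      rw [hu]; exact (pCore p G).mul_mem (hQn.conj_mem q hq g₀) ((pCore p G).inv_mem hq)
    have huAT : u ∈ d.AT := by
      have e : u = g₀ * (q * g₀⁻¹ * q⁻¹) := by rw [hu]; group
      rw [e]
      exact d.AT.mul_mem hg₀AT
        (d.invar q (d.T_normal_S (pCore_le_sylow S hq)) _ (d.AT.inv_mem hg₀AT))
    have hupow : u ^ (p ^ j) = 1 := by rw [← hj]; exact pow_card_eq_one_of_mem huQ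
    obtain ⟨t, ht, htu⟩ := d.pel u huAT j (by rw [hupow]; exact Subgroup.one_mem _)
    have huS : u ∈ (S : Subgroup G) := pCore_le_sylow S huQ
    have hcS : t⁻¹ * u ∈ (S : Subgroup G) :=
      (S : Subgroup G).mul_mem ((S : Subgroup G).inv_mem (d.hTS ht)) huS
    have h1 := hA t ht (t⁻¹ * u) hcS htu
    have e : t * (t⁻¹ * u) = u := by group
    rw [e] at h1
    exact ⟨h1, (pCore p G).mul_mem (hQn.conj_mem u huQ g₀) ((pCore p G).inv_mem huQ)⟩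
  -- Claim C
  have hC : g₀ ^ (p ^ j) ∈ d.K := by
    rw [mem_K]
    intro q hq
    haveI := d.Q0_normal
    have huQ : g₀ * q * g₀⁻¹ * q⁻¹ ∈ pCore p G :=
      (pCore p G).mul_mem (hQn.conj_mem q hq g₀) ((pCore p G).inv_mem hq)
    have hcomm : Commute (QuotientGroup.mk' (Q0 p T) g₀)
        (QuotientGroup.mk' (Q0 p T) g₀ * QuotientGroup.mk' (Q0 p T) q *
          (QuotientGroup.mk' (Q0 p T) g₀)⁻¹ * (QuotientGroup.mk' (Q0 p T) q)⁻¹) := by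
      have h1 : QuotientGroup.mk' (Q0 p T)
          (g₀ * (g₀ * q * g₀⁻¹ * q⁻¹) * g₀⁻¹ * (g₀ * q * g₀⁻¹ * q⁻¹)⁻¹) = 1 :=
        (QuotientGroup.eq_one_iff _).mpr (hB q hq)
      simp only [map_mul, map_inv] at h1
      show _ * _ = _ * _
      obtain ⟨x, hx⟩ : ∃ x, x = QuotientGroup.mk' (Q0 p T) g₀ := ⟨_, rfl⟩
      obtain ⟨y, hy⟩ : ∃ y, y = QuotientGroup.mk' (Q0 p T) q := ⟨_, rfl⟩
      rw [← hx, ← hy] at h1 ⊢
      calc x * (x * y * x⁻¹ * y⁻¹)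
          = (x * (x * y * x⁻¹ * y⁻¹) * x⁻¹ * (x * y * x⁻¹ * y⁻¹)⁻¹) * ((x * y * x⁻¹ * y⁻¹) * x) := by
            group
        _ = (x * y * x⁻¹ * y⁻¹) * x := by rw [h1, one_mul]
    have h1 := pow_conj _ _ hcomm (p ^ j)
    have h2 : (QuotientGroup.mk' (Q0 p T) g₀ * QuotientGroup.mk' (Q0 p T) q *
          (QuotientGroup.mk' (Q0 p T) g₀)⁻¹ * (QuotientGroup.mk' (Q0 p T) q)⁻¹) ^ (p ^ j) = 1 := by
      rw [← map_inv, ← map_inv, ← map_mul, ← map_mul, ← map_mul, ← map_pow, ← hj,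
        pow_card_eq_one_of_mem huQ, map_one]
    rw [h2, one_mul] at h1
    apply (QuotientGroup.eq_one_iff (N := Q0 p T) _).mp
    have h3 : (QuotientGroup.mk' (Q0 p T)) (g₀ ^ p ^ j * q * (g₀ ^ p ^ j)⁻¹ * q⁻¹) = 1 := by
      rw [map_mul, map_mul, map_mul, map_inv, map_inv, map_pow, h1, mul_inv_cancel]
    exact h3
  have hg₀m : g₀ ^ m ∈ Subgroup.centralizer (T : Set G) := by
    rw [mem_centralizer_iff_conj]
    intro x hx
    have haN : ∀ x ∈ T, a * x * a⁻¹ ∈ T := fun x hx =>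
      (Subgroup.mem_normalizer_iff.mp (d.AT_le_norm ha) x).mp hx
    rw [pow_conj_eq haN (conj_eq_of_mem_centralizer hg₀a) m x hx]
    exact mem_centralizer_iff_conj.mp ham x hx
  obtain ⟨u, v, huv⟩ := exists_zpow_decomp g₀ (Nat.Coprime.pow_left j hm.symm : (p ^ j).Coprime m)
  obtain ⟨A, hA'⟩ : ∃ A, A = (g₀ ^ p ^ j) ^ u := ⟨_, rfl⟩
  obtain ⟨B, hB'⟩ : ∃ B, B = (g₀ ^ m) ^ v := ⟨_, rfl⟩
  rw [← hA', ← hB'] at huv
  refine ⟨A, by rw [hA']; exact d.K.zpow_mem hC u, ?_⟩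
  have e : A⁻¹ * a = B * (g₀⁻¹ * a) := by
    have h1 : A⁻¹ * g₀ = B := by rw [huv]; group
    rw [← h1]; group
  rw [e]
  exact Subgroup.mul_mem _ (by rw [hB']; exact Subgroup.zpow_mem _ hg₀m v) hg₀a

theorem AT_le (d : Data p S T) : d.AT ≤ d.Hs ⊔ C0 p T := by
  intro g hg
  have hCT : Subgroup.centralizer (T : Set G) ≤ C0 p T := centT_le_C0
  obtain ⟨k, m, hm, hkm⟩ :=
    Nat.exists_eq_pow_mul_and_not_dvd (orderOf_pos g).ne' p hp.out.ne_one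
  have hmc : m.Coprime p := ((Nat.Prime.coprime_iff_not_dvd hp.out).mpr hm).symm
  have ha : g ^ (p ^ k) ∈ d.Hs ⊔ C0 p T := by
    have h1 : (g ^ (p ^ k)) ^ m = 1 := by rw [← pow_mul, ← hkm, pow_orderOf_eq_one]
    obtain ⟨x, hxK, hx⟩ := d.key5 _ (d.AT.pow_mem hg _) m hmc
      (by rw [h1]; exact Subgroup.one_mem _)
    have hxH₀ : x ∈ d.H₀ := by
      have e : x = g ^ (p ^ k) * (x⁻¹ * g ^ (p ^ k))⁻¹ := by group
      rw [e]
      exact d.H₀.mul_mem (d.AT_le_H₀ (d.AT.pow_mem hg _)) (d.H₀.inv_mem (d.cent_le_H₀ (hCT hx)))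
    have e : g ^ (p ^ k) = x * (x⁻¹ * g ^ (p ^ k)) := by group
    rw [e]
    exact Subgroup.mul_mem _ (Subgroup.mem_sup_left ⟨hxK, hxH₀⟩) (Subgroup.mem_sup_right (hCT hx))
  have hb : g ^ m ∈ d.Hs ⊔ C0 p T := by
    have h1 : (g ^ m) ^ (p ^ k) = 1 := by rw [← pow_mul, mul_comm, ← hkm, pow_orderOf_eq_one]
    obtain ⟨t, ht, htg⟩ := d.pel _ (d.AT.pow_mem hg _) k (by rw [h1]; exact Subgroup.one_mem _)
    have e : g ^ m = t * (t⁻¹ * g ^ m) := by group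
    rw [e]
    exact Subgroup.mul_mem _ (Subgroup.mem_sup_left (d.T_le_Hs ht)) (Subgroup.mem_sup_right (hCT htg))
  obtain ⟨u, v, huv⟩ := exists_zpow_decomp g (Nat.Coprime.pow_left k hmc.symm : (p ^ k).Coprime m)
  rw [huv]
  exact Subgroup.mul_mem _ (Subgroup.zpow_mem _ ha u) (Subgroup.zpow_mem _ hb v)

theorem exists_sylow_normal (S : Sylow p G) (M : Subgroup G) [M.Normal] :
    ∃ P : Sylow p M, (P : Subgroup M) = ((S : Subgroup G) ⊓ M).subgroupOf M := by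
  have h := isSylowIn_inf_normal S M
  exact ⟨(h.2.1.comap_subtype (K := M)).toSylow h.2.2, rfl⟩

theorem map_subgroupOf_inf (S M : Subgroup G) :
    ((S ⊓ M).subgroupOf M).map M.subtype = S ⊓ M := by
  rw [Subgroup.map_subgroupOf_eq_of_le inf_le_right]

theorem H₀_le (d : Data p S T) : d.H₀ ≤ d.Hs ⊔ C0 p T := by
  intro g hg
  haveI := d.Hs_normal
  obtain ⟨P, hP⟩ := exists_sylow_normal S d.Hs
  have hfr := Sylow.normalizer_sup_eq_top P
  rw [hP, map_subgroupOf_inf] at hfr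
  have hg' : g ∈ Subgroup.normalizer ((((S : Subgroup G) ⊓ d.Hs : Subgroup G)) : Set G) ⊔ d.Hs := by
    rw [hfr]; exact Subgroup.mem_top g
  obtain ⟨n, hn, h, hh, rfl⟩ := exists_mul_of_mem_sup_normal hg'
  have hnH₀ : n ∈ d.H₀ := by
    have e : n = n * h * h⁻¹ := by group
    rw [e]; exact d.H₀.mul_mem hg (d.H₀.inv_mem hh.2)
  have hnT : Subgroup.normalizer ((((S : Subgroup G) ⊓ d.Hs : Subgroup G)) : Set G) ≤
      Subgroup.normalizer (T : Set G) := by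
    apply le_normalizer_of_conj_mem'
    intro y hy t ht
    have h1 : y * t * y⁻¹ ∈ (S : Subgroup G) ⊓ d.Hs :=
      (Subgroup.mem_normalizer_iff.mp hy t).mp ⟨d.hTS ht, d.T_le_Hs ht⟩
    exact d.sc t ht y h1.1
  obtain ⟨g', hg'AT, hg'n⟩ := d.recv n (hnT hn) hnH₀
  have e : n * h = g' * (g'⁻¹ * n) * h := by group
  rw [e]
  exact Subgroup.mul_mem _ (Subgroup.mul_mem _ (d.AT_le hg'AT) (Subgroup.mem_sup_right hg'n))
    (Subgroup.mem_sup_left hh)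

/-- `O = O^p(H*)`. -/
def O (d : Data p S T) : Subgroup G := (pResidual p d.Hs).map d.Hs.subtype

/-- The normal subgroup `H = O^p(H*) T`. -/
def H (d : Data p S T) : Subgroup G := d.O ⊔ T

theorem O_le_Hs (d : Data p S T) : d.O ≤ d.Hs := by
  rintro _ ⟨y, -, rfl⟩
  exact y.2

theorem O_normal (d : Data p S T) : d.O.Normal := by
  haveI := d.Hs_normal
  refine ⟨fun x hx g => ?_⟩
  obtain ⟨y, hy, rfl⟩ := hx
  exact ⟨MulAut.conjNormal g y,
    map_mem_pResidual p (MulAut.conjNormal g : MulAut d.Hs).toMonoidHom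
      (MulAut.conjNormal g : MulAut d.Hs).injective hy, rfl⟩

theorem Hs_decomp (d : Data p S T) (y : G) (hy : y ∈ d.Hs) :
    ∃ o ∈ d.O, ∃ x ∈ (S : Subgroup G) ⊓ d.Hs, y = o * x := by
  haveI := d.Hs_normal
  obtain ⟨P, hP⟩ := exists_sylow_normal S d.Hs
  obtain ⟨n, hn, r, hr, e⟩ := exists_mul_pResidual_sylow P ⟨y, hy⟩
  have hr' : r ∈ ((S : Subgroup G) ⊓ d.Hs).subgroupOf d.Hs := by rw [← hP]; exact hr
  exact ⟨n, ⟨n, hn, rfl⟩, r, hr', congrArg Subtype.val e⟩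

theorem H_le_Hs (d : Data p S T) : d.H ≤ d.Hs := sup_le d.O_le_Hs d.T_le_Hs

theorem H_normal (d : Data p S T) : d.H.Normal := by
  haveI := d.Hs_normal
  obtain ⟨P, hP⟩ := exists_sylow_normal S d.Hs
  have hfr := Sylow.normalizer_sup_eq_top P
  rw [hP, map_subgroupOf_inf] at hfr
  have hconj : ∀ y : G, (∀ t ∈ T, y * t * y⁻¹ ∈ d.H) → ∀ r ∈ d.H, y * r * y⁻¹ ∈ d.H := by
    intro y hy r hr
    have h1 : d.H ≤ d.H.comap (MulAut.conj y).toMonoidHom := by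
      apply sup_le
      · intro o ho
        exact Subgroup.mem_sup_left (d.O_normal.conj_mem o ho y)
      · intro t ht
        exact hy t ht
    exact h1 hr
  have h1 : Subgroup.normalizer ((((S : Subgroup G) ⊓ d.Hs : Subgroup G)) : Set G) ≤
      Subgroup.normalizer (d.H : Set G) := by
    apply le_normalizer_of_conj_mem'
    intro y hy r hr
    apply hconj y _ r hr
    intro t ht
    apply Subgroup.mem_sup_right
    apply d.sc t ht
    have h2 : y * t * y⁻¹ ∈ (S : Subgroup G) ⊓ d.Hs :=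
      (Subgroup.mem_normalizer_iff.mp hy t).mp ⟨d.hTS ht, d.T_le_Hs ht⟩
    exact h2.1
  have h2 : d.Hs ≤ Subgroup.normalizer (d.H : Set G) := by
    apply le_normalizer_of_conj_mem'
    intro y hy r hr
    apply hconj y _ r hr
    intro t ht
    obtain ⟨o, ho, x, hx, rfl⟩ := d.Hs_decomp y hy
    have hxt : x * t * x⁻¹ ∈ T := (Subgroup.mem_normalizer_iff.mp (d.T_normal_S hx.1) t).mp ht
    have e : o * x * t * (o * x)⁻¹ = o * (x * t * x⁻¹) * o⁻¹ := by group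
    rw [e]
    exact Subgroup.mul_mem _ (Subgroup.mul_mem _ (Subgroup.mem_sup_left ho)
      (Subgroup.mem_sup_right hxt)) (Subgroup.inv_mem _ (Subgroup.mem_sup_left ho))
  have h3 : (⊤ : Subgroup G) ≤ Subgroup.normalizer (d.H : Set G) := by
    rw [← hfr]; exact sup_le h1 h2
  exact Subgroup.normalizer_eq_top_iff.mp (top_le_iff.mp h3)

theorem focal_mem (d : Data p S T) (x : G) (hxS : x ∈ (S : Subgroup G)) (hx : x ∈ d.Hs)
    (u : G) (hu : u ∈ d.Hs) (hw : x * u * x⁻¹ * u⁻¹ ∈ (S : Subgroup G)) :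
    x * u * x⁻¹ * u⁻¹ ∈ T := by
  obtain ⟨t, ht, htx⟩ := d.sylow_decomp x hxS hx
  have hz : (t⁻¹ * x) * u * (t⁻¹ * x)⁻¹ * u⁻¹ ∈ Q0 p T := by
    have h1 := (d.mem_K.mp hu.1) (t⁻¹ * x) (d.D_le_Q htx)
    have e : (t⁻¹ * x) * u * (t⁻¹ * x)⁻¹ * u⁻¹ = (u * (t⁻¹ * x) * u⁻¹ * (t⁻¹ * x)⁻¹)⁻¹ := by group
    rw [e]; exact (Q0 p T).inv_mem h1
  have hz' : t * ((t⁻¹ * x) * u * (t⁻¹ * x)⁻¹ * u⁻¹) * t⁻¹ ∈ T :=
    T.mul_mem (T.mul_mem ht (Q0_le_T hz)) (T.inv_mem ht)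
  have h2 : t * u * t⁻¹ * u⁻¹ ∈ (S : Subgroup G) := by
    have e : t * u * t⁻¹ * u⁻¹ =
        (t * ((t⁻¹ * x) * u * (t⁻¹ * x)⁻¹ * u⁻¹) * t⁻¹)⁻¹ * (x * u * x⁻¹ * u⁻¹) := by group
    rw [e]
    exact (S : Subgroup G).mul_mem ((S : Subgroup G).inv_mem (d.hTS hz')) hw
  have h3 : u * t⁻¹ * u⁻¹ ∈ T := by
    apply d.sc t⁻¹ (T.inv_mem ht) u
    have e : u * t⁻¹ * u⁻¹ = t⁻¹ * (t * u * t⁻¹ * u⁻¹) := by group
    rw [e]
    exact (S : Subgroup G).mul_mem ((S : Subgroup G).inv_mem (d.hTS ht)) h2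
  have e : x * u * x⁻¹ * u⁻¹ =
      (t * ((t⁻¹ * x) * u * (t⁻¹ * x)⁻¹ * u⁻¹) * t⁻¹) * (t * (u * t⁻¹ * u⁻¹)) := by group
  rw [e]
  exact T.mul_mem hz' (T.mul_mem ht h3)

theorem O_inf_S_le (d : Data p S T) : d.O ⊓ (S : Subgroup G) ≤ T := by
  rintro _ ⟨⟨y, hy, rfl⟩, hyS⟩
  haveI := d.Hs_normal
  obtain ⟨P, hP⟩ := exists_sylow_normal S d.Hs
  have h1 : y ∈ (P : Subgroup d.Hs) ⊓ pResidual p d.Hs := by
    refine ⟨?_, hy⟩
    rw [hP]
    exact ⟨hyS, y.2⟩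
  have h2 := Cfsg.Agent.Lib.Helper2.Focal.inf_pResidual_le_focal P h1
  have h3 : (P : Subgroup d.Hs).focalSubgroup ≤ T.subgroupOf d.Hs := by
    rw [Subgroup.focalSubgroup_def, Subgroup.closure_le]
    rintro g ⟨hgP, x, hx, u, rfl⟩
    rw [hP] at hgP hx
    have hgP' : (x : G) * (u : G) * (x : G)⁻¹ * (u : G)⁻¹ ∈ (S : Subgroup G) := hgP.1
    exact d.focal_mem x hx.1 x.2 u u.2 hgP'
  exact h3 h2

theorem H_inf_S (d : Data p S T) : d.H ⊓ (S : Subgroup G) ≤ T := by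
  rintro x ⟨hxH, hxS⟩
  haveI := d.O_normal
  obtain ⟨o, ho, t, ht, rfl⟩ := exists_mul_of_mem_normal_sup (N := d.O) (A := T) hxH
  have hoS : o ∈ (S : Subgroup G) := by
    have e : o = o * t * t⁻¹ := by group
    rw [e]; exact (S : Subgroup G).mul_mem hxS ((S : Subgroup G).inv_mem (d.hTS ht))
  exact T.mul_mem (d.O_inf_S_le ⟨ho, hoS⟩) ht

theorem H_le_H₀ (d : Data p S T) : d.H ≤ d.H₀ := d.H_le_Hs.trans inf_le_right

theorem T_le_H (d : Data p S T) : T ≤ d.H := le_sup_right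

theorem H₀_le_H (d : Data p S T) : d.H₀ ≤ d.H ⊔ C0 p T := by
  refine d.H₀_le.trans (sup_le ?_ le_sup_right)
  intro y hy
  obtain ⟨o, ho, x, hx, rfl⟩ := d.Hs_decomp y hy
  obtain ⟨t, ht, htx⟩ := d.sylow_decomp x hx.1 hx.2
  have e : o * x = o * t * (t⁻¹ * x) := by group
  rw [e]
  exact Subgroup.mul_mem _ (Subgroup.mem_sup_left (Subgroup.mul_mem _ (Subgroup.mem_sup_left ho)
    (Subgroup.mem_sup_right ht))) (Subgroup.mem_sup_right htx.2)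

theorem H_inf_C0 (d : Data p S T) : d.H ⊓ C0 p T ≤ Q0 p T := by
  rintro x ⟨hxH, hxC⟩
  have hxD : x ∈ d.D := ⟨(d.H_le_Hs hxH).1, hxC⟩
  have hxQ : x ∈ pCore p G := d.D_le_Q hxD
  exact ⟨d.H_inf_S ⟨hxH, pCore_le_sylow S hxQ⟩, hxQ⟩

theorem pow_mem_centralizer_H (d : Data p S T) (c : G) (hc : c ∈ C0 p T) :
    c ^ Nat.card (Q0 p T) ∈ Subgroup.centralizer (d.H : Set G) := by
  rw [mem_centralizer_iff_conj]
  intro h hh
  have hHn := d.H_normal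
  have hCn := d.C0_normal
  have hz : c * h * c⁻¹ * h⁻¹ ∈ Q0 p T := by
    apply d.H_inf_C0
    refine ⟨d.H.mul_mem (hHn.conj_mem h hh c) (d.H.inv_mem hh), ?_⟩
    have e : c * h * c⁻¹ * h⁻¹ = c * (h * c⁻¹ * h⁻¹) := by group
    rw [e]
    exact (C0 p T).mul_mem hc (hCn.conj_mem _ ((C0 p T).inv_mem hc) h)
  have hcomm : Commute c (c * h * c⁻¹ * h⁻¹) := (Subgroup.mem_centralizer_iff.mp hc _ hz).symm
  rw [pow_conj c h hcomm, pow_card_eq_one_of_mem hz, one_mul]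

theorem unique (d : Data p S T) (H' : Subgroup G) (hn : H'.Normal) (hT : T ≤ H')
    (hS : H' ⊓ (S : Subgroup G) ≤ T) (h0 : H' ≤ d.H₀) (h1 : d.H₀ ≤ H' ⊔ C0 p T) :
    H' = d.H := by
  have hQn : (pCore p G).Normal := Q_normal p G
  have hK : H' ≤ d.K := by
    intro h hh
    rw [mem_K]
    intro q hq
    have a1 : h * q * h⁻¹ * q⁻¹ ∈ H' := by
      have e : h * q * h⁻¹ * q⁻¹ = h * (q * h⁻¹ * q⁻¹) := by group
      rw [e]; exact H'.mul_mem hh (hn.conj_mem h⁻¹ (H'.inv_mem hh) q)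
    have a2 : h * q * h⁻¹ * q⁻¹ ∈ pCore p G :=
      (pCore p G).mul_mem (hQn.conj_mem q hq h) ((pCore p G).inv_mem hq)
    exact ⟨hS ⟨a1, pCore_le_sylow S a2⟩, a2⟩
  have hHs : H' ≤ d.Hs := fun h hh => ⟨hK hh, h0 hh⟩
  apply le_antisymm
  · intro y hy
    haveI := hn
    obtain ⟨P', hP'⟩ := exists_sylow_normal S H'
    obtain ⟨n, hn', r, hr, e⟩ := exists_mul_pResidual_sylow P' ⟨y, hy⟩
    have hn2 := map_mem_pResidual p (Subgroup.inclusion hHs) (Subgroup.inclusion_injective hHs) hn'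
    have hr' : r ∈ ((S : Subgroup G) ⊓ H').subgroupOf H' := by rw [← hP']; exact hr
    have e' : y = (n : G) * (r : G) := congrArg Subtype.val e
    rw [e']
    exact Subgroup.mul_mem _ (Subgroup.mem_sup_left ⟨_, hn2, rfl⟩)
      (Subgroup.mem_sup_right (hS ⟨r.2, hr'.1⟩))
  · apply sup_le _ hT
    rintro _ ⟨y, hy, rfl⟩
    have h2 : pResidual p d.Hs ≤ H'.subgroupOf d.Hs := by
      unfold pResidual
      rw [Subgroup.closure_le]
      intro x hx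
      have hx' : Nat.Coprime (orderOf (x : G)) p := by
        rw [Subgroup.orderOf_coe]; exact hx
      show (x : G) ∈ H'
      haveI := hn
      have hx0 : (x : G) ∈ H' ⊔ C0 p T := h1 x.2.2
      obtain ⟨h', hh', c, hc, e⟩ := exists_mul_of_mem_normal_sup (N := H') (A := C0 p T) hx0
      have hcD : c ∈ d.D := by
        have e2 : c = h'⁻¹ * (x : G) := by rw [e]; group
        refine ⟨?_, hc⟩
        rw [e2]; exact d.K.mul_mem (d.K.inv_mem (hK hh')) x.2.1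
      obtain ⟨k, hk⟩ := d.D_isPGroup ⟨c, hcD⟩
      have hck : c ^ (p ^ k) = 1 := by
        have := congrArg Subtype.val hk
        simpa using this
      have hxk : (x : G) ^ (p ^ k) ∈ H' := by
        apply (QuotientGroup.eq_one_iff (N := H') _).mp
        have h3 : (QuotientGroup.mk' H') ((x : G) ^ p ^ k) = 1 := by
          have h4 : (QuotientGroup.mk' H') h' = 1 := (QuotientGroup.eq_one_iff _).mpr hh'
          rw [map_pow, e, map_mul, h4, one_mul, ← map_pow, hck, map_one]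
        exact h3
      obtain ⟨m, hm⟩ := exists_pow_eq_self_of_coprime
        (Nat.Coprime.pow_left k hx'.symm : (p ^ k).Coprime (orderOf (x : G)))
      rw [← hm]
      exact H'.pow_mem hxk m
    exact h2 hy

end Data

end Cfsg.Agent.Lib.Helper87.NSGroup
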