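import Mathlib
import Cfsg.Prelude.Def_FusionSystem
import Cfsg.Agent.Lib.Helper87.FSBasic
import Cfsg.Agent.Lib.Helper87.FSSat
import Cfsg.Agent.Lib.Helper87.FSLocal
import Cfsg.Agent.Lib.Helper87.FSAlperin
import Cfsg.Agent.Lib.Helper87.FSHyp
import Cfsg.Agent.Lib.Helper87.FSImage
import Cfsg.Agent.Lib.Helper87.NSGroup

/-!
# Normal subsystems of the fusion system of a group of characteristic `p`: the fusion side

Element-level calculus for a subsystem `E` over `T` of the fusion system of `G` on `S`, and the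
construction of the group-theoretic `Data` from a normal subsystem.
-/

set_option autoImplicit false

open Cfsg
open Cfsg.Agent.Lib.Helper87.FSBasic
open Cfsg.Agent.Lib.Helper87.FSSat
open Cfsg.Agent.Lib.Helper87.FSLocal
open Cfsg.Agent.Lib.Helper87.FSAlperin
open Cfsg.Agent.Lib.Helper87.FSHyp
open Cfsg.Agent.Lib.Helper87.NSGroup
open Cfsg.Agent.Lib.Helper76.PSolv

namespace Cfsg.Agent.Lib.Helper87.NSFus

variable {G : Type*} [Group G] {T : Subgroup G}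

/-- The elements of the ambient group inducing a map of `E` on `P`. -/
def EE (E : FusionSystem T) (P : Subgroup G) : Set G := {g | conjHom P g ∈ E.Hom P}

theorem EE_congr (E : FusionSystem T) {P : Subgroup G} {g g' : G} (hg : g ∈ EE E P)
    (h : ∀ x ∈ P, g' * x * g'⁻¹ = g * x * g⁻¹) : g' ∈ EE E P :=
  mem_of_eq E hg (fun x => h x x.2)

theorem EE_le (E : FusionSystem T) {P : Subgroup G} {g : G} (hg : g ∈ EE E P) : P ≤ T :=
  dom_le E hg

theorem EE_map (E : FusionSystem T) {P : Subgroup G} {g : G} (hg : g ∈ EE E P) {x : G}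
    (hx : x ∈ P) : g * x * g⁻¹ ∈ T :=
  map_mem E hg ⟨x, hx⟩

theorem EE_conj (E : FusionSystem T) {P : Subgroup G} (hP : P ≤ T) {t : G} (ht : t ∈ T) :
    t ∈ EE E P :=
  E.conj_mem hP ht

theorem EE_mono (E : FusionSystem T) {P R : Subgroup G} {g : G} (hg : g ∈ EE E P) (hR : R ≤ P) :
    g ∈ EE E R :=
  mem_of_eq E (restrict_mem E hg hR) (fun _ => rfl)

theorem EE_mul (E : FusionSystem T) {P P' : Subgroup G} {g g' : G} (hg : g ∈ EE E P)
    (h : ∀ x ∈ P, g * x * g⁻¹ ∈ P') (hg' : g' ∈ EE E P') : g' * g ∈ EE E P :=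
  comp_mem_of_eq E hg hg' (fun x => h x x.2) (fun x => by
    show g' * g * (x : G) * (g' * g)⁻¹ = g' * (g * (x : G) * g⁻¹) * g'⁻¹
    group)

theorem EE_inv (E : FusionSystem T) {P P' : Subgroup G} {g : G} (hg : g ∈ EE E P)
    (h : ∀ y ∈ P', g⁻¹ * y * g ∈ P) : g⁻¹ ∈ EE E P' := by
  obtain ⟨ψ, hψ, -, h1, -, -⟩ := exists_inv E hg
  have hle : P' ≤ (conjHom P g).range := by
    intro y hy
    refine ⟨⟨g⁻¹ * y * g, h y hy⟩, ?_⟩
    show g * (g⁻¹ * y * g) * g⁻¹ = y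
    group
  refine mem_of_eq E (restrict_mem E hψ hle) (fun y => ?_)
  have h2 := h1 ⟨g⁻¹ * y * g, h y y.2⟩
  have h3 : (⟨conjHom P g ⟨g⁻¹ * y * g, h y y.2⟩, ⟨⟨g⁻¹ * y * g, h y y.2⟩, rfl⟩⟩ : (conjHom P g).range)
      = Subgroup.inclusion hle y := by
    apply Subtype.ext
    show g * (g⁻¹ * (y : G) * g) * g⁻¹ = y
    group
  rw [h3] at h2
  show g⁻¹ * (y : G) * g⁻¹⁻¹ = ψ (Subgroup.inclusion hle y)
  rw [h2, inv_inv]

theorem EE_exists {S : Subgroup G} (E : FusionSystem T)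
    (hsub : E.IsSubsystemOf (groupFusionSystem S)) {P : Subgroup G} {φ : P →* G}
    (hφ : φ ∈ E.Hom P) : ∃ g ∈ EE E P, ∀ x : P, φ x = g * (x : G) * g⁻¹ := by
  obtain ⟨-, -, g, hg⟩ := hsub P hφ
  exact ⟨g, mem_of_eq E hφ (fun x => (hg x).symm), hg⟩

theorem conj_inv_mem_of_normalizer {R : Subgroup G} {n : G}
    (hn : n ∈ Subgroup.normalizer (R : Set G)) {y : G} (hy : y ∈ R) : n⁻¹ * y * n ∈ R := by
  have := (Subgroup.mem_normalizer_iff.mp (Subgroup.inv_mem _ hn) y).mp hy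
  rwa [inv_inv] at this

theorem mem_autGroup_of_conj {S : Subgroup G} {R : Subgroup G} (hR : R ≤ S) {n : G}
    (hn : n ∈ Subgroup.normalizer (R : Set G)) :
    R.normalizerMonoidHom ⟨n, hn⟩ ∈ (groupFusionSystem S).autGroup R :=
  (mem_autGroup_iff _ hR _).2 ⟨hR, fun x => hR (R.normalizerMonoidHom ⟨n, hn⟩ x).2, n, fun _ => rfl⟩

theorem EE_invariant {S : Subgroup G} (E : FusionSystem T)
    (hinv : E.IsInvariantIn (groupFusionSystem S)) {P : Subgroup G} {g n : G}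
    (hg : g ∈ EE E P) (hn : n ∈ Subgroup.normalizer (T : Set G)) {P' : Subgroup G}
    (hP' : ∀ y ∈ P', n⁻¹ * y * n ∈ P) : n * g * n⁻¹ ∈ EE E P' := by
  have hTS : T ≤ S := hinv.2.1.1
  have hPT : P ≤ T := EE_le E hg
  obtain ⟨χ, hχ, hχe⟩ := hinv.2.2.1 P hPT (conjHom P g) hg (T.normalizerMonoidHom ⟨n, hn⟩)
    (mem_autGroup_of_conj hTS hn)
  have hmem : ∀ y ∈ P', y ∈ (P.subgroupOf T).map
      (T.subtype.comp (T.normalizerMonoidHom ⟨n, hn⟩).toMonoidHom) := by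
    intro y hy
    refine ⟨⟨n⁻¹ * y * n, hPT (hP' y hy)⟩, hP' y hy, ?_⟩
    show n * (n⁻¹ * y * n) * n⁻¹ = y
    group
  refine mem_of_eq E (restrict_mem E hχ hmem) (fun y => ?_)
  have hαx : ((T.normalizerMonoidHom ⟨n, hn⟩ ⟨n⁻¹ * y * n, hPT (hP' y y.2)⟩ : T) : G) ∈
      (P.subgroupOf T).map (T.subtype.comp (T.normalizerMonoidHom ⟨n, hn⟩).toMonoidHom) :=
    ⟨⟨n⁻¹ * y * n, hPT (hP' y y.2)⟩, hP' y y.2, rfl⟩
  have h2 := hχe ⟨n⁻¹ * y * n, hP' y y.2⟩ (EE_map E hg (hP' y y.2)) hαx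
  have h3 : (⟨((T.normalizerMonoidHom ⟨n, hn⟩ ⟨n⁻¹ * y * n, hPT (hP' y y.2)⟩ : T) : G), hαx⟩ :
      ((P.subgroupOf T).map (T.subtype.comp (T.normalizerMonoidHom ⟨n, hn⟩).toMonoidHom) :
        Subgroup G)) = Subgroup.inclusion hmem y := by
    apply Subtype.ext
    show n * (n⁻¹ * (y : G) * n) * n⁻¹ = y
    group
  rw [h3] at h2
  show n * g * n⁻¹ * (y : G) * (n * g * n⁻¹)⁻¹ = χ (Subgroup.inclusion hmem y)
  rw [h2]
  show n * g * n⁻¹ * (y : G) * (n * g * n⁻¹)⁻¹ = n * (g * (n⁻¹ * (y : G) * n) * g⁻¹) * n⁻¹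
  group

theorem EE_frattini {S : Subgroup G} (E : FusionSystem T)
    (hinv : E.IsInvariantIn (groupFusionSystem S)) {P : Subgroup G} (hP : P ≤ T) {g : G}
    (hg : ∀ x ∈ P, g * x * g⁻¹ ∈ S) :
    ∃ n ∈ Subgroup.normalizer (T : Set G), n⁻¹ * g ∈ EE E P := by
  have hTS : T ≤ S := hinv.2.1.1
  have hφ : conjHom P g ∈ (groupFusionSystem S).Hom P :=
    ⟨hP.trans hTS, fun x => hg x x.2, g, fun _ => rfl⟩
  obtain ⟨α, hα, φ₀, hφ₀, h⟩ := hinv.2.2.2 P hP (conjHom P g) hφ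
  obtain ⟨-, -, n, hn⟩ := autGroup_hom _ hTS hα
  have hnN : n ∈ Subgroup.normalizer (T : Set G) := mem_normalizer_of_induces hn
  obtain ⟨g', hg'E, hg'⟩ := EE_exists E hinv.1 hφ₀
  refine ⟨n, hnN, EE_congr E hg'E (fun x hx => ?_)⟩
  have hx' : φ₀ ⟨x, hx⟩ ∈ T := map_mem E hφ₀ ⟨x, hx⟩
  have h1 := h ⟨x, hx⟩ hx'
  have h2 : ((α ⟨φ₀ ⟨x, hx⟩, hx'⟩ : T) : G) = n * φ₀ ⟨x, hx⟩ * n⁻¹ := hn ⟨φ₀ ⟨x, hx⟩, hx'⟩
  rw [h2, hg' ⟨x, hx⟩] at h1
  have h3 : g * x * g⁻¹ = n * (g' * x * g'⁻¹) * n⁻¹ := h1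
  calc n⁻¹ * g * x * (n⁻¹ * g)⁻¹ = n⁻¹ * (g * x * g⁻¹) * n := by group
    _ = n⁻¹ * (n * (g' * x * g'⁻¹) * n⁻¹) * n := by rw [h3]
    _ = g' * x * g'⁻¹ := by group

/-- Strong closure on elements. -/
theorem sc_elt {S : Subgroup G} (hsc : (groupFusionSystem S).StronglyClosed T) (t : G)
    (ht : t ∈ T) (g : G) (hg : g * t * g⁻¹ ∈ S) : g * t * g⁻¹ ∈ T := by
  have hR : Subgroup.zpowers t ≤ T := by
    rw [Subgroup.zpowers_le]; exact ht
  have hφ : conjHom (Subgroup.zpowers t) g ∈ (groupFusionSystem S).Hom (Subgroup.zpowers t) := by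
    refine ⟨hR.trans hsc.1, ?_, g, fun _ => rfl⟩
    rintro ⟨x, k, rfl⟩
    show g * t ^ k * g⁻¹ ∈ S
    have e : g * t ^ k * g⁻¹ = (g * t * g⁻¹) ^ k := (conj_zpow).symm
    rw [e]
    exact S.zpow_mem hg k
  exact hsc.2 _ hR _ hφ ⟨t, Subgroup.mem_zpowers t⟩

/-- The subgroup of elements inducing an `E`-automorphism of the normal subgroup `Q`. -/
def H0sub (E : FusionSystem T) (Q : Subgroup G) (hQ : Q.Normal) (hQT : Q ≤ T) : Subgroup G where
  carrier := EE E Q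
  one_mem' := EE_conj E hQT T.one_mem
  mul_mem' := fun {a b} ha hb => EE_mul E hb (fun x hx => hQ.conj_mem x hx b) ha
  inv_mem' := fun {a} ha => EE_inv E ha (fun y hy => by
    have := hQ.conj_mem y hy a⁻¹
    rwa [inv_inv] at this)

theorem EE_T_normalizer [Finite T] (E : FusionSystem T) {g : G} (hg : g ∈ EE E T) :
    g ∈ Subgroup.normalizer (T : Set G) :=
  Cfsg.Agent.Lib.Helper87.FSImage.mem_normalizer_of_forall_conj_mem T g (fun _ hx => EE_map E hg hx)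

/-- The subgroup of elements inducing an `E`-automorphism of `T`. -/
def ATsub [Finite T] (E : FusionSystem T) : Subgroup G where
  carrier := EE E T
  one_mem' := EE_conj E le_rfl T.one_mem
  mul_mem' := fun {a b} ha hb => EE_mul E hb (fun x hx => EE_map E hb hx) ha
  inv_mem' := fun {a} ha => EE_inv E ha (fun y hy =>
    conj_inv_mem_of_normalizer (EE_T_normalizer E ha) hy)

theorem range_conj_normal {N : Subgroup G} (hN : N.Normal) {φ : N →* G} {g : G}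
    (h : ∀ x : N, φ x = g * (x : G) * g⁻¹) : φ.range = N := by
  ext y
  constructor
  · rintro ⟨x, rfl⟩
    rw [h]; exact hN.conj_mem x x.2 g
  · intro hy
    refine ⟨⟨g⁻¹ * y * g, ?_⟩, ?_⟩
    · have := hN.conj_mem y hy g⁻¹
      rwa [inv_inv] at this
    · rw [h]
      show g * (g⁻¹ * y * g) * g⁻¹ = y
      group

theorem autInducedBy_mono {A B : Subgroup G} (h : A ≤ B) (P : Subgroup G) :
    autInducedBy A P ≤ autInducedBy B P :=
  Subgroup.closure_mono (fun _ ⟨g, hg, hx⟩ => ⟨g, h hg, hx⟩)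

theorem pow_aut_conj {Y : Subgroup G} {γ : MulAut Y} {g : G}
    (h : ∀ x : Y, ((γ x : Y) : G) = g * (x : G) * g⁻¹) (n : ℕ) :
    ∀ x : Y, (((γ ^ n) x : Y) : G) = g ^ n * (x : G) * (g ^ n)⁻¹ := by
  induction n with
  | zero => intro x; simp
  | succ n ih =>
    intro x
    rw [pow_succ, MulAut.mul_apply, ih, h, pow_succ]
    group

theorem pow_mul_decomp {H : Subgroup G} (hH : H.Normal) {h c : G} (hh : h ∈ H) (n : ℕ) :
    ∃ h' ∈ H, (h * c) ^ n = h' * c ^ n := by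
  induction n with
  | zero => exact ⟨1, H.one_mem, by simp⟩
  | succ n ih =>
    obtain ⟨h', hh', e⟩ := ih
    refine ⟨h' * (c ^ n * h * (c ^ n)⁻¹), H.mul_mem hh' (hH.conj_mem h hh _), ?_⟩
    rw [pow_succ, e, pow_succ]
    group


section Main

variable [Finite G] {p : ℕ} [hp : Fact p.Prime] {S : Sylow p G}

theorem Q0_normal_of (hsc : (groupFusionSystem (S : Subgroup G)).StronglyClosed T) :
    (Q0 p T).Normal := by
  have hQn := Data.Q_normal p G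
  refine ⟨fun n hn g => ?_⟩
  have h1 : g * n * g⁻¹ ∈ pCore p G := hQn.conj_mem n hn.2 g
  exact ⟨sc_elt hsc n hn.1 g (pCore_le_sylow S h1), h1⟩

theorem far_normal (E : FusionSystem T)
    (hsub : E.IsSubsystemOf (groupFusionSystem (S : Subgroup G))) (hEsat : E.IsSaturated p)
    {Q : Subgroup G} (hQn : Q.Normal) (hQT : Q ≤ T) :
    E.IsFullyAutomized p Q ∧ E.IsReceptive Q := by
  obtain ⟨ρ, hρ, h1, h2⟩ := exists_far E hEsat hQT
  obtain ⟨g, -, hg⟩ := EE_exists E hsub hρ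
  have hr : ρ.range = Q := range_conj_normal hQn hg
  rw [hr] at h1 h2
  exact ⟨h1, h2⟩

theorem pel_of (E : FusionSystem T) (hEsat : E.IsSaturated p) (g : G) (hg : g ∈ EE E T) (k : ℕ)
    (hk : g ^ (p ^ k) ∈ Subgroup.centralizer (T : Set G)) :
    ∃ t ∈ T, t⁻¹ * g ∈ Subgroup.centralizer (T : Set G) := by
  have hgN := EE_T_normalizer E hg
  obtain ⟨hfa, -⟩ := far_top E hEsat
  obtain ⟨α, hα⟩ : ∃ α, α = T.normalizerMonoidHom ⟨g, hgN⟩ := ⟨_, rfl⟩
  have hαg : ∀ x : T, ((α x : T) : G) = g * (x : G) * g⁻¹ := fun x => by rw [hα]; rfl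
  have hαE : α ∈ E.autGroup T :=
    (mem_autGroup_iff E le_rfl α).2 (mem_of_eq E hg (fun x => hαg x))
  have hαpow : α ^ (p ^ k) = 1 := by
    have h1 := pow_aut_conj hαg (p ^ k)
    apply MulEquiv.ext
    intro x
    apply Subtype.ext
    rw [h1 x]
    exact mem_centralizer_iff_conj.mp hk x x.2
  have hB : IsPGroup p (Subgroup.zpowers α) := by
    obtain ⟨j, -, hj⟩ := (Nat.dvd_prime_pow hp.out).mp (orderOf_dvd_of_pow_eq_one hαpow)
    exact IsPGroup.of_card (n := j) (by rw [Nat.card_zpowers, hj])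
  have hBle : Subgroup.zpowers α ≤ E.autGroup T := by
    rw [Subgroup.zpowers_le]; exact hαE
  obtain ⟨χ, hχ, hconj⟩ := exists_conj_le_autS E hfa _ hB hBle
  have h2 := hconj α (Subgroup.mem_zpowers α)
  obtain ⟨t₀, ht₀, h3⟩ := (mem_autInducedBy_iff _).1 h2
  refine ⟨((χ⁻¹ ⟨t₀, ht₀⟩ : T) : G), (χ⁻¹ ⟨t₀, ht₀⟩ : T).2, ?_⟩
  apply mem_centralizer_of_conj_eq
  intro x hx
  have h4 : (χ * α * χ⁻¹) (χ ⟨x, hx⟩) = ⟨t₀, ht₀⟩ * χ ⟨x, hx⟩ * (⟨t₀, ht₀⟩ : T)⁻¹ :=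
    Subtype.ext (h3 _)
  have h5 : (χ * α * χ⁻¹) (χ ⟨x, hx⟩) = χ (α ⟨x, hx⟩) := by
    simp [MulAut.mul_apply]
  rw [h5] at h4
  have h6 : α ⟨x, hx⟩ = χ⁻¹ ⟨t₀, ht₀⟩ * ⟨x, hx⟩ * (χ⁻¹ ⟨t₀, ht₀⟩)⁻¹ := by
    have h := congrArg (fun y => χ⁻¹ y) h4
    simp only [MulAut.inv_apply_self, map_mul, map_inv] at h
    exact h
  have h7 := congrArg Subtype.val h6
  rw [hαg] at h7
  exact h7.symm

theorem extn_of (E : FusionSystem T) (hTS : T ≤ (S : Subgroup G))
    (hext : ∀ α ∈ E.autGroup T, ∃ β ∈ (groupFusionSystem (S : Subgroup G)).autGroup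
        (T ⊔ FusionSystem.centralizerIn (S : Subgroup G) T),
      (∀ x : T, ((β (Subgroup.inclusion le_sup_left x) :
          ↥(T ⊔ FusionSystem.centralizerIn (S : Subgroup G) T)) : G) = ((α x : T) : G)) ∧
      ∀ c : ↥(T ⊔ FusionSystem.centralizerIn (S : Subgroup G) T),
        (c : G) ∈ FusionSystem.centralizerIn (S : Subgroup G) T →
        (c : G)⁻¹ * ((β c : ↥(T ⊔ FusionSystem.centralizerIn (S : Subgroup G) T)) : G) ∈
          T ⊓ Subgroup.centralizer (T : Set G))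
    (g : G) (hg : g ∈ EE E T) :
    ∃ g₀ : G, g₀⁻¹ * g ∈ Subgroup.centralizer (T : Set G) ∧
      ∀ c ∈ (S : Subgroup G), c ∈ Subgroup.centralizer (T : Set G) →
        c⁻¹ * (g₀ * c * g₀⁻¹) ∈ T := by
  have hgN := EE_T_normalizer E hg
  have hαE : T.normalizerMonoidHom ⟨g, hgN⟩ ∈ E.autGroup T :=
    (mem_autGroup_iff E le_rfl _).2 (mem_of_eq E hg (fun _ => rfl))
  obtain ⟨β, hβ, hβ1, hβ2⟩ := hext _ hαE
  have hX : T ⊔ FusionSystem.centralizerIn (S : Subgroup G) T ≤ (S : Subgroup G) :=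
    sup_le hTS inf_le_left
  obtain ⟨-, -, g₀, hg₀⟩ := autGroup_hom _ hX hβ
  refine ⟨g₀, mem_centralizer_of_conj_eq (fun x hx => ?_), fun c hcS hcC => ?_⟩
  · have h1 : ((β (Subgroup.inclusion le_sup_left (⟨x, hx⟩ : T)) :
        ↥(T ⊔ FusionSystem.centralizerIn (S : Subgroup G) T)) : G) = g * x * g⁻¹ := hβ1 ⟨x, hx⟩
    have h2 : ((β (Subgroup.inclusion le_sup_left (⟨x, hx⟩ : T)) :
        ↥(T ⊔ FusionSystem.centralizerIn (S : Subgroup G) T)) : G) = g₀ * x * g₀⁻¹ :=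
      hg₀ (Subgroup.inclusion le_sup_left ⟨x, hx⟩)
    exact h2.symm.trans h1
  · have hc : c ∈ FusionSystem.centralizerIn (S : Subgroup G) T := ⟨hcS, hcC⟩
    have h1 := (hβ2 ⟨c, Subgroup.mem_sup_right hc⟩ hc).1
    have h2 : ((β ⟨c, Subgroup.mem_sup_right hc⟩ :
        ↥(T ⊔ FusionSystem.centralizerIn (S : Subgroup G) T)) : G) = g₀ * c * g₀⁻¹ :=
      hg₀ ⟨c, Subgroup.mem_sup_right hc⟩
    rw [h2] at h1
    exact h1

theorem recv_of (E : FusionSystem T)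
    (hsub : E.IsSubsystemOf (groupFusionSystem (S : Subgroup G))) {Q : Subgroup G}
    (hQn : Q.Normal) (hrec : E.IsReceptive Q) (n : G)
    (hn : n ∈ Subgroup.normalizer (T : Set G)) (hnE : n ∈ EE E Q) :
    ∃ g ∈ EE E T, g⁻¹ * n ∈ Subgroup.centralizer (Q : Set G) := by
  have hQT : Q ≤ T := hrec.1
  have hrange : (conjHom Q n).range = Q := range_conj_normal hQn (fun _ => rfl)
  obtain ⟨ψ, hψ, hψe⟩ := hrec.2 Q (conjHom Q n) hnE hrange
  have hle : T ≤ FusionSystem.extender T Q (conjHom Q n) := by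
    intro t ht
    apply Subgroup.subset_closure
    refine ⟨ht, ?_, n * t * n⁻¹, (Subgroup.mem_normalizer_iff.mp hn t).mp ht, fun x hx => ?_⟩
    · rw [Subgroup.normalizer_eq_top_iff.mpr hQn]; exact Subgroup.mem_top _
    · show n * (t * (x : G) * t⁻¹) * n⁻¹ = n * t * n⁻¹ * (n * (x : G) * n⁻¹) * (n * t * n⁻¹)⁻¹
      group
  obtain ⟨g', hg'E, hg'⟩ := EE_exists E hsub hψ
  refine ⟨g', EE_mono E hg'E hle, mem_centralizer_of_conj_eq (fun x hx => ?_)⟩
  have h1 := hψe x hx (hle (hQT hx))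
  rw [hg'] at h1
  exact h1

theorem syl_of (E : FusionSystem T) (hTS : T ≤ (S : Subgroup G)) {Q : Subgroup G}
    (hQn : Q.Normal) (hfa : E.IsFullyAutomized p Q) (x : G) (hxS : x ∈ (S : Subgroup G))
    (hxE : x ∈ EE E Q) : ∃ t ∈ T, t⁻¹ * x ∈ Subgroup.centralizer (Q : Set G) := by
  obtain ⟨hQT, R, hR⟩ := hfa
  have hxN : x ∈ Subgroup.normalizer (Q : Set G) := by
    rw [Subgroup.normalizer_eq_top_iff.mpr hQn]; exact Subgroup.mem_top _
  have hαE : Q.normalizerMonoidHom ⟨x, hxN⟩ ∈ E.autGroup Q :=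
    (mem_autGroup_iff E hQT _).2 (mem_of_eq E hxE (fun _ => rfl))
  have hαS : Q.normalizerMonoidHom ⟨x, hxN⟩ ∈ autInducedBy (S : Subgroup G) Q :=
    conj_mem_autInducedBy hxS hxN
  have hB : IsPGroup p ((autInducedBy (S : Subgroup G) Q).subgroupOf (E.autGroup Q)) :=
    (isPGroup_autInducedBy S.isPGroup' Q).comap_subtype
  have hle : (R : Subgroup (E.autGroup Q)) ≤
      (autInducedBy (S : Subgroup G) Q).subgroupOf (E.autGroup Q) := by
    rw [hR]
    intro a ha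
    exact autInducedBy_mono hTS Q ha
  have heq := R.is_maximal' hB hle
  have h1 : (⟨_, hαE⟩ : E.autGroup Q) ∈ (R : Subgroup (E.autGroup Q)) := by
    rw [← heq]; exact hαS
  rw [hR] at h1
  obtain ⟨t, ht, h2⟩ := (mem_autInducedBy_iff _).1 (Subgroup.mem_subgroupOf.mp h1)
  exact ⟨t, ht, mem_centralizer_of_conj_eq (fun y hy => (h2 ⟨y, hy⟩).symm)⟩

theorem H0_normal_of (E : FusionSystem T)
    (hinv : E.IsInvariantIn (groupFusionSystem (S : Subgroup G))) {Q : Subgroup G}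
    (hQn : Q.Normal) (hQT : Q ≤ T) : (H0sub E Q hQn hQT).Normal := by
  have hTS : T ≤ (S : Subgroup G) := hinv.2.1.1
  refine ⟨fun g hg x => ?_⟩
  obtain ⟨n, hn, hnx⟩ := EE_frattini E hinv hQT (g := x)
    (fun y hy => hTS (hQT (hQn.conj_mem y hy x)))
  have hnx' : n⁻¹ * x ∈ H0sub E Q hQn hQT := hnx
  have h1 : (n⁻¹ * x) * g * (n⁻¹ * x)⁻¹ ∈ H0sub E Q hQn hQT :=
    (H0sub E Q hQn hQT).mul_mem ((H0sub E Q hQn hQT).mul_mem hnx' hg)
      ((H0sub E Q hQn hQT).inv_mem hnx')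
  have h2 : n * ((n⁻¹ * x) * g * (n⁻¹ * x)⁻¹) * n⁻¹ ∈ EE E Q :=
    EE_invariant E hinv h1 hn (fun y hy => by
      have := hQn.conj_mem y hy n⁻¹
      rwa [inv_inv] at this)
  have e : x * g * x⁻¹ = n * ((n⁻¹ * x) * g * (n⁻¹ * x)⁻¹) * n⁻¹ := by group
  rw [e]; exact h2

/-- The group-theoretic data of a normal subsystem. -/
noncomputable def mkData
    (hG : Subgroup.centralizer ((pCore p G : Subgroup G) : Set G) ≤ pCore p G)
    (hTS : T ≤ (S : Subgroup G)) (E : FusionSystem T)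
    (hE : E.IsNormalIn (groupFusionSystem (S : Subgroup G)) p) : Data p S T where
  H₀ := H0sub E (Q0 p T) (Q0_normal_of hE.1.2.2.2.1) Data.Q0_le_T
  AT := ATsub E
  hTS := hTS
  hG := hG
  sc := sc_elt hE.1.2.2.2.1
  H₀_normal := H0_normal_of E hE.1.2.2 _ _
  T_le_AT := fun _ ht => EE_conj E le_rfl ht
  cent_le_AT := fun c hc => EE_congr E (EE_conj E le_rfl T.one_mem) (fun x hx => by
    rw [mem_centralizer_iff_conj.mp hc x hx]; group)
  AT_le_norm := fun _ hg => EE_T_normalizer E hg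
  AT_le_H₀ := fun _ hg => EE_mono E hg Data.Q0_le_T
  cent_le_H₀ := fun c hc => EE_congr E (EE_conj E Data.Q0_le_T T.one_mem) (fun x hx => by
    rw [mem_centralizer_iff_conj.mp hc x hx]; group)
  pel := fun g hg k hk => pel_of E hE.1.1 g hg k hk
  extn := fun g hg => extn_of E hTS hE.2 g hg
  invar := fun _ hn _ hg => EE_invariant E hE.1.2.2 hg hn
    (fun _ hy => conj_inv_mem_of_normalizer hn hy)
  recv := fun n hn hnH => recv_of E hE.1.2.2.1 (Q0_normal_of hE.1.2.2.2.1)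
    (far_normal E hE.1.2.2.1 hE.1.1 (Q0_normal_of hE.1.2.2.2.1) Data.Q0_le_T).2 n hn hnH
  syl := fun x hxS hxH => syl_of E hTS (Q0_normal_of hE.1.2.2.2.1)
    (far_normal E hE.1.2.2.1 hE.1.1 (Q0_normal_of hE.1.2.2.2.1) Data.Q0_le_T).1 x hxS hxH


theorem pprime_aut_mem (d : Data p S T) (E : FusionSystem T)
    (hsub : E.IsSubsystemOf (groupFusionSystem (S : Subgroup G)))
    (hH₀ : ∀ g, g ∈ EE E (Q0 p T) → g ∈ d.H₀)
    {Y : Subgroup G} (hY : Y ≤ T) (hQY : Q0 p T ≤ Y) (γ : MulAut Y) (hγE : γ ∈ E.autGroup Y)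
    (hγo : (orderOf γ).Coprime p) : γ ∈ autInducedBy d.H Y := by
  obtain ⟨g, hgE, hg⟩ := EE_exists E hsub (autGroup_hom E hY hγE)
  have hg' : ∀ x : Y, ((γ x : Y) : G) = g * (x : G) * g⁻¹ := hg
  have hgH₀ : g ∈ d.H₀ := hH₀ g (EE_mono E hgE hQY)
  haveI := d.H_normal
  obtain ⟨h, hh, c, hc, e⟩ :=
    exists_mul_of_mem_normal_sup (N := d.H) (A := C0 p T) (d.H₀_le_H hgH₀)
  obtain ⟨h', hh', e'⟩ := pow_mul_decomp d.H_normal (c := c) hh (Nat.card (Q0 p T))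
  have hz := d.pow_mem_centralizer_H c hc
  have hpow : γ ^ Nat.card (Q0 p T) ∈ autInducedBy d.H Y := by
    refine (mem_autInducedBy_iff _).2 ⟨h', hh', fun x => ?_⟩
    rw [pow_aut_conj hg', e, e']
    have hxH : (x : G) ∈ d.H := d.T_le_H (hY x.2)
    have h1 := mem_centralizer_iff_conj.mp hz x hxH
    calc h' * c ^ Nat.card (Q0 p T) * (x : G) * (h' * c ^ Nat.card (Q0 p T))⁻¹
        = h' * (c ^ Nat.card (Q0 p T) * (x : G) * (c ^ Nat.card (Q0 p T))⁻¹) * h'⁻¹ := by group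
      _ = h' * (x : G) * h'⁻¹ := by rw [h1]
  have hQp : IsPGroup p (Q0 p T) := (pCore_isPGroup p).to_le (Data.Q0_le_Q (p := p) (T := T))
  obtain ⟨a, ha⟩ := hQp.exists_card_eq
  obtain ⟨m, hm⟩ := exists_pow_eq_self_of_coprime
    (Nat.Coprime.pow_left a hγo.symm : (p ^ a).Coprime (orderOf γ))
  rw [← hm, ← ha]
  exact Subgroup.pow_mem _ hpow m

/-- The correspondence: a normal subsystem `E` over `T` of the fusion system of a group `G` with
`C_G(O_p(G)) ≤ O_p(G)` is the fusion system of a unique normal subgroup with Sylow subgroup `T`. -/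
theorem main (hG : Subgroup.centralizer ((pCore p G : Subgroup G) : Set G) ≤ pCore p G)
    (hTS : T ≤ (S : Subgroup G)) (E : FusionSystem T)
    (hE : E.IsNormalIn (groupFusionSystem (S : Subgroup G)) p) :
    ∃ H : Subgroup G, (∃ hTH : T ≤ H, H.Normal ∧
        (∃ R : Sylow p H, (R : Subgroup H) = T.subgroupOf H) ∧
        ∀ P : Subgroup G, E.Hom P = (fusionSystemOfSubgroup H T hTH).Hom P) ∧
      ∀ H' : Subgroup G, (∃ hTH' : T ≤ H', H'.Normal ∧
        (∃ R : Sylow p H', (R : Subgroup H') = T.subgroupOf H') ∧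
        ∀ P : Subgroup G, E.Hom P = (fusionSystemOfSubgroup H' T hTH').Hom P) → H' = H := by
  obtain ⟨d, hd⟩ : ∃ d : Data p S T, d = mkData hG hTS E hE := ⟨_, rfl⟩
  have hH₀ : ∀ g, g ∈ d.H₀ ↔ g ∈ EE E (Q0 p T) := by
    rw [hd]; exact fun g => Iff.rfl
  have hsub := hE.1.2.2.1
  have hsc := hE.1.2.2.2.1
  have hEsat := hE.1.1
  have hQn : (Q0 p T).Normal := Q0_normal_of hsc
  have hTp : IsPGroup p T := S.isPGroup'.to_le hTS
  obtain ⟨hfaQ, hrecQ⟩ := far_normal E hsub hEsat hQn Data.Q0_le_T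
  have hHn := d.H_normal
  -- every map of `E` is induced by `H`
  have hsubset : ∀ P : Subgroup G, E.Hom P ⊆ (fusionSystemOfSubgroup d.H T d.T_le_H).Hom P := by
    apply alperin_induction hTp E hEsat
    intro Y hfa hrec IH α hα hr
    have hY : Y ≤ T := hfa.1
    by_cases hQY : Q0 p T ≤ Y
    · have h𝔸 := autOfMap_mem E hα hr
      obtain ⟨n, hn, r, hr', e⟩ := autGroup_decomp E hfa _ h𝔸
      have hres : pResidual p (E.autGroup Y) ≤
          (autInducedBy d.H Y).comap (E.autGroup Y).subtype := by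
        unfold pResidual
        rw [Subgroup.closure_le]
        intro γ hγ
        have hγ' : (orderOf (γ : MulAut Y)).Coprime p := by
          rw [Subgroup.orderOf_coe]; exact hγ
        exact pprime_aut_mem d E hsub (fun g hg => (hH₀ g).2 hg) hY hQY γ γ.2 hγ'
      have hmem : autOfMap α (E.injective_of_mem hα) hr ∈ autInducedBy d.H Y := by
        rw [e]
        exact Subgroup.mul_mem _ (hres hn) (autInducedBy_mono d.T_le_H Y hr')
      obtain ⟨h, hh, hx⟩ := (mem_autInducedBy_iff _).1 hmem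
      exact ⟨hY, fun x => map_mem E hα x, h, hh, fun x => hx x⟩
    · obtain ⟨a, haQ, haN, haY⟩ := exists_mem_normalizer_of_not_le hTp hY
        (Data.Q0_le_T (p := p) (T := T))
        (by rw [Subgroup.normalizer_eq_top_iff.mpr hQn]; exact le_top) hQY
      refine aut_mem_of_normal_pSubgroup E _ hfa hrec IH (autInducedBy (Q0 p T) Y)
        (isPGroup_autInducedBy (hTp.to_le Data.Q0_le_T) Y)
        ((autInducedBy_mono Data.Q0_le_T Y).trans (autInducedBy_le_autGroup E hY)) ?_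
        (Data.Q0_le_T haQ) haN haY (conj_mem_autInducedBy haQ haN) α hα hr
      intro χ hχ β hβ
      obtain ⟨g, -, hg⟩ := EE_exists E hsub (autGroup_hom E hY hχ)
      have hg' : ∀ x : Y, ((χ x : Y) : G) = g * (x : G) * g⁻¹ := hg
      obtain ⟨q, hq, hβq⟩ := (mem_autInducedBy_iff _).1 hβ
      refine (mem_autInducedBy_iff _).2 ⟨g * q * g⁻¹, hQn.conj_mem q hq g, fun x => ?_⟩
      have h1 : ((χ (χ⁻¹ x) : Y) : G) = g * ((χ⁻¹ x : Y) : G) * g⁻¹ := hg' (χ⁻¹ x)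
      rw [MulAut.apply_inv_self] at h1
      have h2 : (((χ * β * χ⁻¹) x : Y) : G) = g * (q * ((χ⁻¹ x : Y) : G) * q⁻¹) * g⁻¹ := by
        rw [MulAut.mul_apply, MulAut.mul_apply, hg', hβq]
      rw [h2]
      have h3 : ((χ⁻¹ x : Y) : G) = g⁻¹ * (x : G) * g := by rw [h1]; group
      rw [h3]; group
  -- every map induced by `H` is a map of `E`
  have hsupset : ∀ P : Subgroup G, (fusionSystemOfSubgroup d.H T d.T_le_H).Hom P ⊆ E.Hom P := by
    rintro P φ ⟨hPT, hφT, h, hh, hφ⟩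
    suffices hhE : h ∈ EE E P from mem_of_eq E hhE hφ
    have hP₁T : P ⊔ Q0 p T ≤ T := sup_le hPT Data.Q0_le_T
    have hconj : ∀ x ∈ P ⊔ Q0 p T, h * x * h⁻¹ ∈ T := by
      have h1 : P ⊔ Q0 p T ≤ T.comap (MulAut.conj h).toMonoidHom := by
        apply sup_le
        · intro x hx
          show h * x * h⁻¹ ∈ T
          rw [← hφ ⟨x, hx⟩]; exact hφT ⟨x, hx⟩
        · intro x hx
          show h * x * h⁻¹ ∈ T
          exact Data.Q0_le_T (hQn.conj_mem x hx h)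
      exact fun x hx => h1 hx
    have hhE₀ : h ∈ EE E (Q0 p T) := (hH₀ h).1 (d.H_le_H₀ hh)
    have hrange : (conjHom (Q0 p T) h).range = Q0 p T := range_conj_normal hQn (fun _ => rfl)
    obtain ⟨ψ, hψ, hψe⟩ := hrecQ.2 _ (conjHom (Q0 p T) h) hhE₀ hrange
    have hle : P ⊔ Q0 p T ≤ FusionSystem.extender T (Q0 p T) (conjHom (Q0 p T) h) := by
      intro g hg
      apply Subgroup.subset_closure
      refine ⟨hP₁T hg, ?_, h * g * h⁻¹, hconj g hg, fun x hx => ?_⟩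
      · rw [Subgroup.normalizer_eq_top_iff.mpr hQn]; exact Subgroup.mem_top _
      · show h * (g * (x : G) * g⁻¹) * h⁻¹ = h * g * h⁻¹ * (h * (x : G) * h⁻¹) * (h * g * h⁻¹)⁻¹
        group
    obtain ⟨g', hg'E, hg'⟩ := EE_exists E hsub hψ
    have hg'P₁ : g' ∈ EE E (P ⊔ Q0 p T) := EE_mono E hg'E hle
    obtain ⟨-, -, h'', hh'', e⟩ := hsubset _ hg'P₁
    have e' : ∀ x ∈ P ⊔ Q0 p T, g' * x * g'⁻¹ = h'' * x * h''⁻¹ := fun x hx => e ⟨x, hx⟩
    have hz : h''⁻¹ * h ∈ Q0 p T := by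
      apply d.H_inf_C0
      refine ⟨d.H.mul_mem (d.H.inv_mem hh'') hh, mem_centralizer_of_conj_eq (fun x hx => ?_)⟩
      have h1 := hψe x hx (hle (Subgroup.mem_sup_right hx))
      rw [hg'] at h1
      rw [← e' x (Subgroup.mem_sup_right hx)]
      exact h1
    have hh''E : h'' ∈ EE E (P ⊔ Q0 p T) := EE_congr E hg'P₁ (fun x hx => (e' x hx).symm)
    have hzE : h''⁻¹ * h ∈ EE E (P ⊔ Q0 p T) := EE_conj E hP₁T (Data.Q0_le_T hz)
    have h3 : h'' * (h''⁻¹ * h) ∈ EE E (P ⊔ Q0 p T) :=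
      EE_mul E hzE (fun x hx => Subgroup.mul_mem _ (Subgroup.mul_mem _ (Subgroup.mem_sup_right hz) hx)
        (Subgroup.inv_mem _ (Subgroup.mem_sup_right hz))) hh''E
    have e3 : h'' * (h''⁻¹ * h) = h := by group
    rw [e3] at h3
    exact EE_mono E h3 le_sup_left
  refine ⟨d.H, ⟨d.T_le_H, hHn, ?_, fun P => Set.Subset.antisymm (hsubset P) (hsupset P)⟩, ?_⟩
  · haveI := hHn
    obtain ⟨R, hR⟩ := Data.exists_sylow_normal S d.H
    refine ⟨R, ?_⟩
    rw [hR]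
    have h1 : (S : Subgroup G) ⊓ d.H = T :=
      le_antisymm (fun x hx => d.H_inf_S ⟨hx.2, hx.1⟩) (le_inf hTS d.T_le_H)
    rw [h1]
  · rintro H' ⟨hTH', hn', ⟨R, hR⟩, heq⟩
    apply d.unique H' hn' hTH'
    · rintro x ⟨hxH, hxS⟩
      have hB : IsPGroup p (((S : Subgroup G) ⊓ H').subgroupOf H') :=
        (S.isPGroup'.to_le inf_le_left).comap_subtype
      have hle : (R : Subgroup H') ≤ ((S : Subgroup G) ⊓ H').subgroupOf H' := by
        rw [hR]
        intro a ha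
        exact ⟨hTS ha, a.2⟩
      have h1 := R.is_maximal' hB hle
      have h2 : (⟨x, hxH⟩ : H') ∈ (R : Subgroup H') := by
        rw [← h1]; exact ⟨hxS, hxH⟩
      rw [hR] at h2
      exact h2
    · intro h hh
      rw [hH₀]
      show conjHom (Q0 p T) h ∈ E.Hom (Q0 p T)
      rw [heq]
      exact ⟨Data.Q0_le_T, fun x => Data.Q0_le_T (hQn.conj_mem x x.2 h), h, hh, fun _ => rfl⟩
    · intro g hg
      have h1 : conjHom (Q0 p T) g ∈ E.Hom (Q0 p T) := (hH₀ g).1 hg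
      rw [heq] at h1
      obtain ⟨-, -, h, hh, hx⟩ := h1
      have h2 : h⁻¹ * g ∈ C0 p T :=
        mem_centralizer_of_conj_eq (fun x hx' => (hx ⟨x, hx'⟩).symm)
      have e : g = h * (h⁻¹ * g) := by group
      rw [e]
      exact Subgroup.mul_mem _ (Subgroup.mem_sup_left hh) (Subgroup.mem_sup_right h2)

end Main

end Cfsg.Agent.Lib.Helper87.NSFus
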