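import Mathlib
import Cfsg.Agent.Lib.Helper92.PGStmt
import Cfsg.Agent.Lib.Helper85.BRLoc

set_option autoImplicit false

/-! Piece [CENT] of S2490: `N/C` for a Sylow subgroup of prime order. -/

namespace Cfsg.Agent.Lib.Helper87.PGCENT

open Cfsg.Agent.Lib.Helper92.PGStmt

universe u

theorem main : Cent.{u} := by
  intro G _ _ p _ P hP
  have hpp : p.Prime := Fact.out
  refine ⟨?_, ?_⟩
  · have h1 := Cfsg.Agent.Lib.Helper85.BRLoc.relIndex_dvd_pred p P hP
    have hCN : Subgroup.centralizer ((P : Subgroup G) : Set G) ≤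
        Subgroup.normalizer ((P : Subgroup G) : Set G) := Subgroup.centralizer_le_normalizer _
    have h2 := Subgroup.relIndex_mul_relIndex ⊥ _ _ bot_le hCN
    rw [Subgroup.relIndex_bot_left, Subgroup.relIndex_bot_left] at h2
    rw [← h2, Nat.mul_comm]
    exact Nat.mul_dvd_mul_right h1 _
  · intro r hr hne hdvd
    have : Fact r.Prime := ⟨hr⟩
    obtain ⟨c, hc⟩ := exists_prime_orderOf_dvd_card' r hdvd
    obtain ⟨x, hx⟩ := exists_prime_orderOf_dvd_card' (G := (P : Subgroup G)) p (by rw [hP])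
    have hcomm : Commute (x : G) (c : G) := by
      have := (Subgroup.mem_centralizer_iff.mp c.2) (x : G) x.2
      exact this
    refine ⟨(x : G) * (c : G), ?_⟩
    rw [hcomm.orderOf_mul_eq_mul_orderOf_of_coprime, Subgroup.orderOf_coe, Subgroup.orderOf_coe,
      hx, hc]
    rw [Subgroup.orderOf_coe, Subgroup.orderOf_coe, hx, hc]
    exact (Nat.coprime_primes hpp hr).mpr (Ne.symm hne)

end Cfsg.Agent.Lib.Helper87.PGCENT
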