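import Mathlib
import Cfsg.Agent.Lib.Helper92.PGStmt

set_option autoImplicit false

/-! Piece [FRAT] of S2490: the Frattini argument in divisibility form. -/

namespace Cfsg.Agent.Lib.Helper87.PGFRAT

open Cfsg.Agent.Lib.Helper92.PGStmt

universe u

theorem main : Frat.{u} := by
  intro G _ _ K hK p _ P hp
  have hpp : p.Prime := Fact.out
  have h1 : K.relIndex (P : Subgroup G) ∣ K.index :=
    Subgroup.relIndex_dvd_index_of_normal K (P : Subgroup G)
  have h2 : K.relIndex (P : Subgroup G) ∣ Nat.card (P : Subgroup G) :=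
    Subgroup.relIndex_dvd_card K (P : Subgroup G)
  obtain ⟨n, hn⟩ := IsPGroup.iff_card.mp P.isPGroup'
  rw [hn] at h2
  obtain ⟨j, -, hj⟩ := (Nat.dvd_prime_pow hpp).mp h2
  have hj0 : j = 0 := by
    by_contra h
    apply hp
    exact (dvd_pow_self p h).trans (hj ▸ h1)
  rw [hj0, pow_zero] at hj
  have hPK : (P : Subgroup G) ≤ K := Subgroup.relIndex_eq_one.mp hj
  have h3 := Sylow.normalizer_sup_eq_top' P hPK
  have h4 : K.index = K.relIndex (Subgroup.normalizer ((P : Subgroup G) : Set G)) := by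
    rw [← Subgroup.relIndex_top_right, ← h3, Subgroup.relIndex_sup_right]
    rfl
  rw [h4]
  exact Subgroup.relIndex_dvd_card _ _

end Cfsg.Agent.Lib.Helper87.PGFRAT
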