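import Mathlib
import Cfsg.Agent.Lib.Helper44.PGStmt
import Cfsg.Agent.Lib.Helper6.BCDetOne

/-!
# S2474, piece OEMB: transport of an isometry of a space of dimension `≤ 2n + 1` into the
isometry group of the standard odd-dimensional form
-/

set_option autoImplicit false

namespace Cfsg.Agent.Lib.Helper87.PGOEMB

open Matrix Polynomial
open Cfsg.Agent.Lib.Helper44.QSpace Cfsg.Agent.Lib.Helper44.OGroup Cfsg.Agent.Lib.Helper44.OMat
open Cfsg.Agent.Lib.Helper44.OExt Cfsg.Agent.Lib.Helper40.RecipPoly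
open Cfsg.Agent.Lib.Helper44.PGStmt

universe u

theorem main : BlockSum.{u} → OSim.{u} → OEmbed.{u} := by
  intro hBS hOS F _ _ h2 n κ _ _ N s hcard hdet hs
  classical
  -- pad with the identity
  obtain ⟨m, hm⟩ : ∃ m : ℕ, m = 2 * n + 1 - Fintype.card κ := ⟨_, rfl⟩
  have hdet1 : ((1 : Matrix (Fin m) (Fin m) F) + (1 : Matrix (Fin m) (Fin m) F)ᵀ).det ≠ 0 := by
    rw [Matrix.transpose_one]
    have h1 : (1 : Matrix (Fin m) (Fin m) F) + 1 = Matrix.diagonal (fun _ => (2 : F)) := by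
      ext i j
      by_cases hij : i = j
      · subst hij
        simp
        norm_num
      · simp [hij]
    rw [h1, Matrix.det_diagonal, Finset.prod_const]
    exact pow_ne_zero _ h2
  have hs1 : ∀ u : Fin m → F, qN (1 : Matrix (Fin m) (Fin m) F)
      ((1 : Matrix (Fin m) (Fin m) F) *ᵥ u) = qN (1 : Matrix (Fin m) (Fin m) F) u := by
    intro u
    rw [Matrix.one_mulVec]
  obtain ⟨hdet', hs', hpow'⟩ := hBS F κ (Fin m) N s 1 1 hdet hdet1 hs hs1
  obtain ⟨N', hN'⟩ : ∃ N' : Matrix (κ ⊕ Fin m) (κ ⊕ Fin m) F,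
      N' = fromBlocks N 0 0 1 := ⟨_, rfl⟩
  obtain ⟨s', hs'def⟩ : ∃ s' : Matrix (κ ⊕ Fin m) (κ ⊕ Fin m) F,
      s' = fromBlocks s 0 0 1 := ⟨_, rfl⟩
  rw [← hN'] at hdet' hs'
  rw [← hs'def] at hs' hpow'
  have hcard' : Fintype.card (κ ⊕ Fin m) = 2 * n + 1 := by
    rw [Fintype.card_sum, Fintype.card_fin, hm]
    omega
  obtain ⟨c, J, hc, hJ⟩ := hOS F h2 n (κ ⊕ Fin m) N' hcard' hdet'
  -- s' is invertible
  have hgram := Cfsg.Agent.Lib.Helper6.BCDetOne.gram_isom N' s' hs'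
  have hs'det : s'.det ≠ 0 := by
    intro h0
    apply hdet'
    rw [← hgram, Matrix.det_mul, Matrix.det_mul, h0, mul_zero]
  have hs'u : IsUnit s'.det := isUnit_iff_ne_zero.2 hs'det
  -- the matrices of J and its inverse
  obtain ⟨A, hA⟩ : ∃ A : Matrix (Unit ⊕ (Fin n ⊕ Fin n)) (κ ⊕ Fin m) F,
      A = LinearMap.toMatrix' (J : ((κ ⊕ Fin m) → F) →ₗ[F] ((Unit ⊕ (Fin n ⊕ Fin n)) → F)) :=
    ⟨_, rfl⟩
  obtain ⟨B, hB⟩ : ∃ B : Matrix (κ ⊕ Fin m) (Unit ⊕ (Fin n ⊕ Fin n)) F,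
      B = LinearMap.toMatrix'
        (J.symm : ((Unit ⊕ (Fin n ⊕ Fin n)) → F) →ₗ[F] ((κ ⊕ Fin m) → F)) := ⟨_, rfl⟩
  have hAB : A * B = 1 := by
    rw [hA, hB, ← LinearMap.toMatrix'_comp]
    have h1 : (J : ((κ ⊕ Fin m) → F) →ₗ[F] ((Unit ⊕ (Fin n ⊕ Fin n)) → F)) ∘ₗ
        (J.symm : ((Unit ⊕ (Fin n ⊕ Fin n)) → F) →ₗ[F] ((κ ⊕ Fin m) → F)) = LinearMap.id := by
      apply LinearMap.ext
      intro v
      simp
    rw [h1, LinearMap.toMatrix'_id]
  have hBA : B * A = 1 := by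
    rw [hA, hB, ← LinearMap.toMatrix'_comp]
    have h1 : (J.symm : ((Unit ⊕ (Fin n ⊕ Fin n)) → F) →ₗ[F] ((κ ⊕ Fin m) → F)) ∘ₗ
        (J : ((κ ⊕ Fin m) → F) →ₗ[F] ((Unit ⊕ (Fin n ⊕ Fin n)) → F)) = LinearMap.id := by
      apply LinearMap.ext
      intro v
      simp
    rw [h1, LinearMap.toMatrix'_id]
  have hAv : ∀ v : (κ ⊕ Fin m) → F, A *ᵥ v = J v := by
    intro v
    rw [hA, LinearMap.toMatrix'_mulVec]
    rfl
  have hBv : ∀ w : (Unit ⊕ (Fin n ⊕ Fin n)) → F, B *ᵥ w = J.symm w := by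
    intro w
    rw [hB, LinearMap.toMatrix'_mulVec]
    rfl
  -- the conjugate
  have hss : s' * s'⁻¹ = 1 := Matrix.mul_nonsing_inv s' hs'u
  have hss' : s'⁻¹ * s' = 1 := Matrix.nonsing_inv_mul s' hs'u
  have hpowc : ∀ j : ℕ, (A * s' * B) ^ j = A * s' ^ j * B := by
    intro j
    induction j with
    | zero => rw [pow_zero, pow_zero, Matrix.mul_one, hAB]
    | succ j ih =>
      rw [pow_succ, ih, pow_succ]
      calc A * s' ^ j * B * (A * s' * B) = A * s' ^ j * (B * A) * s' * B := by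
            simp only [Matrix.mul_assoc]
        _ = A * (s' ^ j * s') * B := by
            rw [hBA, Matrix.mul_one]
            simp only [Matrix.mul_assoc]
  have hone : ∀ X : Matrix (κ ⊕ Fin m) (κ ⊕ Fin m) F, A * X * B = 1 ↔ X = 1 := by
    intro X
    constructor
    · intro h
      calc X = (B * A) * X * (B * A) := by rw [hBA, Matrix.one_mul, Matrix.mul_one]
        _ = B * (A * X * B) * A := by simp only [Matrix.mul_assoc]
        _ = 1 := by rw [h, Matrix.mul_one, hBA]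
    · intro h
      rw [h, Matrix.mul_one, hAB]
  have h12 : (A * s' * B) * (A * s'⁻¹ * B) = 1 := by
    calc (A * s' * B) * (A * s'⁻¹ * B) = A * s' * (B * A) * s'⁻¹ * B := by
          simp only [Matrix.mul_assoc]
      _ = A * (s' * s'⁻¹) * B := by
          rw [hBA, Matrix.mul_one]
          simp only [Matrix.mul_assoc]
      _ = 1 := by rw [hss, Matrix.mul_one, hAB]
  have h21 : (A * s'⁻¹ * B) * (A * s' * B) = 1 := by
    calc (A * s'⁻¹ * B) * (A * s' * B) = A * s'⁻¹ * (B * A) * s' * B := by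
          simp only [Matrix.mul_assoc]
      _ = A * (s'⁻¹ * s') * B := by
          rw [hBA, Matrix.mul_one]
          simp only [Matrix.mul_assoc]
      _ = 1 := by rw [hss', Matrix.mul_one, hAB]
  obtain ⟨g₀, hg₀⟩ : ∃ g₀ : Matrix.GeneralLinearGroup (Unit ⊕ (Fin n ⊕ Fin n)) F,
      (g₀ : Matrix (Unit ⊕ (Fin n ⊕ Fin n)) (Unit ⊕ (Fin n ⊕ Fin n)) F) = A * s' * B :=
    ⟨⟨A * s' * B, A * s'⁻¹ * B, h12, h21⟩, rfl⟩
  have hmem : g₀ ∈ Cfsg.isometryGroup F (Cfsg.quadFormOdd n F) := by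
    intro u v
    show Cfsg.quadFormOdd n F ((g₀ : Matrix _ _ F) *ᵥ u) = Cfsg.quadFormOdd n F u
    rw [hg₀, ← Matrix.mulVec_mulVec, ← Matrix.mulVec_mulVec, hBv, hAv, hJ, hs', ← hJ,
      LinearEquiv.apply_symm_apply]
  refine ⟨⟨g₀, hmem⟩, ?_⟩
  intro j
  have e1 : (⟨g₀, hmem⟩ : ↥(Cfsg.isometryGroup F (Cfsg.quadFormOdd n F))) ^ j = 1 ↔
      (A * s' * B) ^ j = 1 := by
    rw [Subtype.ext_iff, Units.ext_iff, Subgroup.coe_pow, Units.val_pow_eq_pow_val,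
      Subgroup.coe_one, Units.val_one, hg₀]
  rw [e1, hpowc, hone, hpow']
  constructor
  · intro h
    exact h.1
  · intro h
    exact ⟨h, one_pow j⟩

end Cfsg.Agent.Lib.Helper87.PGOEMB
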