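import Mathlib
import Cfsg.Agent.Lib.Helper92.PGStmt

set_option autoImplicit false

/-! Piece [PCLOS] of S2490: the normal closure of an element of order `p` stays inside a
subgroup normalized by a normal subgroup `K` when `p ^ 2` does not divide `|G|`. -/

namespace Cfsg.Agent.Lib.Helper87.PGPCLOS

open Cfsg.Agent.Lib.Helper92.PGStmt

universe u

/-- a Sylow `p`-subgroup containing an element of order `p` has order `p` when `p ^ 2` does not
divide the group order -/
theorem sylow_eq_zpowers {K : Type u} [Group K] [Finite K] (p : ℕ) [Fact p.Prime]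
    (hp2 : ¬ p ^ 2 ∣ Nat.card K) (P : Sylow p K) (x : K) (hx : orderOf x = p)
    (hxP : x ∈ (P : Subgroup K)) : (P : Subgroup K) = Subgroup.zpowers x := by
  have hpp : p.Prime := Fact.out
  obtain ⟨n, hn⟩ := IsPGroup.iff_card.mp P.isPGroup'
  have h1 : p ^ n ∣ Nat.card K := hn ▸ Subgroup.card_subgroup_dvd_card (P : Subgroup K)
  have hn1 : n ≤ 1 := by
    by_contra h
    exact hp2 ((pow_dvd_pow p (by omega : 2 ≤ n)).trans h1)
  have hn0 : n ≠ 0 := by
    rintro rfl
    rw [pow_zero] at hn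
    have h2 := orderOf_dvd_natCard (⟨x, hxP⟩ : (P : Subgroup K))
    rw [Subgroup.orderOf_mk, hx, hn] at h2
    have := Nat.le_of_dvd Nat.one_pos h2
    have := hpp.two_le
    omega
  have hn' : n = 1 := by omega
  rw [hn', pow_one] at hn
  symm
  apply Subgroup.eq_of_le_of_card_ge
  · rw [Subgroup.zpowers_le]; exact hxP
  · rw [Nat.card_zpowers, hx, hn]

theorem main : PClos.{u} := by
  intro G _ _ p hp hp2 K M hK hMK hMn hpM
  have : Fact p.Prime := ⟨hp⟩
  obtain ⟨x', hx'⟩ := exists_prime_orderOf_dvd_card' (G := M) p hpM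
  have hxo : orderOf (x' : G) = p := by rw [Subgroup.orderOf_coe]; exact hx'
  have hxK : (x' : G) ∈ K := hMK x'.2
  have hp2K : ¬ p ^ 2 ∣ Nat.card K := fun h => hp2 (h.trans (Subgroup.card_subgroup_dvd_card K))
  have key : ∀ g : G, g * (x' : G) * g⁻¹ ∈ M := by
    intro g
    obtain ⟨xK, hxK'⟩ : ∃ xK : K, xK = ⟨(x' : G), hxK⟩ := ⟨_, rfl⟩
    obtain ⟨yK, hyK'⟩ : ∃ yK : K, yK = ⟨g * (x' : G) * g⁻¹, hK.conj_mem _ hxK g⟩ := ⟨_, rfl⟩
    have hxKo : orderOf xK = p := by rw [hxK', Subgroup.orderOf_mk]; exact hxo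
    have hyKo : orderOf yK = p := by
      rw [hyK', Subgroup.orderOf_mk]
      have := (MulAut.conj g).orderOf_eq (x' : G)
      rw [MulAut.conj_apply] at this
      rw [this]; exact hxo
    have hpx : IsPGroup p (Subgroup.zpowers xK) :=
      IsPGroup.of_card (n := 1) (by rw [Nat.card_zpowers, hxKo, pow_one])
    have hpy : IsPGroup p (Subgroup.zpowers yK) :=
      IsPGroup.of_card (n := 1) (by rw [Nat.card_zpowers, hyKo, pow_one])
    obtain ⟨P, hP⟩ := hpx.exists_le_sylow
    obtain ⟨Q, hQ⟩ := hpy.exists_le_sylow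
    have hPe := sylow_eq_zpowers p hp2K P xK hxKo (hP (Subgroup.mem_zpowers xK))
    obtain ⟨k, hk⟩ := MulAction.exists_smul_eq K P Q
    have hyQ : yK ∈ ((k • P : Sylow p K) : Subgroup K) := by
      rw [hk]; exact hQ (Subgroup.mem_zpowers yK)
    rw [Sylow.coe_subgroup_smul] at hyQ
    obtain ⟨z, hz, hzy⟩ := hyQ
    have hz' : z ∈ Subgroup.zpowers xK := by
      have : z ∈ (P : Subgroup K) := hz
      rwa [hPe] at this
    obtain ⟨j, hj⟩ := Subgroup.mem_zpowers_iff.mp hz'
    have h1 : g * (x' : G) * g⁻¹ = (k : G) * ((x' : G) ^ j) * (k : G)⁻¹ := by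
      have h2 : (yK : G) = g * (x' : G) * g⁻¹ := by rw [hyK']
      have h3 : (yK : G) = (k : G) * (z : G) * (k : G)⁻¹ := by
        rw [← hzy]; rfl
      have h4 : (z : G) = (x' : G) ^ j := by
        rw [← hj, hxK']; rfl
      rw [← h2, h3, h4]
    rw [h1]
    exact hMn k k.2 _ (M.zpow_mem x'.2 j)
  refine ⟨Subgroup.normalClosure {(x' : G)}, Subgroup.normalClosure_normal, ?_, ?_⟩
  · rw [Subgroup.normalClosure, Subgroup.closure_le]
    intro y hy
    rw [Group.mem_conjugatesOfSet_iff] at hy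
    obtain ⟨a, ha, hconj⟩ := hy
    rw [Set.mem_singleton_iff] at ha
    subst ha
    obtain ⟨g, hg⟩ := isConj_iff.mp hconj
    rw [← hg]
    exact key g
  · have hxL : (x' : G) ∈ Subgroup.normalClosure {(x' : G)} :=
      Subgroup.subset_normalClosure (Set.mem_singleton _)
    have h5 := orderOf_dvd_natCard (⟨(x' : G), hxL⟩ : Subgroup.normalClosure {(x' : G)})
    rw [Subgroup.orderOf_mk, hxo] at h5
    exact h5

end Cfsg.Agent.Lib.Helper87.PGPCLOS
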