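import Mathlib
import Cfsg.Agent.Lib.Helper92.PGStmt

set_option autoImplicit false

/-! Piece [PPRIME] of S2490: a `p'`-subgroup normalized by a normal subgroup `K ≥ M` lies in a
normal `p'`-subgroup inside `K`. -/

namespace Cfsg.Agent.Lib.Helper87.PGPPRIME

open Cfsg.Agent.Lib.Helper92.PGStmt

universe u

/-- if `K ≥ N, L` normalizes `L` then `|N ⊔ L|` divides `|L| * |N|` -/
theorem card_sup_dvd {G : Type u} [Group G] [Finite G] (N L K : Subgroup G) (hN : N ≤ K)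
    (hL : L ≤ K) (hLn : ∀ k ∈ K, ∀ m ∈ L, k * m * k⁻¹ ∈ L) :
    Nat.card (N ⊔ L : Subgroup G) ∣ Nat.card L * Nat.card N := by
  have hLn' : (L.subgroupOf K).Normal := by
    constructor
    intro n hn g
    rw [Subgroup.mem_subgroupOf] at hn ⊢
    exact hLn g g.2 n hn
  have h1 : Nat.card ((N ⊔ L : Subgroup G).subgroupOf K) = Nat.card (N ⊔ L : Subgroup G) :=
    Nat.card_congr (Subgroup.subgroupOfEquivOfLe (sup_le hN hL)).toEquiv
  have h2 : Nat.card (N.subgroupOf K) = Nat.card N :=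
    Nat.card_congr (Subgroup.subgroupOfEquivOfLe hN).toEquiv
  have h3 : Nat.card (L.subgroupOf K) = Nat.card L :=
    Nat.card_congr (Subgroup.subgroupOfEquivOfLe hL).toEquiv
  rw [← h1, Subgroup.subgroupOf_sup hN hL, ← h2, ← h3]
  have h4 := Subgroup.relIndex_mul_relIndex ⊥ (L.subgroupOf K)
    (N.subgroupOf K ⊔ L.subgroupOf K) bot_le le_sup_right
  rw [Subgroup.relIndex_bot_left, Subgroup.relIndex_bot_left, Subgroup.relIndex_sup_right] at h4
  rw [← h4]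
  exact Nat.mul_dvd_mul_left _ (Subgroup.relIndex_dvd_card _ _)

theorem main : PPrime.{u} := by
  intro G _ _ p hp K M hK hMK hMn hpM
  classical
  obtain ⟨F, hF⟩ : ∃ F : Set (Subgroup G), F =
      {N | N ≤ K ∧ (∀ k ∈ K, ∀ n ∈ N, k * n * k⁻¹ ∈ N) ∧ ¬ p ∣ Nat.card N} := ⟨_, rfl⟩
  have hmemF : ∀ N : Subgroup G, N ∈ F ↔
      (N ≤ K ∧ (∀ k ∈ K, ∀ n ∈ N, k * n * k⁻¹ ∈ N) ∧ ¬ p ∣ Nat.card N) := by
    intro N; rw [hF]; rfl
  have hMF : M ∈ F := (hmemF M).mpr ⟨hMK, hMn, hpM⟩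
  have : Nonempty F := ⟨⟨M, hMF⟩⟩
  obtain ⟨⟨L, hLF⟩, hLmax⟩ := Finite.exists_max (fun N : F => Nat.card (N : Subgroup G))
  have hL := (hmemF L).mp hLF
  have hsup : ∀ N ∈ F, N ≤ L := by
    intro N hNF
    have hN := (hmemF N).mp hNF
    have hNL : N ⊔ L ∈ F := by
      refine (hmemF _).mpr ⟨sup_le hN.1 hL.1, ?_, ?_⟩
      · intro k hk x hx
        have h1 : (N ⊔ L).map (MulAut.conj k).toMonoidHom ≤ N ⊔ L := by
          rw [Subgroup.map_sup]
          apply sup_le_sup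
          · rintro _ ⟨n, hn, rfl⟩
            exact hN.2.1 k hk n hn
          · rintro _ ⟨n, hn, rfl⟩
            exact hL.2.1 k hk n hn
        exact h1 ⟨x, hx, rfl⟩
      · intro hdvd
        have h2 := hdvd.trans (card_sup_dvd N L K hN.1 hL.1 hL.2.1)
        rcases (Nat.Prime.dvd_mul hp).mp h2 with h | h
        · exact hL.2.2 h
        · exact hN.2.2 h
    have h3 := hLmax ⟨N ⊔ L, hNL⟩
    have h4 : L = N ⊔ L := Subgroup.eq_of_le_of_card_ge le_sup_right h3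
    rw [h4]; exact le_sup_left
  refine ⟨L, ?_, hsup M hMF, hL.1, hL.2.2⟩
  constructor
  intro n hn g
  have hconj : L.map (MulAut.conj g).toMonoidHom ∈ F := by
    refine (hmemF _).mpr ⟨?_, ?_, ?_⟩
    · rintro _ ⟨x, hx, rfl⟩
      exact hK.conj_mem x (hL.1 hx) g
    · rintro k hk _ ⟨x, hx, rfl⟩
      refine ⟨(g⁻¹ * k * g) * x * (g⁻¹ * k * g)⁻¹, hL.2.1 _ ?_ x hx, ?_⟩
      · have h5 := hK.conj_mem k hk g⁻¹
        rwa [inv_inv] at h5
      · show g * ((g⁻¹ * k * g) * x * (g⁻¹ * k * g)⁻¹) * g⁻¹ = k * (g * x * g⁻¹) * k⁻¹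
        group
    · rw [Subgroup.card_map_of_injective (MulAut.conj g).injective]
      exact hL.2.2
  exact hsup _ hconj ⟨n, hn, rfl⟩

end Cfsg.Agent.Lib.Helper87.PGPPRIME
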