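import Mathlib
import Cfsg.Agent.Lib.Helper92.PGStmt

set_option autoImplicit false

/-! Piece [QUOT] of S2490: the lattice form of simplicity gives a simple quotient group. -/

namespace Cfsg.Agent.Lib.Helper87.PGQUOT

open Cfsg.Agent.Lib.Helper92.PGStmt

universe u

theorem main : Quot.{u} := by
  intro G _ _ H K _ hHK hne hmin
  refine ⟨?_, ?_⟩
  · have hnt : Nontrivial (K ⧸ H.subgroupOf K) := by
      have hnle : ¬ K ≤ H := fun h => hne (le_antisymm hHK h)
      obtain ⟨k, hkK, hkH⟩ := SetLike.not_le_iff_exists.mp hnle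
      refine ⟨⟨QuotientGroup.mk (⟨k, hkK⟩ : K), 1, ?_⟩⟩
      intro h
      rw [QuotientGroup.eq_one_iff] at h
      exact hkH h
    refine { toNontrivial := hnt, eq_bot_or_eq_top_of_normal := ?_ }
    intro N hN
    obtain ⟨M', hM'⟩ : ∃ M' : Subgroup K,
        M' = N.comap (QuotientGroup.mk' (H.subgroupOf K)) := ⟨_, rfl⟩
    have hM'n : M'.Normal := by rw [hM']; exact Subgroup.Normal.comap hN _
    obtain ⟨M, hM⟩ : ∃ M : Subgroup G, M = M'.map K.subtype := ⟨_, rfl⟩
    have hmemM : ∀ k : K, (k : G) ∈ M ↔ k ∈ M' := by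
      intro k
      rw [hM]
      constructor
      · rintro ⟨k', hk', hkk⟩
        have hk'' : k' = k := Subtype.ext hkk
        rwa [← hk'']
      · intro hk
        exact ⟨k, hk, rfl⟩
    have hHM : H ≤ M := by
      intro h hh
      have h1 : (⟨h, hHK hh⟩ : K) ∈ M' := by
        rw [hM', Subgroup.mem_comap]
        have h2 : QuotientGroup.mk' (H.subgroupOf K) (⟨h, hHK hh⟩ : K) = 1 := by
          rw [QuotientGroup.mk'_apply, QuotientGroup.eq_one_iff]; exact hh
        rw [h2]; exact N.one_mem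
      exact (hmemM ⟨h, hHK hh⟩).mpr h1
    have hMK : M ≤ K := by rw [hM]; exact Subgroup.map_subtype_le M'
    have hMn : ∀ k ∈ K, ∀ m ∈ M, k * m * k⁻¹ ∈ M := by
      intro k hk m hm
      have hmK := hMK hm
      have h1 : (⟨m, hmK⟩ : K) ∈ M' := (hmemM ⟨m, hmK⟩).mp hm
      have h2 := hM'n.conj_mem _ h1 ⟨k, hk⟩
      exact (hmemM _).mpr h2
    rcases hmin M hHM hMK hMn with h | h
    · left
      rw [eq_bot_iff]
      intro q hq
      obtain ⟨k, rfl⟩ := QuotientGroup.mk_surjective q
      have hk : k ∈ M' := by rw [hM', Subgroup.mem_comap]; exact hq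
      have hkH : (k : G) ∈ H := by rw [← h]; exact (hmemM k).mpr hk
      rw [Subgroup.mem_bot, QuotientGroup.eq_one_iff]
      exact hkH
    · right
      rw [eq_top_iff]
      intro q _
      obtain ⟨k, rfl⟩ := QuotientGroup.mk_surjective q
      have hkM : (k : G) ∈ M := by rw [h]; exact k.2
      have hk : k ∈ M' := (hmemM k).mp hkM
      rw [hM', Subgroup.mem_comap] at hk
      exact hk
  · have h1 := Subgroup.card_eq_card_quotient_mul_card_subgroup (H.subgroupOf K)
    have h2 : Nat.card (H.subgroupOf K) = Nat.card H :=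
      Nat.card_congr (Subgroup.subgroupOfEquivOfLe hHK).toEquiv
    rw [← h2, ← h1]

end Cfsg.Agent.Lib.Helper87.PGQUOT
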