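import Mathlib
import Cfsg.Agent.Lib.Helper92.PGStmt

set_option autoImplicit false

/-! Piece [STRUCT] of S2490: the chief factor carrying the prime `p` when `p ∥ |G|`. -/

namespace Cfsg.Agent.Lib.Helper87.PGSTRUCT

open Cfsg.Agent.Lib.Helper92.PGStmt

universe u

theorem main : PClos.{u} → PPrime.{u} → Struct.{u} := by
  intro hPC hPP G _ _ p hp hpG hp2
  classical
  obtain ⟨F, hF⟩ : ∃ F : Set (Subgroup G), F = {N : Subgroup G | N.Normal ∧ ¬ p ∣ Nat.card N} := ⟨_, rfl⟩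
  have hmemF : ∀ N : Subgroup G, N ∈ F ↔ (N.Normal ∧ ¬ p ∣ Nat.card N) := by
    intro N; rw [hF]; rfl
  have hbot : (⊥ : Subgroup G) ∈ F := by
    refine (hmemF _).mpr ⟨inferInstance, ?_⟩
    rw [Subgroup.card_bot]
    intro h
    have := Nat.le_of_dvd Nat.one_pos h
    have := hp.two_le
    omega
  have : Nonempty F := ⟨⟨⊥, hbot⟩⟩
  obtain ⟨⟨H, hHF⟩, hHmax⟩ := Finite.exists_max (fun N : F => Nat.card (N : Subgroup G))
  have hH := (hmemF H).mp hHF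
  have hHn : H.Normal := hH.1
  have hsup : ∀ N : Subgroup G, N.Normal → ¬ p ∣ Nat.card N → N ≤ H := by
    intro N hN hpN
    have hNH : N ⊔ H ∈ F := by
      refine (hmemF _).mpr ⟨Subgroup.sup_normal N H, ?_⟩
      intro hdvd
      have h4 := Subgroup.relIndex_mul_relIndex ⊥ H (N ⊔ H) bot_le le_sup_right
      rw [Subgroup.relIndex_bot_left, Subgroup.relIndex_bot_left,
        Subgroup.relIndex_sup_right] at h4
      rw [← h4] at hdvd
      rcases (Nat.Prime.dvd_mul hp).mp hdvd with h | h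
      · exact hH.2 h
      · exact hpN (h.trans (Subgroup.relIndex_dvd_card _ _))
    have h3 := hHmax ⟨N ⊔ H, hNH⟩
    have h4 : H = N ⊔ H := Subgroup.eq_of_le_of_card_ge le_sup_right h3
    rw [h4]; exact le_sup_left
  obtain ⟨F2, hF2⟩ : ∃ F2 : Set (Subgroup G),
      F2 = {N : Subgroup G | N.Normal ∧ H ≤ N ∧ p ∣ Nat.card N} := ⟨_, rfl⟩
  have hmemF2 : ∀ N : Subgroup G, N ∈ F2 ↔ (N.Normal ∧ H ≤ N ∧ p ∣ Nat.card N) := by
    intro N; rw [hF2]; rfl
  have htop : (⊤ : Subgroup G) ∈ F2 := by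
    refine (hmemF2 _).mpr ⟨inferInstance, le_top, ?_⟩
    rw [Subgroup.card_top]; exact hpG
  have : Nonempty F2 := ⟨⟨⊤, htop⟩⟩
  obtain ⟨⟨K, hKF⟩, hKmin⟩ := Finite.exists_min (fun N : F2 => Nat.card (N : Subgroup G))
  have hK := (hmemF2 K).mp hKF
  refine ⟨H, K, hH.1, hK.1, hK.2.1, hH.2, hK.2.2, ?_⟩
  intro M hHM hMK hMn
  by_cases hpM : p ∣ Nat.card M
  · right
    obtain ⟨L, hLn, hLM, hpL⟩ := hPC G p hp hp2 K M hK.1 hMK hMn hpM
    have hHL : H ⊔ L ∈ F2 :=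
      (hmemF2 _).mpr ⟨Subgroup.sup_normal H L, le_sup_left,
        hpL.trans (Subgroup.card_dvd_of_le le_sup_right)⟩
    have h1 := hKmin ⟨H ⊔ L, hHL⟩
    have h2 : H ⊔ L ≤ M := sup_le hHM hLM
    have h3 : Nat.card (H ⊔ L : Subgroup G) ≤ Nat.card M := Subgroup.card_le_of_le h2
    exact Subgroup.eq_of_le_of_card_ge hMK (h1.trans h3)
  · left
    obtain ⟨L, hLn, hML, hLK, hpL⟩ := hPP G p hp K M hK.1 hMK hMn hpM
    exact le_antisymm (hML.trans (hsup L hLn hpL)) hHM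

end Cfsg.Agent.Lib.Helper87.PGSTRUCT
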