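import Mathlib

set_option autoImplicit false

/-! A metanilpotent finite group in which, for every prime `s`, some Sylow `s`-subgroup
centralizes every normal `t`-subgroup (`t ≠ s`) is nilpotent (endgame of S4306/CORE). -/

namespace Cfsg.Agent.Lib.Helper87.PQNilp

theorem nilpotent_of_sylow_centralizes {H : Type*} [Group H] [Finite H]
    (hmeta : ∃ F : Subgroup H, ∃ _ : F.Normal, Group.IsNilpotent ↥F ∧ Group.IsNilpotent (H ⧸ F))
    (hcent : ∀ s : ℕ, s.Prime → ∃ S : Sylow s H, ∀ t : ℕ, t.Prime → t ≠ s →
      ∀ N : Subgroup H, N.Normal → IsPGroup t N → ∀ x ∈ (S : Subgroup H), ∀ y ∈ N, x * y = y * x) :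
    Group.IsNilpotent H := by
  obtain ⟨F, hFn, hFnil, hQnil⟩ := hmeta
  apply ((Group.isNilpotent_of_finite_tfae (G := H)).out 0 3).mpr
  intro s hs P
  have hsp : s.Prime := hs.out
  obtain ⟨S, hS⟩ := hcent s hsp
  suffices hSn : (S : Subgroup H).Normal by
    obtain ⟨g, hg⟩ := MulAction.exists_smul_eq H S P
    rw [Sylow.smul_eq_of_normal] at hg
    rw [← hg]; exact hSn
  -- Sylow subgroups of `F` are normal in `H`
  have hFt : ∀ t : ℕ, ∀ _ : Fact t.Prime, ∀ Ft : Sylow t ↥F,
      ((Ft : Subgroup ↥F).map F.subtype).Normal ∧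
        IsPGroup t ((Ft : Subgroup ↥F).map F.subtype) := by
    intro t ht Ft
    have h1 : (Ft : Subgroup ↥F).Normal := inferInstance
    have h2 : (Ft : Subgroup ↥F).Characteristic := Sylow.characteristic_of_normal Ft h1
    exact ⟨inferInstance, Ft.isPGroup'.map _⟩
  -- `F` normalizes `S`
  have hFN : F ≤ Subgroup.normalizer ((S : Subgroup H) : Set H) := by
    have hK : Nat.card F ∣
        Nat.card (F ⊓ Subgroup.normalizer ((S : Subgroup H) : Set H) : Subgroup H) := by
      rw [← Nat.factorization_prime_le_iff_dvd (Nat.card_pos.ne') (Nat.card_pos.ne')]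
      intro t ht
      have hfact : Fact t.Prime := ⟨ht⟩
      obtain ⟨Ft⟩ := (inferInstance : Nonempty (Sylow t ↥F))
      obtain ⟨hn, hp⟩ := hFt t ⟨ht⟩ Ft
      have hle : (Ft : Subgroup ↥F).map F.subtype ≤
          F ⊓ Subgroup.normalizer ((S : Subgroup H) : Set H) := by
        refine le_inf (Subgroup.map_subtype_le _) ?_
        by_cases hts : t = s
        · subst hts
          exact (hp.le_sylow_of_normal S).trans Subgroup.le_normalizer
        · intro y hy
          rw [Subgroup.mem_normalizer_iff]
          intro x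
          constructor
          · intro hx
            have := hS t ht hts _ hn hp x hx y hy
            have h2 : y * x * y⁻¹ = x := by rw [← this]; group
            rw [h2]; exact hx
          · intro hx
            have := hS t ht hts _ hn hp (y * x * y⁻¹) hx y hy
            have h2 : x = y * x * y⁻¹ := by
              have h3 : y * x * y⁻¹ * y = y * x := by group
              rw [h3] at this
              exact mul_left_cancel this
            rw [h2]; exact hx
      have hcard : Nat.card ((Ft : Subgroup ↥F).map F.subtype) =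
          t ^ (Nat.card F).factorization t := by
        rw [Nat.card_congr ((Ft : Subgroup ↥F).equivMapOfInjective F.subtype
          F.subtype_injective).symm.toEquiv, Sylow.card_eq_multiplicity]
      have hdvd := Subgroup.card_dvd_of_le hle
      rw [hcard] at hdvd
      exact (ht.pow_dvd_iff_le_factorization (Nat.card_pos.ne')).mp hdvd
    have hle : F ⊓ Subgroup.normalizer ((S : Subgroup H) : Set H) ≤ F := inf_le_left
    have heq : F ⊓ Subgroup.normalizer ((S : Subgroup H) : Set H) = F :=
      Subgroup.eq_of_le_of_card_ge hle (Nat.le_of_dvd Nat.card_pos hK)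
    rw [← heq]; exact inf_le_right
  -- `S ⊔ F` is normal
  have hπ : Function.Surjective (QuotientGroup.mk' F) := QuotientGroup.mk'_surjective F
  have hSbarN : ((S.mapSurjective hπ : Sylow s (H ⧸ F)) : Subgroup (H ⧸ F)).Normal :=
    inferInstance
  have hMn : (((S.mapSurjective hπ : Sylow s (H ⧸ F)) : Subgroup (H ⧸ F)).comap
      (QuotientGroup.mk' F)).Normal := hSbarN.comap _
  have hM : ((S.mapSurjective hπ : Sylow s (H ⧸ F)) : Subgroup (H ⧸ F)).comap
      (QuotientGroup.mk' F) = (S : Subgroup H) ⊔ F := by
    rw [Sylow.coe_mapSurjective, Subgroup.comap_map_eq, QuotientGroup.ker_mk']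
  rw [hM] at hMn
  have hMN : (S : Subgroup H) ⊔ F ≤ Subgroup.normalizer ((S : Subgroup H) : Set H) :=
    sup_le Subgroup.le_normalizer hFN
  have hall : ∀ h : H, h • S = S := by
    intro h
    have h1 : ((h • S : Sylow s H) : Subgroup H) ≤ (S : Subgroup H) ⊔ F := by
      intro x hx
      rw [Sylow.coe_subgroup_smul] at hx
      obtain ⟨y, hy, rfl⟩ := hx
      exact hMn.conj_mem y (le_sup_left (a := (S : Subgroup H)) hy) h
    have h2 := IsPGroup.inf_normalizer_sylow (h • S).isPGroup' S
    have h3 : ((h • S : Sylow s H) : Subgroup H) ≤ S := by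
      have h4 : ((h • S : Sylow s H) : Subgroup H) ⊓
          Subgroup.normalizer ((S : Subgroup H) : Set H) = (h • S : Sylow s H) :=
        inf_eq_left.mpr (h1.trans hMN)
      exact (h4.symm.le.trans (le_of_eq h2)).trans inf_le_right
    exact Sylow.ext ((h • S).is_maximal' S.isPGroup' h3).symm
  rw [← Subgroup.normalizer_eq_top_iff, eq_top_iff]
  intro h _
  exact Sylow.smul_eq_iff_mem_normalizer.mp (hall h)

end Cfsg.Agent.Lib.Helper87.PQNilp
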