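import Mathlib
import Cfsg.Agent.Lib.Helper98.PSpStmt
import Cfsg.Agent.Lib.Helper87.PSpCB
import Cfsg.Agent.Lib.Helper87.PSpCNC

/-!
# S3421, piece CAB: if the centraliser of the involution is abelian then `m₁ = 2`
-/

set_option autoImplicit false

namespace Cfsg.Agent.Lib.Helper87.PSpCAB

open Cfsg.Agent.Lib.Helper98 Cfsg.Agent.Lib.Helper87.PSpCB Cfsg.Agent.Lib.Helper87.PSpCNC

universe u

theorem main (hCent1 : PSpStmt.Cent1.{u}) (hCard1 : PSpStmt.Card1.{u}) (hCT : PSpStmt.CT.{u})
    (hFrob : PSpStmt.FrobCount.{u}) (hCyc : PSpStmt.CycInv.{u}) : PSpStmt.CAB.{u} := by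
  intro G _ p q m₁ m₂ h x hx hab
  classical
  have hfin := h.fin
  have hm2 := h.m1_ge
  have hm0 : 0 < m₁ := by omega
  have hcardC := hCT G p q m₁ m₂ h x hx
  have ht1 := t_ne hm0 h.m1even hx
  have htsq := t_sq h.m1even hx
  have htm : (x ^ (m₁ / 2)) ^ m₁ = 1 := zp_pow hx (t_mem x _)
  have hBC : Subgroup.zpowers x ≤ Subgroup.centralizer ({x ^ (m₁ / 2)} : Set G) :=
    zp_le_cent (t_mem x _)
  have hcy := hCyc G x
  obtain ⟨t, ht⟩ : ∃ t, t = x ^ (m₁ / 2) := ⟨_, rfl⟩
  rw [← ht] at hab hcardC ht1 htsq htm hBC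
  have htt : t ∈ Subgroup.centralizer ({t} : Set G) :=
    Subgroup.mem_centralizer_singleton_iff.mpr rfl
  -- exponent
  have hexp : ∀ c ∈ Subgroup.centralizer ({t} : Set G), c ^ m₁ = 1 := fun c hc =>
    hCent1 G p q m₁ m₂ h t c ht1 htm (Subgroup.mem_centralizer_singleton_iff.mp hc)
  -- `C` contains the centraliser of each of its non-identity elements
  have hself : ∀ c ∈ Subgroup.centralizer ({t} : Set G), c ≠ 1 → ∀ g : G, Commute g c →
      g ∈ Subgroup.centralizer ({t} : Set G) := by
    intro c hc hc1 g hg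
    have hle : Subgroup.centralizer ({t} : Set G) ≤ Subgroup.centralizer ({c} : Set G) := by
      intro a ha
      rw [Subgroup.mem_centralizer_singleton_iff]
      exact hab a ha c hc
    have hK : ∀ k ∈ Subgroup.centralizer ({c} : Set G), k ^ m₁ = 1 := fun k hk =>
      hCent1 G p q m₁ m₂ h c k hc1 (hexp c hc) (Subgroup.mem_centralizer_singleton_iff.mp hk)
    have hd := hCard1 G p q m₁ m₂ h _ hK
    have heq := Subgroup.eq_of_le_of_card_ge hle
      (by rw [hcardC]; exact Nat.le_of_dvd (by omega) hd)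
    rw [heq]
    exact Subgroup.mem_centralizer_singleton_iff.mpr hg
  -- the index of `C`
  have hidxC : (Subgroup.centralizer ({t} : Set G)).index = q * m₂ := by
    have e := (Subgroup.centralizer ({t} : Set G)).card_mul_index
    rw [hcardC, h.card] at e
    have e' : 2 * m₁ * (Subgroup.centralizer ({t} : Set G)).index = 2 * m₁ * (q * m₂) := by
      rw [e]
      ring
    exact Nat.eq_of_mul_eq_mul_left (by omega) e'
  have hcop : (Nat.card (Subgroup.centralizer ({t} : Set G))).Coprime
      (Subgroup.centralizer ({t} : Set G)).index := by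
    rw [hcardC, hidxC]
    have c1 : Nat.Coprime 2 q := Nat.coprime_two_left.mpr h.q_odd
    have c2 : Nat.Coprime 2 m₂ := Nat.coprime_two_left.mpr h.m2odd
    exact Nat.Coprime.mul_left (Nat.Coprime.mul_right c1 c2)
      (Nat.Coprime.mul_right h.coprime_q1.symm h.coprime12)
  have hN := hFrob G (Subgroup.centralizer ({t} : Set G)) hcop hab hself
  rw [hcardC] at hN
  obtain ⟨N, hNdef⟩ : ∃ N, N = Subgroup.normalizer
      ((Subgroup.centralizer ({t} : Set G) : Subgroup G) : Set G) := ⟨_, rfl⟩
  rw [← hNdef] at hN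
  have hCN : Subgroup.centralizer ({t} : Set G) ≤ N := by
    rw [hNdef]
    exact Subgroup.le_normalizer
  have hw := Subgroup.relIndex_mul_index hCN
  rw [hidxC] at hw
  -- the orbit of `t` under `N` has at most three elements
  have hw3 : (Subgroup.centralizer ({t} : Set G)).relIndex N ≤ 3 := by
    obtain ⟨u₀, hu₀⟩ : ∃ u₀ : G, ∀ v ∈ Subgroup.centralizer ({t} : Set G), v ^ 2 = 1 → v ≠ 1 →
        v = t ∨ v = u₀ ∨ v = t * u₀ := by
      have hcard2 : Nat.card (Subgroup.centralizer ({t} : Set G)) =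
          2 * Nat.card (Subgroup.zpowers x) := by
        rw [hcardC, Nat.card_zpowers, hx]
      have hinB : ∀ v ∈ Subgroup.zpowers x, v ^ 2 = 1 → v ≠ 1 → v = t := by
        intro v hv hv2 hv1
        rw [ht]
        exact hcy v m₁ hm0 h.m1even hx hv hv2 hv1
      by_cases hex : ∃ u ∈ Subgroup.centralizer ({t} : Set G), u ∉ Subgroup.zpowers x ∧ u ^ 2 = 1
      · obtain ⟨u, huC, huB, hu2⟩ := hex
        refine ⟨u, fun v hv hv2 hv1 => ?_⟩
        by_cases hvB : v ∈ Subgroup.zpowers x
        · exact Or.inl (hinB v hvB hv2 hv1)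
        · right
          have hmem := idx2_mul_inv_mem hBC hcard2 hv huC hvB huB
          have hsq : (v * u⁻¹) ^ 2 = 1 := by
            have hc : Commute v u⁻¹ := (show Commute v u from hab v hv u huC).inv_right
            rw [hc.mul_pow, hv2, inv_pow, hu2]
            simp
          by_cases h1 : v * u⁻¹ = 1
          · left
            exact mul_inv_eq_one.mp h1
          · right
            have h2 := hinB _ hmem hsq h1
            rw [← h2]
            group
      · refine ⟨t, fun v hv hv2 hv1 => Or.inl ?_⟩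
        by_cases hvB : v ∈ Subgroup.zpowers x
        · exact hinB v hvB hv2 hv1
        · exact absurd ⟨v, hv, hvB, hv2⟩ hex
    let φ : ↥N →* MulAut G := (MulAut.conj : G →* MulAut G).comp N.subtype
    let _inst : MulAction ↥N G := MulAction.compHom G φ
    have hsmul : ∀ (n : ↥N) (y : G), n • y = (n : G) * y * (n : G)⁻¹ := fun n y => rfl
    have hstab : MulAction.stabilizer ↥N t =
        (Subgroup.centralizer ({t} : Set G)).subgroupOf N := by
      ext n
      rw [MulAction.mem_stabilizer_iff, hsmul, Subgroup.mem_subgroupOf,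
        Subgroup.mem_centralizer_singleton_iff]
      constructor
      · intro h1
        calc (n : G) * t = ((n : G) * t * (n : G)⁻¹) * n := by group
          _ = t * n := by rw [h1]
      · intro h1
        rw [h1]
        group
    have hidx := MulAction.index_stabilizer ↥N t
    rw [hstab] at hidx
    have hsub : MulAction.orbit ↥N t ⊆ ({t, u₀, t * u₀} : Set G) := by
      rintro _ ⟨n, rfl⟩
      have hn : (n : G) ∈ Subgroup.normalizer
          ((Subgroup.centralizer ({t} : Set G) : Subgroup G) : Set G) := by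
        rw [← hNdef]
        exact n.2
      have h1 : (n : G) * t * (n : G)⁻¹ ∈ Subgroup.centralizer ({t} : Set G) :=
        (Subgroup.mem_set_normalizer_iff.mp hn t).mp htt
      have h2 : ((n : G) * t * (n : G)⁻¹) ^ 2 = 1 := by
        rw [conj_pow, htsq]
        simp
      have h3 : (n : G) * t * (n : G)⁻¹ ≠ 1 := by
        intro h4
        apply ht1
        have e : t = (n : G)⁻¹ * ((n : G) * t * (n : G)⁻¹) * n := by group
        rw [e, h4]
        group
      have h5 := hu₀ _ h1 h2 h3
      show n • t ∈ ({t, u₀, t * u₀} : Set G)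
      rw [hsmul]
      simpa using h5
    have hle : (MulAction.orbit ↥N t).ncard ≤ 3 := by
      refine (Set.ncard_le_ncard hsub (Set.toFinite _)).trans ?_
      have e : (({t, u₀, t * u₀} : Finset G) : Set G) = ({t, u₀, t * u₀} : Set G) := by simp
      rw [← e, Set.ncard_coe_finset]
      exact Finset.card_le_three
    show ((Subgroup.centralizer ({t} : Set G)).subgroupOf N).index ≤ 3
    rw [hidx]
    exact hle
  -- arithmetic
  obtain ⟨w, hwdef⟩ : ∃ w, w = (Subgroup.centralizer ({t} : Set G)).relIndex N := ⟨_, rfl⟩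
  rw [← hwdef] at hw hw3
  obtain ⟨a, hadef⟩ : ∃ a, a = N.index := ⟨_, rfl⟩
  rw [← hadef] at hw hN
  have hqm : ∃ j, q * m₂ = (m₁ + 1) + 2 * m₁ * j := by
    have hs := h.sum
    rcases h.diff with d | d
    · have h3 := h.m2ge
      obtain ⟨k, hk⟩ : ∃ k, m₂ = k + 1 := ⟨m₂ - 1, by omega⟩
      refine ⟨k, ?_⟩
      rw [← hs, d, hk]
      ring
    · refine ⟨m₁ + 1, ?_⟩
      rw [← hs, d]
      ring
  obtain ⟨j, hj⟩ := hqm
  obtain ⟨k, hk⟩ : ∃ k, a = 1 + 2 * m₁ * k := by
    have h1 : a % (2 * m₁) = 1 := by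
      have h2 := hN
      rw [Nat.ModEq, Nat.mod_eq_of_lt (by omega : 1 < 2 * m₁)] at h2
      exact h2
    have h3 := Nat.div_add_mod a (2 * m₁)
    exact ⟨a / (2 * m₁), by omega⟩
  rw [hk] at hw
  have e : w + 2 * m₁ * (w * k) = (m₁ + 1) + 2 * m₁ * j := by
    rw [← hj, ← hw]
    ring
  have hmod : w % (2 * m₁) = (m₁ + 1) % (2 * m₁) := by
    have h1 := congrArg (fun z => z % (2 * m₁)) e
    simp only [Nat.add_mul_mod_self_left] at h1
    exact h1
  rw [Nat.mod_eq_of_lt (by omega), Nat.mod_eq_of_lt (by omega)] at hmod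
  omega

end Cfsg.Agent.Lib.Helper87.PSpCAB
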