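import Mathlib
import Cfsg.Prelude.Def_FusionSystem
import Cfsg.Prelude.Def_CaseTheorems
import Cfsg.Agent.Lib.Helper76.PSolv
import Cfsg.Agent.S5191
set_option autoImplicit false
open Cfsg

/-! A fusion system realized by `G` on a Sylow `p`-subgroup is also realized by `G ⧸ O_{p'}(G)`. -/

namespace Cfsg.Agent.Lib.Helper87.RealQuot

open Cfsg.Agent.Lib.Helper76.PSolv

variable {Ω : Type*} [Group Ω] {S : Subgroup Ω} {G : Type*} [Group G]

theorem eq_one_of_mem_sylow_of_mem_pPrimeCore [Finite G] {p : ℕ} [Fact p.Prime] (T : Sylow p G)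
    {t : G} (ht : t ∈ (T : Subgroup G)) (hN : t ∈ pPrimeCore p G) : t = 1 := by
  obtain ⟨k, hk⟩ := T.2 ⟨t, ht⟩
  have hk' : t ^ p ^ k = 1 := congrArg Subtype.val hk
  have h1 : orderOf t ∣ p ^ k := orderOf_dvd_of_pow_eq_one hk'
  have h2 : orderOf t ∣ Nat.card (pPrimeCore p G) := Subgroup.orderOf_dvd_natCard _ hN
  have h3 : (Nat.card (pPrimeCore p G)).Coprime (p ^ k) :=
    Nat.Coprime.pow_right k (pPrimeCore_coprime p)
  have h4 : orderOf t = 1 := Nat.eq_one_of_dvd_coprimes h3 h2 h1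
  exact orderOf_eq_one_iff.mp h4

theorem realized_quotient [Finite G] {p : ℕ} [Fact p.Prime] (F : FusionSystem S) (ι : S →* G)
    (hι : F.IsRealizedBy ι) (T : Sylow p G) (hT : (T : Subgroup G) = ι.range) :
    F.IsRealizedBy ((QuotientGroup.mk' (pPrimeCore p G)).comp ι) ∧
      ∃ T' : Sylow p (G ⧸ pPrimeCore p G),
        (T' : Subgroup (G ⧸ pPrimeCore p G)) = ((QuotientGroup.mk' (pPrimeCore p G)).comp ι).range := by
  have hιT : ∀ s : S, ι s ∈ (T : Subgroup G) := fun s => by rw [hT]; exact ⟨s, rfl⟩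
  have key : ∀ a b : G, a ∈ (T : Subgroup G) → b ∈ (T : Subgroup G) →
      (QuotientGroup.mk a : G ⧸ pPrimeCore p G) = QuotientGroup.mk b → a = b := by
    intro a b ha hb hab
    have h1 : a⁻¹ * b ∈ pPrimeCore p G := QuotientGroup.eq.mp hab
    have h2 : a⁻¹ * b ∈ (T : Subgroup G) := mul_mem (inv_mem ha) hb
    have h3 := eq_one_of_mem_sylow_of_mem_pPrimeCore T h2 h1
    exact inv_mul_eq_one.mp h3
  refine ⟨⟨?_, ?_⟩, ?_⟩
  · intro s₁ s₂ h
    exact hι.1 (key _ _ (hιT s₁) (hιT s₂) h)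
  · intro P hP φ hφ
    rw [hι.2 P hP φ hφ]
    constructor
    · rintro ⟨g, hg⟩
      refine ⟨QuotientGroup.mk g, fun x => ?_⟩
      show (QuotientGroup.mk (ι ⟨φ x, hφ x⟩) : G ⧸ pPrimeCore p G) = _
      rw [hg x]
      rfl
    · rintro ⟨γ, hγ⟩
      have hP' : (P.subgroupOf S).map ι ≤ (T : Subgroup G) := by
        rintro _ ⟨s, -, rfl⟩
        exact hιT s
      have hγ' : ∀ y ∈ (P.subgroupOf S).map ι, γ * QuotientGroup.mk y * γ⁻¹ ∈
          ((T : Subgroup G).map (QuotientGroup.mk' (pPrimeCore p G))) := by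
        rintro _ ⟨s, hs, rfl⟩
        have h1 := hγ ⟨s, Subgroup.mem_subgroupOf.mp hs⟩
        refine ⟨ι ⟨φ ⟨s, Subgroup.mem_subgroupOf.mp hs⟩, hφ _⟩, hιT _, ?_⟩
        exact h1
      obtain ⟨g, hg⟩ := Cfsg.Agent.S5191.result T ((P.subgroupOf S).map ι) hP' γ hγ'
      refine ⟨g, fun x => ?_⟩
      have hx : ι ⟨x, hP x.2⟩ ∈ (P.subgroupOf S).map ι :=
        ⟨⟨x, hP x.2⟩, Subgroup.mem_subgroupOf.mpr x.2, rfl⟩
      obtain ⟨h1, h2⟩ := hg _ hx
      apply key _ _ (hιT _) h1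
      rw [h2]
      exact hγ x
  · refine ⟨T.mapSurjective (QuotientGroup.mk'_surjective (pPrimeCore p G)), ?_⟩
    rw [Sylow.coe_mapSurjective, hT, MonoidHom.range_comp]

end Cfsg.Agent.Lib.Helper87.RealQuot
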