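import Cfsg.Agent.Lib.Helper18.ReeMultStmt

/-!
# S2113 / EXR (second seat): an element `r ≠ 0` with `r⁸ ≠ 1` and `r³ ≠ r`
-/

set_option autoImplicit false

namespace Cfsg.Agent.Lib.Helper87.ReeMultEXR

universe v

open Cfsg.Agent.Lib.Helper18.ReeMultStmt

theorem main : EXR.{v} := by
  intro K _ _ m hm hK
  classical
  have h27 : 27 ≤ Fintype.card K := by
    rw [hK]
    calc 27 = 3 ^ 3 := by norm_num
      _ ≤ 3 ^ (2 * m + 1) := Nat.pow_le_pow_right (by norm_num) (by omega)
  have hex : ∃ r : K, r ^ 9 ≠ r := by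
    by_contra hcon
    have hall : ∀ r : K, r ^ 9 = r := by
      intro r
      by_contra h
      exact hcon ⟨r, h⟩
    have hp : (Polynomial.X ^ 9 - Polynomial.X : Polynomial K) = 0 := by
      apply Polynomial.eq_zero_of_natDegree_lt_card_of_eval_eq_zero
        (Polynomial.X ^ 9 - Polynomial.X : Polynomial K) (f := (id : K → K))
        Function.injective_id
      · intro i
        simp [hall i]
      · rw [FiniteField.X_pow_card_sub_X_natDegree_eq K (by norm_num : 1 < 9)]
        omega
    exact FiniteField.X_pow_card_sub_X_ne_zero K (by norm_num : 1 < 9) hp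
  obtain ⟨r, hr⟩ := hex
  refine ⟨r, ?_, ?_, ?_⟩
  · rintro rfl
    apply hr
    ring
  · intro h8
    apply hr
    calc r ^ 9 = r ^ 8 * r := by ring
      _ = r := by rw [h8, one_mul]
  · intro h3
    apply hr
    calc r ^ 9 = (r ^ 3) ^ 3 := by ring
      _ = r := by rw [h3, h3]

end Cfsg.Agent.Lib.Helper87.ReeMultEXR
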