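import Cfsg.Agent.Lib.Helper18.ReeMultStmt

/-!
# S2113 / LCONJH (second seat): conjugation of `lft s₁ u v` by a lift of `e s`
-/

set_option autoImplicit false

namespace Cfsg.Agent.Lib.Helper87.ReeMultLCONJH

universe u v w

open Cfsg.Agent.Lib.Helper18.ReeMultStmt

theorem main : LCONJH.{u, v, w} := by
  intro Γ _ G _ K _ _ m φ x e σ E s₁ hs₁ γ s hs hγ u v
  unfold lft
  rw [conj_cm σ E.surj E.cen γ, hγ]
  have h1 : e s * e s₁ * (e s)⁻¹ = e s₁ := by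
    have h2 : e s * e s₁ = e s₁ * e s := by
      rw [← E.par.e_mul s s₁ hs hs₁, ← E.par.e_mul s₁ s hs₁ hs, mul_comm]
    rw [h2, mul_inv_cancel_right]
  have h3 : e s * x 0 (u / (φ s₁ ^ 3 / s₁ - 1)) (v / (s₁ - 1)) * (e s)⁻¹ =
      x 0 (φ s ^ 3 / s * u / (φ s₁ ^ 3 / s₁ - 1)) (s * v / (s₁ - 1)) := by
    rw [E.par.e_x s hs, mul_inv_cancel_right, mul_zero, mul_div_assoc, mul_div_assoc]
  rw [h1, h3]

end Cfsg.Agent.Lib.Helper87.ReeMultLCONJH
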