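import Cfsg.Agent.Lib.Helper18.ReeOutStmt

/-!
# S2127 / CENTER: the centre of `G` is trivial
-/

set_option autoImplicit false

namespace Cfsg.Agent.Lib.Helper87.ReeOutCENTER

universe u v

open Cfsg.Agent.Lib.Helper18.ReeOutStmt

theorem main : Cfsg.Agent.Lib.Helper18.ReeOutStmt.CENTER.{u, v} := by
  intro G _ K _ _ m φ x e par hsimple
  rcases IsSimpleGroup.eq_bot_or_eq_top_of_normal (Subgroup.center G) inferInstance with h | h
  · exact h
  · exfalso
    have hmem : x 1 0 0 ∈ Subgroup.center G := by rw [h]; exact Subgroup.mem_top _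
    have hcomm : x 0 1 0 * x 1 0 0 = x 1 0 0 * x 0 1 0 :=
      (Subgroup.mem_center_iff.mp hmem) (x 0 1 0)
    rw [par.x_mul, par.x_mul] at hcomm
    obtain ⟨-, -, h3⟩ := par.x_inj _ _ _ _ _ _ hcomm
    have h0 : φ 0 = 0 := map_zero φ
    have h1 : φ 1 = 1 := map_one φ
    rw [h0, h1] at h3
    have h4 : (-1 : K) = 0 := by
      have e1 : (0 : K) + 0 - 1 * 1 - 0 ^ 2 * 1 ^ 3 + 0 * 1 * 1 ^ 3 = -1 := by ring
      have e2 : (0 : K) + 0 - 0 * 0 - 1 ^ 2 * 0 ^ 3 + 1 * 0 * 0 ^ 3 = 0 := by ring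
      rw [e1, e2] at h3
      exact h3
    have h5 : (1 : K) = 0 := by
      have : (1 : K) = -(-1) := by ring
      rw [this, h4, neg_zero]
    exact one_ne_zero h5

end Cfsg.Agent.Lib.Helper87.ReeOutCENTER
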