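import Cfsg.Agent.Lib.Helper18.ReeOutStmt

/-!
# S2127 / FPF: some `e s₀` centralizes no nontrivial element of `U`
-/

set_option autoImplicit false

namespace Cfsg.Agent.Lib.Helper87.ReeOutFPF

universe u v

open Cfsg.Agent.Lib.Helper18.ReeOutStmt

/-- a field with `3^(2m+1)` elements, `m ≥ 1`, has an element outside `{0, 1, -1}` -/
theorem exists_not_small (K : Type v) [Field K] [Fintype K] (m : ℕ) (hm : 1 ≤ m)
    (hK : Fintype.card K = 3 ^ (2 * m + 1)) : ∃ s : K, s ≠ 0 ∧ s ≠ 1 ∧ s ≠ -1 := by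
  classical
  by_contra hcon
  have hall : ∀ s : K, s ∈ ({0, 1, -1} : Finset K) := by
    intro s
    by_contra hs
    apply hcon
    refine ⟨s, ?_, ?_, ?_⟩
    · rintro rfl; exact hs (by simp)
    · rintro rfl; exact hs (by simp)
    · rintro rfl; exact hs (by simp)
  have hsub : (Finset.univ : Finset K) ⊆ ({0, 1, -1} : Finset K) := fun s _ => hall s
  have h1 := Finset.card_le_card hsub
  rw [Finset.card_univ, hK] at h1
  have h2 : ({0, 1, -1} : Finset K).card ≤ 3 := Finset.card_le_three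
  have h3 : 3 ^ 3 ≤ 3 ^ (2 * m + 1) := Nat.pow_le_pow_right (by norm_num) (by omega)
  omega

theorem x_zero {G : Type u} [Group G] {K : Type v} [Field K] [Fintype K] {m : ℕ}
    {φ : K →+* K} {x : K → K → K → G} {e : K → G} (par : OPar G K m φ x e) :
    x 0 0 0 = 1 := by
  have h := par.x_mul 0 0 0 0 0 0
  have h0 : φ 0 = 0 := map_zero φ
  simp only [h0, add_zero, mul_zero, sub_zero, zero_mul] at h
  have h2 : (0 : K) ^ 2 * 0 ^ 3 = 0 := by ring
  simp only [h2, sub_zero] at h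
  exact mul_eq_left.mp h

theorem main : Cfsg.Agent.Lib.Helper18.ReeOutStmt.FPF.{u, v} := by
  intro G _ K _ _ m φ x e par
  obtain ⟨s₀, hs0, hs1, hsm1⟩ := exists_not_small K m par.hm par.cardK
  have hφ0 : φ s₀ ≠ 0 := by
    intro h
    apply hs0
    have := par.phi3 s₀
    rw [h, map_zero] at this
    rw [← this]; ring
  -- `φ s₀ ^ 3 ≠ s₀`
  have hA : φ s₀ ^ 3 ≠ s₀ := by
    intro h
    have h1 : φ (φ s₀ ^ 3) = φ s₀ := congrArg φ h
    rw [map_pow φ (φ s₀) 3, par.phi3 s₀] at h1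
    -- s₀ = φ s₀
    rw [← h1] at h
    -- s₀ ^ 3 = s₀
    have h2 : s₀ * (s₀ - 1) * (s₀ + 1) = 0 := by
      have : s₀ * (s₀ - 1) * (s₀ + 1) = s₀ ^ 3 - s₀ := by ring
      rw [this, h, sub_self]
    rcases mul_eq_zero.mp h2 with h3 | h3
    · rcases mul_eq_zero.mp h3 with h4 | h4
      · exact hs0 h4
      · exact hs1 (sub_eq_zero.mp h4)
    · exact hsm1 (eq_neg_of_add_eq_zero_left h3)
  -- `s₀ ^ 2 ≠ φ s₀ ^ 3`
  have hB : s₀ ^ 2 ≠ φ s₀ ^ 3 := by
    intro h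
    have h1 : φ (s₀ ^ 2) = φ (φ s₀ ^ 3) := congrArg φ h
    rw [map_pow φ (φ s₀) 3, par.phi3 s₀, map_pow φ s₀ 2] at h1
    -- φ s₀ ^ 2 = s₀
    have h' : (φ s₀ ^ 2) ^ 2 = φ s₀ ^ 3 := by
      rw [h1]; exact h
    have h2 : φ s₀ ^ 3 * (φ s₀ - 1) = 0 := by
      have : φ s₀ ^ 3 * (φ s₀ - 1) = (φ s₀ ^ 2) ^ 2 - φ s₀ ^ 3 := by ring
      rw [this, h', sub_self]
    rcases mul_eq_zero.mp h2 with h3 | h3
    · exact hφ0 (pow_eq_zero_iff (by norm_num) |>.mp h3)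
    · have h4 : φ s₀ = 1 := sub_eq_zero.mp h3
      rw [h4] at h1
      apply hs1
      rw [← h1]; ring
  refine ⟨s₀, hs0, ?_⟩
  intro t u v hcomm
  have h1 := par.e_x s₀ hs0 t u v
  rw [hcomm] at h1
  have h2 := mul_right_cancel h1
  obtain ⟨ht, hu, hv⟩ := par.x_inj _ _ _ _ _ _ h2
  have hv0 : v = 0 := by
    have h3 : (s₀ - 1) * v = 0 := by
      have : (s₀ - 1) * v = s₀ * v - v := by ring
      rw [this, ← hv, sub_self]
    rcases mul_eq_zero.mp h3 with h4 | h4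
    · exact absurd (sub_eq_zero.mp h4) hs1
    · exact h4
  have hu0 : u = 0 := by
    by_contra hune
    apply hA
    have h3 : (φ s₀ ^ 3 / s₀ - 1) * u = 0 := by
      have : (φ s₀ ^ 3 / s₀ - 1) * u = φ s₀ ^ 3 / s₀ * u - u := by ring
      rw [this, ← hu, sub_self]
    rcases mul_eq_zero.mp h3 with h4 | h4
    · have h5 : φ s₀ ^ 3 / s₀ = 1 := sub_eq_zero.mp h4
      rw [div_eq_one_iff_eq hs0] at h5
      exact h5
    · exact absurd h4 hune
  have ht0 : t = 0 := by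
    by_contra htne
    apply hB
    have h3 : (s₀ ^ 2 / φ s₀ ^ 3 - 1) * t = 0 := by
      have : (s₀ ^ 2 / φ s₀ ^ 3 - 1) * t = s₀ ^ 2 / φ s₀ ^ 3 * t - t := by ring
      rw [this, ← ht, sub_self]
    rcases mul_eq_zero.mp h3 with h4 | h4
    · have h5 : s₀ ^ 2 / φ s₀ ^ 3 = 1 := sub_eq_zero.mp h4
      rw [div_eq_one_iff_eq (pow_ne_zero 3 hφ0)] at h5
      exact h5
    · exact absurd h4 htne
  rw [ht0, hu0, hv0]
  exact x_zero par

end Cfsg.Agent.Lib.Helper87.ReeOutFPF
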