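import Mathlib
import Cfsg.Agent.Lib.Helper42.ReeSpStmt2
import Cfsg.Agent.Lib.Helper7.ReeSpTICount

/-!
# S2357 (small Ree groups, element counts): shared lemmas for the pieces CNTH, CNTA, CNT2A

* `card_order_cyclic`: a cyclic subgroup `C` has `φ(i)` elements of order `i ∣ |C|`;
* `ti_order_count`: the TI count for the elements of order `i` conjugate into `C`;
* `odd_mem_A`, `norm_A`: the odd-order elements of `C(A)` lie in `A`; `A` is TI.
-/

set_option autoImplicit false

namespace Cfsg.Agent.Lib.Helper87.ReeSpCntLib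

open Cfsg.Agent.Lib.Helper42.ReeSpStmt Cfsg.Agent.Lib.Helper42.ReeSpStmt2

universe u v

theorem qq_mod8 (m : ℕ) : qq m % 8 = 3 := by
  show 3 ^ (2 * m + 1) % 8 = 3
  rw [pow_succ, pow_mul, Nat.mul_mod, Nat.pow_mod]
  norm_num

theorem conj_order {G : Type u} [Group G] (n b : G) : orderOf (n * b * n⁻¹) = orderOf b :=
  orderOf_injective (MulAut.conj n).toMonoidHom (MulAut.conj n).injective b

/-- a cyclic subgroup `C` has `φ(i)` elements of order `i ∣ |C|` -/
theorem card_order_cyclic {G : Type u} [Group G] [Finite G] (C : Subgroup G) (hC : IsCyclic C)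
    {i : ℕ} (hi : i ∣ Nat.card C) :
    Nat.card ↥({s : G | s ∈ C ∧ orderOf s = i} : Set G) = Nat.totient i := by
  classical
  have : Fintype ↥C := Fintype.ofFinite _
  have h1 := IsCyclic.card_orderOf_eq_totient (α := ↥C) (d := i)
    (by rwa [← Nat.card_eq_fintype_card])
  rw [← h1, ← Fintype.card_subtype, ← Nat.card_eq_fintype_card]
  apply Nat.card_congr
  exact
    { toFun := fun s => ⟨⟨s.1, s.2.1⟩, by rw [Subgroup.orderOf_mk]; exact s.2.2⟩
      invFun := fun c => ⟨c.1.1, c.1.2, by rw [Subgroup.orderOf_coe]; exact c.2⟩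
      left_inv := fun s => rfl
      right_inv := fun c => rfl }

/-- the TI count for the elements of order `i`, all conjugate into the cyclic subgroup `C` -/
theorem ti_order_count {G : Type u} [Group G] [Finite G] (C : Subgroup G) (hC : IsCyclic C)
    {i : ℕ} (hi : i ∣ Nat.card C)
    (hconj : ∀ g : G, orderOf g = i → ∃ x : G, x * g * x⁻¹ ∈ C)
    (hTI : ∀ g s : G, s ∈ C → orderOf s = i → g * s * g⁻¹ ∈ C →
      g ∈ Subgroup.normalizer (C : Set G)) :
    Nat.card {g : G // orderOf g = i} * Nat.card ↥(Subgroup.normalizer (C : Set G)) =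
      Nat.card G * Nat.totient i := by
  have h := Cfsg.Agent.Lib.Helper7.ReeSpTICount.ti_count
    ({s : G | s ∈ C ∧ orderOf s = i} : Set G) (Subgroup.normalizer (C : Set G))
    (fun g hg s hs => ⟨(Subgroup.mem_set_normalizer_iff.mp hg s).mp hs.1, by
      rw [conj_order]; exact hs.2⟩)
    (fun g s hs hgs => hTI g s hs.1 hs.2 hgs.1)
  rw [card_order_cyclic C hC hi] at h
  rw [← h]
  congr 1
  apply Nat.card_congr
  apply Equiv.subtypeEquivRight
  intro y
  constructor
  · intro hy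
    obtain ⟨x, hx⟩ := hconj y hy
    exact ⟨x, hx, by rw [conj_order]; exact hy⟩
  · rintro ⟨x, -, hx⟩
    rw [conj_order] at hx
    exact hx

section A

variable {G : Type u} [Group G] [Finite G] {U H A : Subgroup G} {K : Type v} [Field K]
  [Fintype K] {m : ℕ}

theorem cardA_odd (hax : Ax G U H A K m) : Odd (Nat.card A) := by
  rw [hax.cardA]
  have h8 := qq_mod8 m
  rw [Nat.odd_iff]
  omega

theorem A_le_CA (hax : Ax G U H A K m) : A ≤ Subgroup.centralizer (A : Set G) := by
  intro a ha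
  rw [Subgroup.mem_centralizer_iff]
  intro b hb
  have hcyc : IsCyclic A := hax.cycA
  have := mul_comm' (⟨b, hb⟩ : A) ⟨a, ha⟩
  exact congrArg Subtype.val this

/-- elements of odd order of `C(A)` lie in `A` -/
theorem odd_mem_A (hax : Ax G U H A K m) {c : G} (hc : c ∈ Subgroup.centralizer (A : Set G))
    (hodd : Odd (orderOf c)) : c ∈ A := by
  have h8 := qq_mod8 m
  obtain ⟨k', hk'⟩ : ∃ k', qq m = 4 * k' + 3 := ⟨qq m / 4, by omega⟩
  have hcardA : Nat.card A = k' + 1 := by rw [hax.cardA, hk']; omega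
  have hcardCA : Nat.card ↥(Subgroup.centralizer (A : Set G)) = 4 * (k' + 1) := by
    rw [hax.cardCA, hk']; ring
  have hAC := A_le_CA hax
  have hnorm : (A.subgroupOf (Subgroup.centralizer (A : Set G))).Normal := by
    refine ⟨fun n hn g => ?_⟩
    have e : g * n * g⁻¹ = n := by
      apply Subtype.ext
      show (g : G) * (n : G) * (g : G)⁻¹ = (n : G)
      rw [hax.commCA g g.2 n n.2, mul_inv_cancel_right]
    rw [e]; exact hn
  have hidx : (A.subgroupOf (Subgroup.centralizer (A : Set G))).index = 4 := by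
    have h1 := Subgroup.card_mul_index (A.subgroupOf (Subgroup.centralizer (A : Set G)))
    have h2 : Nat.card (A.subgroupOf (Subgroup.centralizer (A : Set G))) = Nat.card A :=
      Nat.card_congr (Subgroup.subgroupOfEquivOfLe hAC).toEquiv
    rw [h2, hcardA, hcardCA] at h1
    have hpos : 0 < k' + 1 := Nat.succ_pos _
    exact Nat.eq_of_mul_eq_mul_left hpos (by rw [h1]; ring)
  have h4 : c ^ 4 ∈ A := by
    have := Subgroup.pow_index_mem (A.subgroupOf (Subgroup.centralizer (A : Set G)))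
      (⟨c, hc⟩ : Subgroup.centralizer (A : Set G))
    rw [hidx] at this
    exact Subgroup.mem_subgroupOf.mp this
  obtain ⟨t, ht⟩ := hodd
  have hpow : c ^ (2 * t + 1) = 1 := by rw [← ht]; exact pow_orderOf_eq_one c
  rcases Nat.even_or_odd' t with ⟨s, rfl | rfl⟩
  · have h5 : (c ^ 4) ^ s * c = 1 := by
      rw [← pow_mul, ← pow_succ]
      have : 4 * s + 1 = 2 * (2 * s) + 1 := by ring
      rw [this]; exact hpow
    have h6 : c = ((c ^ 4) ^ s)⁻¹ := eq_inv_of_mul_eq_one_right h5
    rw [h6]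
    exact A.inv_mem (A.pow_mem h4 s)
  · have h5 : (c ^ 4) ^ (s + 1) = c := by
      rw [← pow_mul]
      have : 4 * (s + 1) = (2 * (2 * s + 1) + 1) + 1 := by ring
      rw [this, pow_succ, hpow, one_mul]
    rw [← h5]
    exact A.pow_mem h4 (s + 1)

theorem odd_of_mem_A (hax : Ax G U H A K m) {b : G} (hb : b ∈ A) : Odd (orderOf b) :=
  Odd.of_dvd_nat (cardA_odd hax) (Subgroup.orderOf_dvd_natCard A hb)

/-- `A` is a TI subgroup with normalizer `N(A)` -/
theorem norm_A (hax : Ax G U H A K m) {n a₀ : G} (ha₀ : a₀ ∈ A) (hne : a₀ ≠ 1)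
    (ha : n * a₀ * n⁻¹ ∈ A) : n ∈ Subgroup.normalizer (A : Set G) := by
  have hTI : ∀ n a₀ : G, a₀ ∈ A → a₀ ≠ 1 → n * a₀ * n⁻¹ ∈ A → ∀ b ∈ A, n * b * n⁻¹ ∈ A := by
    intro n a₀ ha₀ hne ha b hb
    have hne' : n * a₀ * n⁻¹ ≠ 1 := by
      intro h
      apply hne
      have : a₀ = n⁻¹ * (n * a₀ * n⁻¹) * n := by group
      rw [this, h]; group
    apply odd_mem_A hax
    · rw [← hax.centA _ ha hne', Subgroup.mem_centralizer_iff]
      intro y hy
      rw [Set.mem_singleton_iff] at hy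
      subst hy
      have hcomm : a₀ * b = b * a₀ := by
        have hcyc : IsCyclic A := hax.cycA
        have := mul_comm' (⟨a₀, ha₀⟩ : A) ⟨b, hb⟩
        exact congrArg Subtype.val this
      calc n * a₀ * n⁻¹ * (n * b * n⁻¹) = n * (a₀ * b) * n⁻¹ := by group
        _ = n * (b * a₀) * n⁻¹ := by rw [hcomm]
        _ = n * b * n⁻¹ * (n * a₀ * n⁻¹) := by group
    · rw [conj_order]; exact odd_of_mem_A hax hb
  have hne' : n * a₀ * n⁻¹ ≠ 1 := by
    intro h
    apply hne
    have : a₀ = n⁻¹ * (n * a₀ * n⁻¹) * n := by group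
    rw [this, h]; group
  rw [Subgroup.mem_set_normalizer_iff]
  intro b
  constructor
  · exact hTI n a₀ ha₀ hne ha b
  · intro hb
    have h1 : n⁻¹ * (n * a₀ * n⁻¹) * n⁻¹⁻¹ ∈ A := by
      have : n⁻¹ * (n * a₀ * n⁻¹) * n⁻¹⁻¹ = a₀ := by group
      rw [this]; exact ha₀
    have h2 := hTI n⁻¹ (n * a₀ * n⁻¹) ha hne' h1 _ hb
    have : n⁻¹ * (n * b * n⁻¹) * n⁻¹⁻¹ = b := by group
    rwa [this] at h2

end A

end Cfsg.Agent.Lib.Helper87.ReeSpCntLib
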