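import Mathlib
import Cfsg.Agent.Lib.Helper42.ReeSpStmt2
import Cfsg.Agent.Lib.Helper87.ReeSpCntLib

/-!
# S2357, piece CNT2A: three times as many elements of order `2 i` as of order `i`, for
`i ∣ (q + 1) / 4`, `i > 1`
-/

set_option autoImplicit false

namespace Cfsg.Agent.Lib.Helper87.ReeSpCNT2A

open Cfsg.Agent.Lib.Helper42.ReeSpStmt Cfsg.Agent.Lib.Helper42.ReeSpStmt2
  Cfsg.Agent.Lib.Helper87.ReeSpCntLib

universe u v

/-- `C(A)` has exactly three involutions -/
theorem card_invol_CA {G : Type u} [Group G] [Finite G] {U H A : Subgroup G} {K : Type v}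
    [Field K] [Fintype K] {m : ℕ} (hax : Ax G U H A K m) :
    Nat.card {e : G // e ∈ Subgroup.centralizer (A : Set G) ∧ orderOf e = 2} = 3 := by
  classical
  have h8 := qq_mod8 m
  have : Fact (Nat.Prime 2) := ⟨Nat.prime_two⟩
  obtain ⟨D, hD⟩ : ∃ D, D = Subgroup.centralizer (A : Set G) := ⟨_, rfl⟩
  have hcomm : ∀ x ∈ D, ∀ y ∈ D, x * y = y * x := by rw [hD]; exact hax.commCA
  have hno4 : ∀ x ∈ D, orderOf x ≠ 4 := by rw [hD]; exact hax.no4
  have hcardD : Nat.card ↥D = qq m + 1 := by rw [hD]; exact hax.cardCA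
  rw [← hD]
  -- the subgroup of the elements of square one
  let D2 : Subgroup G :=
    { carrier := {e | e ∈ D ∧ e ^ 2 = 1}
      one_mem' := ⟨D.one_mem, one_pow 2⟩
      mul_mem' := by
        rintro a b ⟨ha, ha2⟩ ⟨hb, hb2⟩
        exact ⟨D.mul_mem ha hb, by
          rw [(show Commute a b from hcomm a ha b hb).mul_pow, ha2, hb2, one_mul]⟩
      inv_mem' := by
        rintro a ⟨ha, ha2⟩
        exact ⟨D.inv_mem ha, by rw [inv_pow, ha2, inv_one]⟩ }
  have hD2mem : ∀ e : G, e ∈ D2 ↔ e ∈ D ∧ e ^ 2 = 1 := fun e => Iff.rfl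
  have hD2le : D2 ≤ D := fun e he => ((hD2mem e).mp he).1
  have hp : IsPGroup 2 D2 := by
    rintro ⟨g, hg⟩
    refine ⟨1, ?_⟩
    apply Subtype.ext
    simpa using ((hD2mem g).mp hg).2
  obtain ⟨n, hn⟩ := IsPGroup.iff_card.mp hp
  have hdvd : 2 ^ n ∣ qq m + 1 := by
    rw [← hn, ← hcardD]
    exact Subgroup.card_dvd_of_le hD2le
  have hn2 : n ≤ 2 := by
    by_contra hlt
    have h3 : 2 ^ 3 ∣ 2 ^ n := pow_dvd_pow 2 (by omega)
    have := h3.trans hdvd
    omega
  -- a subgroup of order four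
  have h4 : 2 ^ 2 ∣ Nat.card ↥D := by
    rw [hcardD]
    norm_num
    omega
  obtain ⟨K4, hK4⟩ := Sylow.exists_subgroup_card_pow_prime 2 h4
  have hK4le : K4.map D.subtype ≤ D2 := by
    rintro _ ⟨k, hk, rfl⟩
    rw [hD2mem]
    refine ⟨k.2, ?_⟩
    have h1 : orderOf (⟨k, hk⟩ : K4) ∣ 2 ^ 2 := hK4 ▸ orderOf_dvd_natCard _
    rw [Subgroup.orderOf_mk, ← Subgroup.orderOf_coe] at h1
    have h2 := hno4 (k : G) k.2
    obtain ⟨j, hj, hj'⟩ := (Nat.dvd_prime_pow Nat.prime_two).mp h1
    have hj1 : j ≤ 1 := by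
      by_contra hlt
      have : j = 2 := by omega
      rw [this] at hj'
      exact h2 (by rw [hj']; norm_num)
    have h3 : orderOf (k : G) ∣ 2 := by
      rw [hj']
      exact pow_dvd_pow_of_dvd_of_le dvd_rfl hj1 |>.trans (by norm_num)
    exact orderOf_dvd_iff_pow_eq_one.mp h3
  have hcardK : Nat.card ↥(K4.map D.subtype) = 4 := by
    rw [← Nat.card_congr (K4.equivMapOfInjective D.subtype D.subtype_injective).toEquiv, hK4]
    norm_num
  have hge : 4 ≤ 2 ^ n := by
    rw [← hn, ← hcardK]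
    exact Nat.le_of_dvd Nat.card_pos (Subgroup.card_dvd_of_le hK4le)
  have hcardD2 : Nat.card ↥D2 = 4 := by
    rw [hn]
    interval_cases n <;> simp at hge ⊢
  -- count
  have hequiv : {e : G // e ∈ D ∧ orderOf e = 2} ≃ {d : ↥D2 // ¬ d = 1} :=
    { toFun := fun e => ⟨⟨e.1, (hD2mem e.1).mpr ⟨e.2.1, by
          have h1 := pow_orderOf_eq_one e.1
          rw [e.2.2] at h1
          exact h1⟩⟩, by
          intro h
          have h1 : e.1 = 1 := congrArg Subtype.val h
          have h2 := e.2.2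
          rw [h1, orderOf_one] at h2
          omega⟩
      invFun := fun d => ⟨d.1.1, ((hD2mem d.1.1).mp d.1.2).1,
          orderOf_eq_prime ((hD2mem d.1.1).mp d.1.2).2 (fun h => d.2 (Subtype.ext h))⟩
      left_inv := fun e => rfl
      right_inv := fun d => rfl }
  have : Fintype ↥D2 := Fintype.ofFinite _
  rw [Nat.card_congr hequiv, Nat.card_eq_fintype_card, Fintype.card_subtype_compl,
    Fintype.card_subtype_eq, ← Nat.card_eq_fintype_card, hcardD2]

theorem main : Cnt2AP.{u, v} := by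
  intro G _ _ U H A K _ _ m hax hOddA i hi1 hidvd
  classical
  have h8 := qq_mod8 m
  have hiodd : Odd i := Odd.of_dvd_nat (by rw [Nat.odd_iff]; omega) hidvd
  obtain ⟨p, hp, hpi⟩ := Nat.exists_prime_and_dvd (show i ≠ 1 by omega)
  have hp2 : p ≠ 2 := by
    rintro rfl
    exact (Nat.not_even_iff_odd.mpr hiodd) (even_iff_two_dvd.mpr hpi)
  have hpq : p ∣ qq m + 1 :=
    (hpi.trans hidvd).trans (Nat.div_dvd_of_dvd (by omega : 4 ∣ qq m + 1))
  -- the involutions of the centraliser of an element of order `i`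
  have hinv : ∀ y : G, orderOf y = i →
      Nat.card {e : G // e ∈ Subgroup.centralizer ({y} : Set G) ∧ orderOf e = 2} = 3 := by
    intro y hy
    obtain ⟨x, hx⟩ := hOddA y p hp hp2 (hy ▸ hpi) hpq
    have hxA : x * y * x⁻¹ ∈ A := odd_mem_A hax hx (by rw [conj_order, hy]; exact hiodd)
    have hne : x * y * x⁻¹ ≠ 1 := by
      intro h
      have h1 := conj_order x y
      rw [h, orderOf_one, hy] at h1
      omega
    have hcent := hax.centA _ hxA hne
    rw [← card_invol_CA hax, ← hcent]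
    apply Nat.card_congr
    exact
      { toFun := fun e => ⟨x * e.1 * x⁻¹, by
          rw [Subgroup.mem_centralizer_singleton_iff]
          have h1 := Subgroup.mem_centralizer_singleton_iff.mp e.2.1
          calc x * e.1 * x⁻¹ * (x * y * x⁻¹) = x * (e.1 * y) * x⁻¹ := by group
            _ = x * (y * e.1) * x⁻¹ := by rw [h1]
            _ = x * y * x⁻¹ * (x * e.1 * x⁻¹) := by group, by
          rw [conj_order]; exact e.2.2⟩
        invFun := fun e => ⟨x⁻¹ * e.1 * x, by
          rw [Subgroup.mem_centralizer_singleton_iff]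
          have h1 := Subgroup.mem_centralizer_singleton_iff.mp e.2.1
          calc x⁻¹ * e.1 * x * y = x⁻¹ * (e.1 * (x * y * x⁻¹)) * x := by group
            _ = x⁻¹ * (x * y * x⁻¹ * e.1) * x := by rw [h1]
            _ = y * (x⁻¹ * e.1 * x) := by group, by
          have h2 := conj_order x⁻¹ e.1
          rw [inv_inv] at h2
          rw [h2]; exact e.2.2⟩
        left_inv := fun e => by
          apply Subtype.ext
          show x⁻¹ * (x * e.1 * x⁻¹) * x = e.1
          group
        right_inv := fun e => by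
          apply Subtype.ext
          show x * (x⁻¹ * e.1 * x) * x⁻¹ = e.1
          group }
  obtain ⟨j, hj⟩ := hiodd
  have hcop : Nat.Coprime (2 * j + 1) (j + 1) := by
    rw [Nat.coprime_iff_gcd_eq_one]
    have h1 := Nat.gcd_dvd_left (2 * j + 1) (j + 1)
    have h2 := Nat.gcd_dvd_right (2 * j + 1) (j + 1)
    have h3 : Nat.gcd (2 * j + 1) (j + 1) ∣ (2 * j + 1) + 1 := by
      have e : (2 * j + 1) + 1 = 2 * (j + 1) := by ring
      rw [e]
      exact h2.mul_left 2
    exact Nat.dvd_one.mp ((Nat.dvd_add_right h1).mp h3)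
  -- the square map
  have hsq : ∀ g : G, orderOf g = 2 * i → orderOf (g ^ 2) = i := by
    intro g hg
    rw [orderOf_pow' g (by norm_num), hg, Nat.gcd_eq_right (Dvd.intro i rfl)]
    exact Nat.mul_div_cancel_left i (by norm_num)
  have F1 : ∀ (y g : G), orderOf g = 2 * i → g ^ 2 = y →
      g ^ i ∈ Subgroup.centralizer ({y} : Set G) ∧ orderOf (g ^ i) = 2 := by
    intro y g hg hgy
    constructor
    · rw [Subgroup.mem_centralizer_singleton_iff, ← hgy]
      exact pow_mul_comm g i 2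
    · rw [orderOf_pow' g (by omega), hg, Nat.gcd_eq_right (Dvd.intro_left 2 rfl)]
      exact Nat.mul_div_cancel 2 (by omega)
  have F2 : ∀ (y e : G), orderOf y = i → e ∈ Subgroup.centralizer ({y} : Set G) →
      orderOf e = 2 → orderOf (e * y ^ (j + 1)) = 2 * i ∧ (e * y ^ (j + 1)) ^ 2 = y ∧
        (e * y ^ (j + 1)) ^ i = e := by
    intro y e hy he he2
    have hc : Commute e (y ^ (j + 1)) :=
      (show Commute e y from Subgroup.mem_centralizer_singleton_iff.mp he).pow_right (j + 1)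
    have hoa : orderOf (y ^ (j + 1)) = i := by
      rw [orderOf_pow' y (by omega), hy, hj, hcop.gcd_eq_one, Nat.div_one]
    have hyi : y ^ (2 * j + 1) = 1 := by
      rw [← hj, ← hy]
      exact pow_orderOf_eq_one y
    have he2' : e ^ 2 = 1 := by
      rw [← he2]
      exact pow_orderOf_eq_one e
    refine ⟨?_, ?_, ?_⟩
    · rw [hc.orderOf_mul_eq_mul_orderOf_of_coprime (by
        rw [he2, hoa, hj]
        exact (Nat.coprime_two_left.mpr ⟨j, rfl⟩)), he2, hoa]
    · rw [hc.mul_pow, he2', one_mul, ← pow_mul]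
      have e1 : (j + 1) * 2 = (2 * j + 1) + 1 := by ring
      rw [e1, pow_succ, hyi, one_mul]
    · rw [hc.mul_pow, ← pow_mul, hj]
      have e1 : (j + 1) * (2 * j + 1) = (2 * j + 1) * (j + 1) := by ring
      rw [e1, pow_mul, hyi, one_pow, mul_one, pow_succ, pow_mul, he2', one_pow, one_mul]
  have F3 : ∀ (y g : G), orderOf g = 2 * i → g ^ 2 = y → g ^ i * y ^ (j + 1) = g := by
    intro y g hg hgy
    rw [← hgy, ← pow_mul, ← pow_add]
    have e1 : i + 2 * (j + 1) = 2 * i + 1 := by omega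
    rw [e1, pow_succ, ← hg, pow_orderOf_eq_one, one_mul]
  -- fibre counting
  let f : {g : G // orderOf g = 2 * i} → {y : G // orderOf y = i} :=
    fun g => ⟨g.1 ^ 2, hsq g.1 g.2⟩
  have hfib : ∀ y : {y : G // orderOf y = i},
      Nat.card {x : {g : G // orderOf g = 2 * i} // f x = y} = 3 := by
    intro y
    rw [← hinv y.1 y.2]
    apply Nat.card_congr
    exact
      { toFun := fun x => ⟨x.1.1 ^ i, F1 y.1 x.1.1 x.1.2 (congrArg Subtype.val x.2)⟩
        invFun := fun e => ⟨⟨e.1 * y.1 ^ (j + 1), (F2 y.1 e.1 y.2 e.2.1 e.2.2).1⟩,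
          Subtype.ext (F2 y.1 e.1 y.2 e.2.1 e.2.2).2.1⟩
        left_inv := fun x => by
          apply Subtype.ext
          apply Subtype.ext
          exact F3 y.1 x.1.1 x.1.2 (congrArg Subtype.val x.2)
        right_inv := fun e => by
          apply Subtype.ext
          exact (F2 y.1 e.1 y.2 e.2.1 e.2.2).2.2 }
  have : Fintype {y : G // orderOf y = i} := Fintype.ofFinite _
  rw [Nat.card_congr (Equiv.sigmaFiberEquiv f).symm, Nat.card_sigma]
  simp only [hfib]
  rw [Finset.sum_const, Finset.card_univ, smul_eq_mul, ← Nat.card_eq_fintype_card, mul_comm]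

end Cfsg.Agent.Lib.Helper87.ReeSpCNT2A
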