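import Mathlib
import Cfsg.Agent.Lib.Helper42.ReeSpStmt2
import Cfsg.Agent.Lib.Helper87.ReeSpCntLib

/-!
# S2357, piece CNTA: the number of elements of order `i ∣ (q + 1) / 4`, `i > 1`
-/

set_option autoImplicit false

namespace Cfsg.Agent.Lib.Helper87.ReeSpCNTA

open Cfsg.Agent.Lib.Helper42.ReeSpStmt Cfsg.Agent.Lib.Helper42.ReeSpStmt2
  Cfsg.Agent.Lib.Helper87.ReeSpCntLib

universe u v

theorem main : CntAP.{u, v} := by
  intro G _ _ U H A K _ _ m hax hNA hOddA i hi1 hidvd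
  unfold NAC at hNA
  have h8 := qq_mod8 m
  have hcyc : IsCyclic A := hax.cycA
  have hiodd : Odd i := Odd.of_dvd_nat (by rw [Nat.odd_iff]; omega) hidvd
  obtain ⟨p, hp, hpi⟩ := Nat.exists_prime_and_dvd (show i ≠ 1 by omega)
  have hp2 : p ≠ 2 := by
    rintro rfl
    exact (Nat.not_even_iff_odd.mpr hiodd) (even_iff_two_dvd.mpr hpi)
  have hpq : p ∣ qq m + 1 :=
    (hpi.trans hidvd).trans (Nat.div_dvd_of_dvd (by omega : 4 ∣ qq m + 1))
  have hconj : ∀ g : G, orderOf g = i → ∃ x : G, x * g * x⁻¹ ∈ A := by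
    intro g hg
    obtain ⟨x, hx⟩ := hOddA g p hp hp2 (hg ▸ hpi) hpq
    exact ⟨x, odd_mem_A hax hx (by rw [conj_order, hg]; exact hiodd)⟩
  have hTI : ∀ g s : G, s ∈ A → orderOf s = i → g * s * g⁻¹ ∈ A →
      g ∈ Subgroup.normalizer (A : Set G) := by
    intro g s hs hsi hgs
    refine norm_A hax hs ?_ hgs
    rintro rfl
    rw [orderOf_one] at hsi
    omega
  have hcount := ti_order_count A hcyc (by rw [hax.cardA]; exact hidvd) hconj hTI
  rw [hNA, hax.card] at hcount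
  have hq3 : qq m ^ 3 + 1 = (qq m + 1) * (qq m ^ 2 - qq m + 1) := by
    obtain ⟨k, hk⟩ : ∃ k, qq m = k + 1 := ⟨qq m - 1, by omega⟩
    rw [hk]
    have e : (k + 1) ^ 2 - (k + 1) = k ^ 2 + k := by
      apply Nat.sub_eq_of_eq_add
      ring
    rw [e]
    ring
  rw [hq3] at hcount
  obtain ⟨Q1, hQ1⟩ : ∃ Q1, Q1 = qq m - 1 := ⟨_, rfl⟩
  obtain ⟨R, hR⟩ : ∃ R, R = qq m ^ 2 - qq m + 1 := ⟨_, rfl⟩
  obtain ⟨q, hq⟩ : ∃ q, q = qq m := ⟨_, rfl⟩
  rw [← hq] at hcount hQ1 hR ⊢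
  rw [← hQ1, ← hR] at hcount ⊢
  apply Nat.eq_of_mul_eq_mul_right (show 0 < q + 1 by omega)
  calc 6 * Nat.card {g : G // orderOf g = i} * (q + 1)
      = Nat.card {g : G // orderOf g = i} * (6 * (q + 1)) := by ring
    _ = q ^ 3 * Q1 * ((q + 1) * R) * Nat.totient i := hcount
    _ = Nat.totient i * q ^ 3 * Q1 * R * (q + 1) := by ring

end Cfsg.Agent.Lib.Helper87.ReeSpCNTA
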