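import Mathlib
import Cfsg.Agent.Lib.Helper42.ReeSpStmt2
import Cfsg.Agent.Lib.Helper87.ReeSpCntLib

/-!
# S2357, piece CNTH: the number of elements of order `i ∣ q - 1`, `i > 2`
-/

set_option autoImplicit false

namespace Cfsg.Agent.Lib.Helper87.ReeSpCNTH

open Cfsg.Agent.Lib.Helper42.ReeSpStmt Cfsg.Agent.Lib.Helper42.ReeSpStmt2
  Cfsg.Agent.Lib.Helper87.ReeSpCntLib

universe u v

theorem main : CntHP.{u, v} := by
  intro G _ _ U H A K _ _ m hax hNH hOddH i hi2 hidvd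
  unfold NHC at hNH
  have h8 := qq_mod8 m
  have hcyc : IsCyclic H := hax.cycH
  have hHcomm : ∀ a ∈ H, ∀ b ∈ H, a * b = b * a := by
    intro a ha b hb
    have := mul_comm' (⟨a, ha⟩ : H) ⟨b, hb⟩
    exact congrArg Subtype.val this
  have h4 : ¬ 4 ∣ i := by
    intro h
    have := Dvd.dvd.trans h hidvd
    omega
  obtain ⟨p, hp, hp2, hpi⟩ : ∃ p, p.Prime ∧ p ≠ 2 ∧ p ∣ i := by
    by_contra hcon
    have hi0 : i ≠ 0 := by omega
    have h1 := Nat.eq_prime_pow_of_unique_prime_dvd hi0 (p := 2) (fun {d} hd hdi => by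
      by_contra h
      exact hcon ⟨d, hd, h, hdi⟩)
    obtain ⟨k, hk⟩ : ∃ k, i = 2 ^ k := ⟨_, h1⟩
    have hk2 : 2 ≤ k := by
      by_contra hk2
      have h3 : k = 0 ∨ k = 1 := by omega
      rcases h3 with rfl | rfl <;> simp at hk <;> omega
    apply h4
    rw [hk]
    exact pow_dvd_pow 2 hk2
  have hconj : ∀ g : G, orderOf g = i → ∃ x : G, x * g * x⁻¹ ∈ H := by
    intro g hg
    exact hOddH g p hp hp2 (hg ▸ hpi) (hpi.trans hidvd)
  have hTI : ∀ g s : G, s ∈ H → orderOf s = i → g * s * g⁻¹ ∈ H →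
      g ∈ Subgroup.normalizer (H : Set G) := by
    intro g s hs hsi hgs
    have hy : orderOf (s ^ 2) ≠ 1 ∧ Odd (orderOf (s ^ 2)) := by
      rw [orderOf_pow' s (by norm_num), hsi]
      rcases Nat.even_or_odd i with he | ho
      · obtain ⟨j, hj⟩ := he
        have hg2 : Nat.gcd i 2 = 2 := Nat.gcd_eq_right (even_iff_two_dvd.mp ⟨j, hj⟩)
        rw [hg2]
        have e : i / 2 = j := by omega
        rw [e]
        constructor
        · omega
        · rw [Nat.odd_iff]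
          omega
      · have hg1 : Nat.gcd i 2 = 1 := Nat.Coprime.gcd_eq_one (Nat.coprime_two_right.mpr ho)
        rw [hg1, Nat.div_one]
        exact ⟨by omega, ho⟩
    have hy1 : s ^ 2 ≠ 1 := fun h => hy.1 (by rw [h, orderOf_one])
    have hyH : s ^ 2 ∈ H := H.pow_mem hs 2
    have hy' : g * s ^ 2 * g⁻¹ ∈ H := by
      rw [← conj_pow]
      exact H.pow_mem hgs 2
    have hy'1 : g * s ^ 2 * g⁻¹ ≠ 1 := by
      intro h
      apply hy1
      have e : s ^ 2 = g⁻¹ * (g * s ^ 2 * g⁻¹) * g := by group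
      rw [e, h]
      group
    have hy'odd : Odd (orderOf (g * s ^ 2 * g⁻¹)) := by
      rw [conj_order]
      exact hy.2
    rw [Subgroup.mem_set_normalizer_iff]
    intro h
    constructor
    · intro hh
      apply hax.centH _ hy' hy'1 hy'odd
      have hc := hHcomm h hh (s ^ 2) hyH
      calc g * h * g⁻¹ * (g * s ^ 2 * g⁻¹) = g * (h * s ^ 2) * g⁻¹ := by group
        _ = g * (s ^ 2 * h) * g⁻¹ := by rw [hc]
        _ = g * s ^ 2 * g⁻¹ * (g * h * g⁻¹) := by group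
    · intro hh
      apply hax.centH _ hyH hy1 hy.2
      have hc := hHcomm _ hh _ hy'
      calc h * s ^ 2 = g⁻¹ * (g * h * g⁻¹ * (g * s ^ 2 * g⁻¹)) * g := by group
        _ = g⁻¹ * (g * s ^ 2 * g⁻¹ * (g * h * g⁻¹)) * g := by rw [hc]
        _ = s ^ 2 * h := by group
  have hcount := ti_order_count H hcyc (by rw [hax.cardH]; exact hidvd) hconj hTI
  rw [hNH, hax.card] at hcount
  have hq1 : 0 < qq m - 1 := by omega
  obtain ⟨Q1, hQ1⟩ : ∃ Q1, Q1 = qq m - 1 := ⟨_, rfl⟩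
  obtain ⟨q, hq⟩ : ∃ q, q = qq m := ⟨_, rfl⟩
  rw [← hq] at hcount hQ1 hq1 ⊢
  rw [← hQ1] at hcount hq1
  apply Nat.eq_of_mul_eq_mul_right hq1
  calc 2 * Nat.card {g : G // orderOf g = i} * Q1
      = Nat.card {g : G // orderOf g = i} * (2 * Q1) := by ring
    _ = q ^ 3 * Q1 * (q ^ 3 + 1) * Nat.totient i := hcount
    _ = Nat.totient i * q ^ 3 * (q ^ 3 + 1) * Q1 := by ring

end Cfsg.Agent.Lib.Helper87.ReeSpCNTH
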