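import Mathlib
import Cfsg.Agent.Lib.Helper83.S38Stmt

set_option autoImplicit false

/-!
# S1538 / CONJW (helper87, second seat): `W₁` is a Sylow `p`-subgroup of `M`
-/

namespace Cfsg.Agent.Lib.Helper87.S38CONJW

open Cfsg Cfsg.Agent.Lib.Helper83.S38Stmt

universe u

theorem main : ConjW.{u} := by
  intro G _ _ M W₁ U W₂ ctx k hk hord
  have hW₁M : W₁ ≤ M := ctx.hP.W₁_compl.2.1
  obtain ⟨p, hp⟩ : ∃ p, p = Nat.card W₁ := ⟨_, rfl⟩
  have hpr : p.Prime := hp ▸ ctx.hpr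
  haveI : Fact p.Prime := ⟨hpr⟩
  have hcardW : Nat.card (W₁.subgroupOf M) = p := by
    rw [hp]; exact Nat.card_congr (Subgroup.subgroupOfEquivOfLe hW₁M).toEquiv
  have hPW : IsPGroup p (W₁.subgroupOf M) :=
    IsPGroup.of_card (n := 1) (by rw [hcardW, pow_one])
  have hidx : ¬ p ∣ (W₁.subgroupOf M).index := by
    have h := ctx.hP.W₁_hall
    rw [← hp] at h
    intro hdvd
    have h' : p ∣ W₁.relIndex M := hdvd
    exact (Nat.Prime.coprime_iff_not_dvd hpr).mp h h'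
  obtain ⟨S, hS⟩ : ∃ S : Sylow p M, (S : Subgroup M) = W₁.subgroupOf M :=
    ⟨hPW.toSylow hidx, rfl⟩
  have hk'ord : orderOf (⟨k, hk⟩ : M) = p := by
    rw [hp, ← hord]
    exact Subgroup.orderOf_mk k hk
  have hPk : IsPGroup p (Subgroup.zpowers (⟨k, hk⟩ : M)) :=
    IsPGroup.of_card (n := 1) (by rw [Nat.card_zpowers, hk'ord, pow_one])
  obtain ⟨T, hT⟩ := hPk.exists_le_sylow
  obtain ⟨m, hm⟩ := MulAction.exists_smul_eq M T S
  refine ⟨(m : G), m.2, ?_⟩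
  have h1 : (⟨k, hk⟩ : M) ∈ (T : Subgroup M) := hT (Subgroup.mem_zpowers _)
  have h2 : m * (⟨k, hk⟩ : M) * m⁻¹ ∈ ((m • T : Sylow p M) : Subgroup M) := by
    rw [Sylow.coe_subgroup_smul]
    have := Subgroup.smul_mem_pointwise_smul (⟨k, hk⟩ : M) (MulAut.conj m) (T : Subgroup M) h1
    simpa [MulAut.smul_def, MulAut.conj_apply] using this
  rw [hm, hS] at h2
  exact Subgroup.mem_subgroupOf.mp h2

end Cfsg.Agent.Lib.Helper87.S38CONJW
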