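import Mathlib
import Cfsg.Agent.Lib.Helper9.S63Stmt

/-!
S1363 piece CYCNORM: a subgroup of a cyclic subgroup `V` is normalized by `N_G(V)`.
-/

set_option autoImplicit false

namespace Cfsg.Agent.Lib.Helper87.S63CYCNORM

universe u

/-- subgroups of the same order of a finite cyclic group are equal -/
theorem eq_of_card_eq_cyc {C : Type*} [Group C] [Finite C] [IsCyclic C]
    (H K : Subgroup C) (h : Nat.card H = Nat.card K) : H = K := by
  classical
  haveI : Fintype C := Fintype.ofFinite C
  have hd : 0 < Nat.card H := Nat.card_pos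
  have hT : Set.ncard {a : C | a ^ Nat.card H = 1} ≤ Nat.card H := by
    have h1 : ({a : C | a ^ Nat.card H = 1} : Set C) =
        ((Finset.univ.filter (fun a : C => a ^ Nat.card H = 1) : Finset C) : Set C) := by
      ext a
      simp
    rw [h1, Set.ncard_coe_finset]
    exact IsCyclic.card_pow_eq_one_le hd
  have key : ∀ J : Subgroup C, Nat.card J = Nat.card H →
      (J : Set C) = {a : C | a ^ Nat.card H = 1} := by
    intro J hJ
    apply Set.eq_of_subset_of_ncard_le
    · intro x hx
      have h2 : (⟨x, hx⟩ : ↥J) ^ Nat.card ↥J = 1 := pow_card_eq_one'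
      have h3 : x ^ Nat.card ↥J = 1 := congrArg Subtype.val h2
      rw [hJ] at h3
      exact h3
    · have h4 : (J : Set C).ncard = Nat.card H := by
        rw [← hJ]
        exact (Nat.card_coe_set_eq (J : Set C)).symm
      rw [h4]
      exact hT
    · exact Set.toFinite _
  exact SetLike.coe_injective ((key H rfl).trans (key K h.symm).symm)

theorem conj_le {G : Type u} [Group G] [Finite G] (V A : Subgroup G) (hV : IsCyclic V)
    (hAV : A ≤ V) (g : G) (hg : ∀ v ∈ V, g * v * g⁻¹ ∈ V) :
    ∀ a ∈ A, g * a * g⁻¹ ∈ A := by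
  haveI := hV
  have hBV : A.map (MulAut.conj g).toMonoidHom ≤ V := by
    rintro _ ⟨a, ha, rfl⟩
    exact hg a (hAV ha)
  have hcard : Nat.card (A.map (MulAut.conj g).toMonoidHom) = Nat.card A :=
    Subgroup.card_map_of_injective (MulAut.conj g).injective
  have h1 : (A.map (MulAut.conj g).toMonoidHom).subgroupOf V = A.subgroupOf V := by
    apply eq_of_card_eq_cyc
    rw [Nat.card_congr (Subgroup.subgroupOfEquivOfLe hBV).toEquiv,
      Nat.card_congr (Subgroup.subgroupOfEquivOfLe hAV).toEquiv, hcard]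
  intro a ha
  have h2 : g * a * g⁻¹ ∈ A.map (MulAut.conj g).toMonoidHom := ⟨a, ha, rfl⟩
  have h3 : (⟨g * a * g⁻¹, hBV h2⟩ : V) ∈ (A.map (MulAut.conj g).toMonoidHom).subgroupOf V :=
    Subgroup.mem_subgroupOf.mpr h2
  rw [h1] at h3
  exact Subgroup.mem_subgroupOf.mp h3

theorem main : Cfsg.Agent.Lib.Helper9.S63Stmt.CycNorm.{u} := by
  intro G _ _ V A hV hAV g hg
  rw [Subgroup.mem_normalizer_iff] at hg ⊢
  intro n
  refine ⟨conj_le V A hV hAV g (fun v hv => (hg v).mp hv) n, fun hn => ?_⟩
  have hg' : ∀ v ∈ V, g⁻¹ * v * g⁻¹⁻¹ ∈ V := by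
    intro v hv
    rw [hg]
    simpa [mul_assoc] using hv
  have := conj_le V A hV hAV g⁻¹ hg' _ hn
  simpa [mul_assoc] using this
end Cfsg.Agent.Lib.Helper87.S63CYCNORM
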