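import Mathlib
import Cfsg.Agent.Lib.Helper45.S9Stmt
import Cfsg.Agent.Lib.Helper60.S8GLEMB
import Cfsg.Agent.Lib.Helper76.S8Glue

/-!
# S3590 / AGL (second seat): `GL_k` on `H^k`, `A ↦ diag (A, A⁻ᵀ)`, as an affine isometry with
`w = 0`; `rank (psi A - 1) = 2 rank (A - 1)` is even
-/

set_option autoImplicit false

namespace Cfsg.Agent.Lib.Helper87.S9AGL

open Cfsg.Agent.Lib.Helper45.EOStmt Cfsg.Agent.Lib.Helper45.S8Stmt Cfsg.Agent.Lib.Helper45.S9Stmt
open Matrix

universe u

/-- the product of two submodules is linearly equivalent to the product of the submodules -/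
def prodSubEquiv {R : Type*} {M N : Type*} [Semiring R] [AddCommMonoid M] [AddCommMonoid N]
    [Module R M] [Module R N] (p : Submodule R M) (q : Submodule R N) :
    ↥(p.prod q) ≃ₗ[R] ↥p × ↥q where
  toFun x := (⟨x.1.1, (Submodule.mem_prod.mp x.2).1⟩, ⟨x.1.2, (Submodule.mem_prod.mp x.2).2⟩)
  invFun y := ⟨(y.1.1, y.2.1), Submodule.mem_prod.mpr ⟨y.1.2, y.2.2⟩⟩
  map_add' _ _ := rfl
  map_smul' _ _ := rfl
  left_inv _ := rfl
  right_inv _ := rfl

theorem rank_fromBlocks_diag {F : Type u} [Field F] {m n : Type} [Fintype m] [Fintype n]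
    [DecidableEq m] [DecidableEq n] (B : Matrix m m F) (C : Matrix n n F) :
    (fromBlocks B 0 0 C).rank = B.rank + C.rank := by
  obtain ⟨e, he⟩ : ∃ e : (m ⊕ n → F) ≃ₗ[F] (m → F) × (n → F),
      e = LinearEquiv.sumArrowLequivProdArrow m n F F := ⟨_, rfl⟩
  have hcomp : (fromBlocks B 0 0 C).mulVecLin =
      e.symm.toLinearMap ∘ₗ (B.mulVecLin.prodMap C.mulVecLin) ∘ₗ e.toLinearMap := by
    apply LinearMap.ext
    intro v
    apply e.injective
    rw [LinearMap.comp_apply, LinearMap.comp_apply, LinearEquiv.coe_coe, LinearEquiv.coe_coe,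
      LinearEquiv.apply_symm_apply, Matrix.mulVecLin_apply, fromBlocks_mulVec, he]
    ext i
    · simp [LinearEquiv.sumArrowLequivProdArrow]
      rfl
    · simp [LinearEquiv.sumArrowLequivProdArrow]
      rfl
  unfold Matrix.rank
  rw [hcomp, LinearMap.range_comp, LinearMap.range_comp, LinearEquiv.range, Submodule.map_top,
    LinearMap.range_prodMap]
  have h1 := LinearEquiv.finrank_map_eq e.symm
    ((LinearMap.range B.mulVecLin).prod (LinearMap.range C.mulVecLin))
  have h2 := (prodSubEquiv (LinearMap.range B.mulVecLin) (LinearMap.range C.mulVecLin)).finrank_eq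
  rw [Module.finrank_prod] at h2
  rw [← h2, ← h1]

theorem main : AGL.{u} := by
  intro F _ k A
  obtain ⟨g, hg⟩ : ∃ g, g = Cfsg.Agent.Lib.Helper60.S8GLEMB.psi F k A := ⟨_, rfl⟩
  refine ⟨Cfsg.Agent.Lib.Helper76.S8Glue.glEquiv (Fin k ⊕ Fin k) g, 0, ?_, ?_, ?_⟩
  · intro v
    rw [Cfsg.Agent.Lib.Helper76.S8Glue.glEquiv_apply]
    have hmem : g ∈ Cfsg.isometryGroup F (Cfsg.quadFormPlus k F) := by
      rw [hg]; exact Cfsg.Agent.Lib.Helper60.S8GLEMB.psi_mem F k A
    exact (Cfsg.Agent.Lib.Helper76.S8Glue.mem_iso _ g).1 hmem v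
  · intro j
    constructor
    · rintro ⟨h1, -⟩
      rw [← map_pow, hg, ← map_pow] at h1
      have h2 : Cfsg.Agent.Lib.Helper60.S8GLEMB.psi F k (A ^ j) = 1 :=
        (Cfsg.Agent.Lib.Helper76.S8Glue.glEquiv (Fin k ⊕ Fin k)).injective
          (h1.trans (map_one _).symm)
      have h3 : A ^ j = 1 :=
        Cfsg.Agent.Lib.Helper60.S8GLEMB.psi_injective F k (h2.trans (map_one _).symm)
      exact orderOf_dvd_of_pow_eq_one h3
    · intro hdvd
      have h3 : A ^ j = 1 := orderOf_dvd_iff_pow_eq_one.mp hdvd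
      refine ⟨?_, ?_⟩
      · rw [← map_pow, hg, ← map_pow, h3, map_one, map_one]
      · apply Finset.sum_eq_zero
        intro i _
        exact map_zero _
  · have hlin : (Cfsg.Agent.Lib.Helper76.S8Glue.glEquiv (Fin k ⊕ Fin k) g).toLinearMap -
        LinearMap.id = ((g : Matrix (Fin k ⊕ Fin k) (Fin k ⊕ Fin k) F) - 1).mulVecLin := by
      apply LinearMap.ext
      intro v
      rw [LinearMap.sub_apply, LinearEquiv.coe_coe,
        Cfsg.Agent.Lib.Helper76.S8Glue.glEquiv_apply, LinearMap.id_apply, Matrix.mulVecLin_apply,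
        Matrix.sub_mulVec, Matrix.one_mulVec]
    rw [hlin]
    have hM : (g : Matrix (Fin k ⊕ Fin k) (Fin k ⊕ Fin k) F) - 1 =
        fromBlocks (A.val - 1) 0 0 ((A⁻¹).valᵀ - 1) := by
      rw [hg, Cfsg.Agent.Lib.Helper60.S8GLEMB.psi_val, ← fromBlocks_one, sub_eq_add_neg,
        fromBlocks_neg, fromBlocks_add]
      simp [sub_eq_add_neg]
    have hrk : Module.finrank F (LinearMap.range
        ((g : Matrix (Fin k ⊕ Fin k) (Fin k ⊕ Fin k) F) - 1).mulVecLin) =
        ((g : Matrix (Fin k ⊕ Fin k) (Fin k ⊕ Fin k) F) - 1).rank := rfl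
    rw [hrk, hM, rank_fromBlocks_diag]
    have hr : ((A⁻¹).valᵀ - 1).rank = (A.val - 1).rank := by
      have hinv : (A⁻¹).val * A.val = 1 := Units.inv_mul A
      have h1 : (A⁻¹).valᵀ - 1 = ((-(A⁻¹).val) * (A.val - 1))ᵀ := by
        rw [Matrix.neg_mul, Matrix.mul_sub, Matrix.mul_one, hinv, neg_sub, transpose_sub,
          transpose_one]
      rw [h1, rank_transpose, rank_mul_eq_right_of_isUnit_det]
      rw [Matrix.det_neg]
      have hdet : IsUnit ((A⁻¹).val).det := by
        have := congrArg Matrix.det hinv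
        rw [Matrix.det_mul, Matrix.det_one] at this
        exact IsUnit.of_mul_eq_one _ this
      exact (IsUnit.pow _ (isUnit_one.neg)).mul hdet
    rw [hr, ← two_mul, Nat.cast_mul]
    have h2 : ((2 : ℕ) : ZMod 2) = 0 := by decide
    rw [h2, zero_mul]

end Cfsg.Agent.Lib.Helper87.S9AGL
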