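import Mathlib
import Cfsg.Agent.Lib.Helper40.SFStmt

/-!
# S5664 / NF (second seat): normal form of rank-one data
-/

set_option autoImplicit false

namespace Cfsg.Agent.Lib.Helper87.SFNF

open Cfsg.Agent.Lib.Helper40.SFStmt Cfsg.Agent.Lib.Helper94.Basic

universe u

theorem main : NF.{u} := by
  intro F L _ _ _ _ n c g hg v u hrk
  -- the range of `θ` is the `F`-line through `ℓ₀`
  obtain ⟨θ, hθ⟩ : ∃ θ : L →ₗ[F] L, θ = theta g v u := ⟨_, rfl⟩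
  have hθapp : ∀ a : L, θ a = Cfsg.sympForm n L (g (a • v)) u := by
    intro a; rw [hθ]; rfl
  have hrk' : Module.finrank F (LinearMap.range θ) = 1 := by rw [hθ]; exact hrk
  obtain ⟨⟨ℓ₀, hℓ₀mem⟩, hℓ₀ne, hspan⟩ := finrank_eq_one_iff'.mp hrk'
  have hℓ₀0 : ℓ₀ ≠ 0 := by
    intro h
    apply hℓ₀ne
    exact Subtype.ext h
  have hline : ∀ a : L, ∃ s : F, θ a = s • ℓ₀ := by
    intro a
    obtain ⟨s, hs⟩ := hspan ⟨θ a, LinearMap.mem_range_self θ a⟩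
    refine ⟨s, ?_⟩
    have := congrArg Subtype.val hs
    exact this.symm
  -- a functional `π` with `π ℓ₀ = 1`, of the form `x ↦ τ (x * b)`
  obtain ⟨y, hy⟩ : ∃ y : L, c.τ y ≠ 0 := by
    by_contra hcon
    apply c.hτ
    apply LinearMap.ext
    intro y
    by_contra hy
    exact hcon ⟨y, hy⟩
  obtain ⟨b, hb⟩ : ∃ b : L, c.τ (ℓ₀ * b) = 1 := by
    refine ⟨ℓ₀⁻¹ * ((c.τ y)⁻¹ • y), ?_⟩
    rw [← mul_assoc, mul_inv_cancel₀ hℓ₀0, one_mul, map_smul, smul_eq_mul, inv_mul_cancel₀ hy]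
  obtain ⟨ϑ, hϑ⟩ : ∃ ϑ : L →ₗ[F] F, ∀ a, ϑ a = c.τ (θ a * b) :=
    ⟨(c.τ.comp (LinearMap.mulRight F b)).comp θ, fun a => rfl⟩
  have hθϑ : ∀ a : L, θ a = ϑ a • ℓ₀ := by
    intro a
    obtain ⟨s, hs⟩ := hline a
    have h1 : ϑ a = s := by
      rw [hϑ, hs, smul_mul_assoc, map_smul, hb, smul_eq_mul, mul_one]
    rw [h1]; exact hs
  have hϑne : ϑ ≠ 0 := by
    intro h0
    obtain ⟨a₀, ha₀⟩ := hℓ₀mem
    have h1 : θ a₀ = ϑ a₀ • ℓ₀ := hθϑ a₀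
    rw [h0, LinearMap.zero_apply, zero_smul, ha₀] at h1
    exact hℓ₀0 h1
  -- the `L`-transvection
  obtain ⟨a, ha⟩ : ∃ a : L, c.τ (a * ℓ₀ * ℓ₀) ≠ 0 := by
    refine ⟨y * (ℓ₀ * ℓ₀)⁻¹, ?_⟩
    have : y * (ℓ₀ * ℓ₀)⁻¹ * ℓ₀ * ℓ₀ = y := by
      field_simp
    rw [this]; exact hy
  obtain ⟨t, ht⟩ : ∃ t : W n L ≃ₗ[F] W n L, t = (ltv u a).restrictScalars F := ⟨_, rfl⟩
  have htM : t ∈ c.M := by rw [ht]; exact c.hsub (ltv u a) (ltv_isom u a)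
  have htapp : ∀ x : W n L, t x = x + (a * Cfsg.sympForm n L x u) • u := by
    intro x; rw [ht]; rfl
  have hγM : g⁻¹ * t * g ∈ c.M := c.M.mul_mem (c.M.mul_mem (c.M.inv_mem hg) htM) hg
  have hγapp : ∀ x : W n L, (g⁻¹ * t * g) x = g.symm (t (g x)) := fun x => rfl
  refine ⟨g⁻¹ * t * g, hγM, ϑ, -c.τ (a * ℓ₀ * ℓ₀), hϑne, neg_ne_zero.mpr ha, ?_, ?_⟩
  · intro a' ha'
    rw [hγapp, htapp, ← hθapp, hθϑ a', ha', zero_smul, mul_zero, zero_smul, add_zero,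
      LinearEquiv.symm_apply_apply]
  · intro a₁ a₂
    rw [hγapp]
    -- `f (g⁻¹ z) y = f z (g y)`
    have hiso : ∀ z y : W n L, ff c.τ (g.symm z) y = ff c.τ z (g y) := by
      intro z y
      have := c.isom g hg (g.symm z) y
      rw [LinearEquiv.apply_symm_apply] at this
      exact this.symm
    rw [hiso, htapp, ff_add_left, c.isom g hg, ← hθapp]
    have h1 : ff c.τ (a₁ • v) (a₂ • v) = 0 := by
      rw [ff_lsmul_left, sympForm_smul_right, sympForm_self, mul_zero, mul_zero, map_zero]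
    have h2 : ff c.τ ((a * θ a₁) • u) (g (a₂ • v)) = -(c.τ (a * ℓ₀ * ℓ₀) * ϑ a₁ * ϑ a₂) := by
      rw [ff_lsmul_left, sympForm_skew, ← hθapp, hθϑ a₁, hθϑ a₂]
      have h3 : a * ϑ a₁ • ℓ₀ * -(ϑ a₂ • ℓ₀) = -((ϑ a₁ * ϑ a₂) • (a * ℓ₀ * ℓ₀)) := by
        rw [Algebra.smul_def, Algebra.smul_def, Algebra.smul_def, map_mul]
        ring
      rw [h3, map_neg, map_smul, smul_eq_mul]
      ring
    rw [h1, h2]
    ring

end Cfsg.Agent.Lib.Helper87.SFNF
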