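import Mathlib
import Cfsg.Agent.Lib.Helper83.SgStmt

set_option autoImplicit false

/-! Piece [C0] of S5072 (Siegel transvection groups): mutually orthogonal singular lines give
commuting groups.  Also the shared computation used by piece [R1A]. -/

open Matrix

namespace Cfsg.Agent.Lib.Helper87.SgC0

open Cfsg Cfsg.Agent.Lib.Helper83.SgStmt

universe u

section Basic

variable (m : ℕ) (F : Type u) [Field F]

theorem bp_eq (v w : Vec m F) :
    bp m F v w = ∑ i : Fin (m + 3), (v (.inl i) * w (.inr i) + w (.inl i) * v (.inr i)) := by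
  unfold bp Cfsg.quadFormPlus
  rw [← Finset.sum_sub_distrib, ← Finset.sum_sub_distrib]
  apply Finset.sum_congr rfl
  intro i _
  simp only [Pi.add_apply]
  ring

theorem bp_comm (v w : Vec m F) : bp m F v w = bp m F w v := by
  rw [bp_eq, bp_eq]
  apply Finset.sum_congr rfl
  intro i _
  ring

theorem bp_add_left (v w x : Vec m F) : bp m F (v + w) x = bp m F v x + bp m F w x := by
  rw [bp_eq, bp_eq, bp_eq, ← Finset.sum_add_distrib]
  apply Finset.sum_congr rfl
  intro i _
  simp only [Pi.add_apply]
  ring

theorem bp_smul_left (c : F) (v x : Vec m F) : bp m F (c • v) x = c * bp m F v x := by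
  rw [bp_eq, bp_eq, Finset.mul_sum]
  apply Finset.sum_congr rfl
  intro i _
  simp only [Pi.smul_apply, smul_eq_mul]
  ring

theorem bp_sub_left (v w x : Vec m F) : bp m F (v - w) x = bp m F v x - bp m F w x := by
  have h := bp_add_left m F (v - w) w x
  rw [sub_add_cancel] at h
  rw [h]; ring

theorem bp_self {p : Vec m F} (hp : Cfsg.quadFormPlus (m + 3) F p = 0) : bp m F p p = 0 := by
  rw [bp_eq]
  unfold Cfsg.quadFormPlus at hp
  have h : ∑ i : Fin (m + 3), (p (.inl i) * p (.inr i) + p (.inl i) * p (.inr i)) =
      ∑ i : Fin (m + 3), p (.inl i) * p (.inr i) + ∑ i : Fin (m + 3), p (.inl i) * p (.inr i) :=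
    Finset.sum_add_distrib
  rw [h, hp, add_zero]

theorem bp_line {p r : Vec m F} (h : IsLine m F p r) : bp m F p r = 0 := by
  unfold bp
  rw [h.2.1, h.2.2.1, h.2.2.2]; ring

/-- the nilpotent map of the Siegel transvection -/
theorem bp_N (p r v x : Vec m F) :
    bp m F (bp m F v r • p - bp m F v p • r) x =
      bp m F v r * bp m F p x - bp m F v p * bp m F r x := by
  rw [bp_sub_left, bp_smul_left, bp_smul_left]

theorem act_mul (g h : OG m F) (v : Vec m F) : act m F (g * h) v = act m F g (act m F h v) := by
  unfold act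
  rw [Matrix.mulVec_mulVec]
  rfl

theorem ext_act {g h : OG m F} (H : ∀ v, act m F g v = act m F h v) : g = h := by
  apply Subtype.ext
  apply Units.ext
  apply Matrix.toLin'.injective
  apply LinearMap.ext
  intro v
  rw [Matrix.toLin'_apply, Matrix.toLin'_apply]
  exact H v

/-- two Siegel transvections commute when their nilpotent parts commute -/
theorem sieg_comm {p r p' r' : Vec m F} {c c' : F} {g h : OG m F}
    (hg : IsSieg m F p r c g) (hh : IsSieg m F p' r' c' h)
    (hN : ∀ v : Vec m F,
      bp m F (bp m F v r' • p' - bp m F v p' • r') r • p -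
        bp m F (bp m F v r' • p' - bp m F v p' • r') p • r =
      bp m F (bp m F v r • p - bp m F v p • r) r' • p' -
        bp m F (bp m F v r • p - bp m F v p • r) p' • r') :
    g * h = h * g := by
  apply ext_act
  intro v
  rw [act_mul, act_mul, hh v, hg v, hg, hh]
  have e1 : ∀ (a : F) (w x : Vec m F), bp m F (v + a • w) x = bp m F v x + a * bp m F w x := by
    intro a w x
    rw [bp_add_left, bp_smul_left]
  rw [e1, e1, e1, e1]
  have h2 := hN v
  have e2 : (bp m F v r + c' * bp m F (bp m F v r' • p' - bp m F v p' • r') r) • p -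
      (bp m F v p + c' * bp m F (bp m F v r' • p' - bp m F v p' • r') p) • r =
      (bp m F v r • p - bp m F v p • r) + c' •
        (bp m F (bp m F v r' • p' - bp m F v p' • r') r • p -
          bp m F (bp m F v r' • p' - bp m F v p' • r') p • r) := by
    simp only [add_smul, smul_sub, mul_smul]
    abel
  have e3 : (bp m F v r' + c * bp m F (bp m F v r • p - bp m F v p • r) r') • p' -
      (bp m F v p' + c * bp m F (bp m F v r • p - bp m F v p • r) p') • r' =
      (bp m F v r' • p' - bp m F v p' • r') + c •
        (bp m F (bp m F v r • p - bp m F v p • r) r' • p' -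
          bp m F (bp m F v r • p - bp m F v p • r) p' • r') := by
    simp only [add_smul, smul_sub, mul_smul]
    abel
  rw [e2, e3, h2, smul_add, smul_add, smul_comm c c']
  abel

end Basic

theorem main : C0.{u} := by
  intro hS m F _ p r p' r' hl hl' h1 h2 h3 h4
  rw [Subgroup.commutator_eq_bot_iff_le_centralizer]
  intro g hg
  rw [Subgroup.mem_centralizer_iff]
  intro h hh
  obtain ⟨c, hc⟩ := (hS.2 m F p r hl g).mp hg
  obtain ⟨c', hc'⟩ := (hS.2 m F p' r' hl' h).mp hh
  apply sieg_comm m F hc' hc
  intro v
  rw [bp_N, bp_N, bp_N, bp_N, h1, h2, h3, h4, bp_comm m F p' p, bp_comm m F r' p,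
    bp_comm m F p' r, bp_comm m F r' r, h1, h2, h3, h4]
  simp

end Cfsg.Agent.Lib.Helper87.SgC0
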