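import Mathlib
import Cfsg.Agent.Lib.Helper83.SgStmt
import Cfsg.Agent.Lib.Helper87.SgC0

set_option autoImplicit false

/-! Piece [R1A] of S5072 (Siegel transvection groups): singular lines through a common point
give commuting groups. -/

open Matrix

namespace Cfsg.Agent.Lib.Helper87.SgR1A

open Cfsg Cfsg.Agent.Lib.Helper83.SgStmt Cfsg.Agent.Lib.Helper87.SgC0

universe u

theorem main : R1A.{u} := by
  intro hS m F _ p r r' hl hl'
  rw [Subgroup.commutator_eq_bot_iff_le_centralizer]
  intro g hg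
  rw [Subgroup.mem_centralizer_iff]
  intro h hh
  obtain ⟨c, hc⟩ := (hS.2 m F p r hl g).mp hg
  obtain ⟨c', hc'⟩ := (hS.2 m F p r' hl' h).mp hh
  apply sieg_comm m F hc' hc
  intro v
  have h1 : bp m F p r = 0 := bp_line m F hl
  have h2 : bp m F p r' = 0 := bp_line m F hl'
  have h3 : bp m F p p = 0 := bp_self m F hl.2.1
  rw [bp_N, bp_N, bp_N, bp_N, h1, h2, h3, bp_comm m F r p, bp_comm m F r' p, h1, h2,
    bp_comm m F r' r]
  simp

end Cfsg.Agent.Lib.Helper87.SgR1A
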