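import Mathlib
import Cfsg.Prelude.Def_FusionSystem
import Cfsg.Agent.Lib.Helper87.Transfer

/-!
# Counting lemmas for the Thompson transfer lemma
-/

set_option autoImplicit false
open Cfsg

namespace Cfsg.Agent.Lib.Helper87.SignCount

open Cfsg.Agent.Lib.Helper87.Transfer MulAction

/-- The sign of an involution with an odd number of transpositions. -/
theorem sign_eq_neg_one_of_involution {α : Type*} [Fintype α] [DecidableEq α]
    (π : Equiv.Perm α) (hπ : π ^ 2 = 1) (c : ℕ)
    (hc : Fintype.card α = Fintype.card (Function.fixedPoints π) + 2 * c) (hodd : Odd c) :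
    Equiv.Perm.sign π = -1 := by
  have h2 : ∀ b ∈ π.cycleType, b = 2 := by
    intro b hb
    have h3 := Equiv.Perm.dvd_of_mem_cycleType hb
    have h4 := Equiv.Perm.two_le_of_mem_cycleType hb
    have h5 : b ∣ 2 := h3.trans (orderOf_dvd_of_pow_eq_one hπ)
    exact le_antisymm (Nat.le_of_dvd (by norm_num) h5) h4
  have h6 : π.cycleType = Multiset.replicate (Multiset.card π.cycleType) 2 :=
    Multiset.eq_replicate.mpr ⟨rfl, h2⟩
  have h7 : π.cycleType.sum = 2 * Multiset.card π.cycleType := by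
    conv_lhs => rw [h6]
    rw [Multiset.sum_replicate, smul_eq_mul, mul_comm]
  have h8 := Equiv.Perm.card_fixedPoints π
  have h9 : π.cycleType.sum ≤ Fintype.card α := by
    rw [Equiv.Perm.sum_cycleType]
    exact Finset.card_le_univ _
  have h10 : Multiset.card π.cycleType = c := by omega
  rw [Equiv.Perm.sign_of_cycleType', h6, Multiset.map_replicate, Multiset.prod_replicate, h10]
  have h11 : (-(-1 : ℤˣ) ^ 2) = -1 := by decide
  rw [h11]
  exact hodd.neg_one_pow

/-- A weighted orbit count: if `f` is constant on orbits and `k` divides `|orbit of v| · f v`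
for all `v`, then `k` divides the sum of `f`. -/
theorem dvd_sum_of_invariant {G V : Type*} [Group G] [MulAction G V] [Fintype V]
    (f : V → ℕ) (hf : ∀ (g : G) (v : V), f (g • v) = f v) (k : ℕ)
    (h : ∀ v : V, k ∣ (stabilizer G v).index * f v) : k ∣ ∑ v, f v := by
  classical
  haveI : Fintype (Quotient (orbitRel G V)) := Fintype.ofFinite _
  rw [← Finset.sum_fiberwise Finset.univ (fun v : V => Quotient.mk (orbitRel G V) v) f]
  refine Finset.dvd_sum fun ω _ => ?_
  induction ω using Quotient.inductionOn with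
  | h v₀ =>
    have h1 : ∀ v ∈ Finset.univ.filter (fun v : V =>
        Quotient.mk (orbitRel G V) v = Quotient.mk (orbitRel G V) v₀), f v = f v₀ := by
      intro v hv
      rw [Finset.mem_filter] at hv
      have h2 : v ∈ orbit G v₀ := orbitRel_apply.mp (Quotient.exact hv.2)
      obtain ⟨g, rfl⟩ := h2
      exact hf g v₀
    rw [Finset.sum_congr rfl h1, Finset.sum_const, smul_eq_mul]
    have h3 : (Finset.univ.filter (fun v : V =>
        Quotient.mk (orbitRel G V) v = Quotient.mk (orbitRel G V) v₀)).card =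
        (stabilizer G v₀).index := by
      rw [index_stabilizer, ← Set.ncard_coe_finset]
      congr 1
      ext v
      rw [Finset.mem_coe, Finset.mem_filter]
      constructor
      · rintro ⟨-, hv⟩
        exact orbitRel_apply.mp (Quotient.exact hv)
      · intro hv
        exact ⟨Finset.mem_univ _, Quotient.sound (orbitRel_apply.mpr hv)⟩
    rw [h3]
    exact h v₀

section

variable {G : Type*} [Group G] {X : Type*} [MulAction G X] {B : Type*} [Group B] {r : B →* G}

/-- A subset stable under a free action has cardinality divisible by the order of the group. -/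
theorem card_stable [Finite X] (hfree : ∀ (b : B) (x : X), r b • x = x → b = 1)
    (Pr : X → Prop) (hPr : ∀ (b : B) (x : X), Pr x → Pr (r b • x)) :
    Nat.card {x : X // Pr x} = Nat.card {o : ROrb r X // Pr o.out} * Nat.card B := by
  rw [← Nat.card_prod]
  refine Nat.card_congr ⟨fun x => (⟨⟦x.1⟧, ?_⟩, delta r x.1),
    fun ob => ⟨r ob.2 • ob.1.1.out, hPr _ _ ob.1.2⟩, ?_, ?_⟩
  · have h1 := delta_spec r x.1
    have h2 : (Quotient.out (⟦x.1⟧ : ROrb r X)) = r (delta r x.1)⁻¹ • x.1 := by
      rw [map_inv, eq_inv_smul_iff]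
      exact h1
    rw [h2]
    exact hPr _ _ x.2
  · rintro ⟨x, hx⟩
    exact Subtype.ext (delta_spec r x)
  · rintro ⟨⟨o, ho⟩, b⟩
    have h1 : (⟦r b • o.out⟧ : ROrb r X) = o := by rw [mk_smul, Quotient.out_eq]
    apply Prod.ext
    · exact Subtype.ext h1
    · apply eq_of_smul_eq hfree (x := o.out)
      have h2 := delta_spec r (r b • o.out)
      rw [h1] at h2
      exact h2

end

section

variable {Ω : Type*} [Group Ω] {S : Subgroup Ω}

/-- For an involution `v` of `S`, `N_S(⟨v⟩)` has the order of the centralizer of `v` in `S`. -/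
theorem card_normalizerIn_zpowers (v : S) (hv : orderOf (v : Ω) = 2) :
    Nat.card (FusionSystem.normalizerIn S (Subgroup.zpowers (v : Ω))) =
      Nat.card (stabilizer (ConjAct S) v) := by
  have hv1 : (v : Ω) ≠ 1 := by
    intro h
    rw [h, orderOf_one] at hv
    omega
  have hv2 : (v : Ω) ^ 2 = 1 := by
    rw [← hv]
    exact pow_orderOf_eq_one _
  symm
  refine Nat.card_congr ⟨fun g => ⟨((ConjAct.ofConjAct (g : ConjAct S) : S) : Ω), ?_⟩,
    fun y => ⟨ConjAct.toConjAct (⟨(y : Ω), y.2.1⟩ : S), ?_⟩, ?_, ?_⟩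
  · have hg : (g : ConjAct S) • v = v := g.2
    rw [ConjAct.smul_def] at hg
    have hcomm : Commute ((ConjAct.ofConjAct (g : ConjAct S) : S) : Ω) (v : Ω) := by
      have h1 := congrArg (fun s : S => (s : Ω)) hg
      have h2 : ((ConjAct.ofConjAct (g : ConjAct S) : S) : Ω) * (v : Ω) *
          ((ConjAct.ofConjAct (g : ConjAct S) : S) : Ω)⁻¹ = (v : Ω) := h1
      show ((ConjAct.ofConjAct (g : ConjAct S) : S) : Ω) * (v : Ω) =
        (v : Ω) * ((ConjAct.ofConjAct (g : ConjAct S) : S) : Ω)
      calc ((ConjAct.ofConjAct (g : ConjAct S) : S) : Ω) * (v : Ω) =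
          (((ConjAct.ofConjAct (g : ConjAct S) : S) : Ω) * (v : Ω) *
            ((ConjAct.ofConjAct (g : ConjAct S) : S) : Ω)⁻¹) *
              ((ConjAct.ofConjAct (g : ConjAct S) : S) : Ω) := by group
        _ = (v : Ω) * ((ConjAct.ofConjAct (g : ConjAct S) : S) : Ω) := by rw [h2]
    have hfix : ∀ (s : Ω), Commute s (v : Ω) → ∀ h ∈ Subgroup.zpowers (v : Ω),
        s * h * s⁻¹ = h := by
      rintro s hs _ ⟨k, rfl⟩
      have h3 := (hs.zpow_right k).eq
      rw [h3, mul_inv_cancel_right]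
    refine Subgroup.mem_inf.mpr ⟨(ConjAct.ofConjAct (g : ConjAct S) : S).2, ?_⟩
    rw [Subgroup.mem_normalizer_iff]
    intro h
    constructor
    · intro hh
      rw [hfix _ hcomm h hh]
      exact hh
    · intro hh
      have h4 := hfix _ hcomm.inv_left _ hh
      have h5 : ((ConjAct.ofConjAct (g : ConjAct S) : S) : Ω)⁻¹ *
          (((ConjAct.ofConjAct (g : ConjAct S) : S) : Ω) * h *
            ((ConjAct.ofConjAct (g : ConjAct S) : S) : Ω)⁻¹) *
          ((ConjAct.ofConjAct (g : ConjAct S) : S) : Ω)⁻¹⁻¹ = h := by group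
      rw [h5] at h4
      rw [h4]
      exact hh
  · rw [mem_stabilizer_iff, ConjAct.smul_def]
    apply Subtype.ext
    show (y : Ω) * (v : Ω) * (y : Ω)⁻¹ = (v : Ω)
    have h1 := (Subgroup.mem_normalizer_iff.mp y.2.2 (v : Ω)).mp (Subgroup.mem_zpowers _)
    obtain ⟨k, hk⟩ := h1
    have hk' : (v : Ω) ^ k = (y : Ω) * (v : Ω) * (y : Ω)⁻¹ := hk
    rw [← hk', ← zpow_mod_orderOf, hv]
    have h2 : k % 2 = 0 ∨ k % 2 = 1 := by omega
    rcases h2 with h2 | h2
    · exfalso
      have h3 : (y : Ω) * (v : Ω) * (y : Ω)⁻¹ = 1 := by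
        rw [← hk', ← zpow_mod_orderOf, hv]
        have : ((2 : ℕ) : ℤ) = 2 := rfl
        rw [this, h2, zpow_zero]
      apply hv1
      have h4 : (v : Ω) = (y : Ω)⁻¹ * ((y : Ω) * (v : Ω) * (y : Ω)⁻¹) * (y : Ω) := by group
      rw [h4, h3]
      group
    · have : ((2 : ℕ) : ℤ) = 2 := rfl
      rw [this, h2, zpow_one]
  · intro g
    rfl
  · intro y
    rfl

/-- The image of a homomorphism defined on a cyclic subgroup. -/
theorem range_zpowers (v : Ω) (ψ : Subgroup.zpowers v →* Ω) :
    ψ.range = Subgroup.zpowers (ψ ⟨v, Subgroup.mem_zpowers v⟩) := by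
  ext y
  constructor
  · rintro ⟨⟨_, k, rfl⟩, rfl⟩
    refine ⟨k, ?_⟩
    show ψ ⟨v, Subgroup.mem_zpowers v⟩ ^ k = ψ ⟨v ^ k, _⟩
    rw [← map_zpow]
    rfl
  · rintro ⟨k, rfl⟩
    exact ⟨⟨v, Subgroup.mem_zpowers v⟩ ^ k, map_zpow ψ _ k⟩

end

end Cfsg.Agent.Lib.Helper87.SignCount
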