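import Mathlib

/-!
# Symmetric local algebras with centre of dimension at most four are commutative

`comm_of_center_le_four`: a finite-dimensional symmetric algebra over an algebraically closed
field, local with residue field `F` (an algebra map `π : Λ →ₐ[F] F` with nilpotent kernel), whose
centre is spanned by four elements, is commutative.
-/

namespace Cfsg.Agent.Lib.Helper87.SymLocal

section Pow

variable {F Λ : Type*} [Field F] [Ring Λ] [Algebra F Λ]

theorem pow_two_sided (J : Submodule F Λ) (hl : ∀ x ∈ J, ∀ y : Λ, y * x ∈ J)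
    (hr : ∀ x ∈ J, ∀ y : Λ, x * y ∈ J) (k : ℕ) :
    ∀ x ∈ J ^ (k + 1), ∀ y : Λ, y * x ∈ J ^ (k + 1) ∧ x * y ∈ J ^ (k + 1) := by
  induction k with
  | zero =>
    intro x hx y
    rw [zero_add, pow_one] at hx ⊢
    exact ⟨hl x hx y, hr x hx y⟩
  | succ k ih =>
    intro x hx y
    rw [pow_succ] at hx ⊢
    refine Submodule.mul_induction_on hx ?_ ?_
    · intro m hm n hn
      refine ⟨?_, ?_⟩
      · rw [← mul_assoc]; exact Submodule.mul_mem_mul (ih m hm y).1 hn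
      · rw [mul_assoc]; exact Submodule.mul_mem_mul hm (hr n hn y)
    · intro u v hu hv
      exact ⟨by rw [mul_add]; exact add_mem hu.1 hv.1, by rw [add_mul]; exact add_mem hu.2 hv.2⟩

end Pow

/-- The data of the problem. -/
structure Ctx (F Λ : Type*) [Field F] [Ring Λ] [Algebra F Λ] where
  lam : Λ →ₗ[F] F
  π : Λ →ₐ[F] F
  c : Fin 4 → Λ
  N : ℕ
  hsym : ∀ x y, lam (x * y) = lam (y * x)
  hnd : ∀ x, x ≠ 0 → ∃ y, lam (x * y) ≠ 0
  hN : (RingHom.ker (π : Λ →+* F)) ^ N = ⊥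
  hcen : ∀ w : Λ, (∀ x, w * x = x * w) → ∃ t : Fin 4 → F, w = ∑ i, t i • c i

namespace Ctx

variable {F Λ : Type*} [Field F] [Ring Λ] [Algebra F Λ] (D : Ctx F Λ)

/-- The radical, as an `F`-subspace. -/
def J : Submodule F Λ := LinearMap.ker D.π.toLinearMap

/-- The span of the commutators. -/
def K (_D : Ctx F Λ) : Submodule F Λ :=
  Submodule.span F (Set.range fun p : Λ × Λ => p.1 * p.2 - p.2 * p.1)

theorem mem_J {x : Λ} : x ∈ D.J ↔ D.π x = 0 := by
  simp [J]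

theorem J_left {x : Λ} (hx : x ∈ D.J) (y : Λ) : y * x ∈ D.J := by
  rw [mem_J] at hx ⊢; rw [map_mul, hx, mul_zero]

theorem J_right {x : Λ} (hx : x ∈ D.J) (y : Λ) : x * y ∈ D.J := by
  rw [mem_J] at hx ⊢; rw [map_mul, hx, zero_mul]

theorem sub_mem_J (x : Λ) : x - (D.π x) • (1 : Λ) ∈ D.J := by
  rw [mem_J, map_sub, map_smul, map_one, smul_eq_mul, mul_one, sub_self]

theorem P_ideal (k : ℕ) {x : Λ} (hx : x ∈ D.J ^ (k + 1)) (y : Λ) :
    y * x ∈ D.J ^ (k + 1) ∧ x * y ∈ D.J ^ (k + 1) :=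
  pow_two_sided D.J (fun _ hx y => D.J_left hx y) (fun _ hx y => D.J_right hx y) k x hx y

theorem P_anti (k : ℕ) : D.J ^ (k + 2) ≤ D.J ^ (k + 1) := by
  rw [show k + 2 = (k + 1) + 1 from rfl, pow_succ, Submodule.mul_le]
  intro m hm n _
  exact (D.P_ideal k hm n).2

theorem P_le (k j : ℕ) : D.J ^ (k + 1 + j) ≤ D.J ^ (k + 1) := by
  induction j with
  | zero => exact le_rfl
  | succ j ih =>
    refine le_trans ?_ ih
    have := D.P_anti (k + j)
    rwa [show k + j + 2 = k + 1 + (j + 1) by ring, show k + j + 1 = k + 1 + j by ring] at this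

theorem P_le_J (k : ℕ) : D.J ^ (k + 1) ≤ D.J := by
  have := D.P_le 0 k
  rwa [zero_add, pow_one, add_comm] at this

theorem mul_mem_P_add {j k : ℕ} {x y : Λ} (hx : x ∈ D.J ^ j) (hy : y ∈ D.J ^ k) :
    x * y ∈ D.J ^ (j + k) := by
  rw [pow_add]; exact Submodule.mul_mem_mul hx hy

theorem mul_mem_P_succ {k : ℕ} {x y : Λ} (hx : x ∈ D.J ^ k) (hy : y ∈ D.J) :
    x * y ∈ D.J ^ (k + 1) := by
  rw [pow_succ]; exact Submodule.mul_mem_mul hx hy

theorem mul_mem_P_succ' {k : ℕ} {x y : Λ} (hx : x ∈ D.J) (hy : y ∈ D.J ^ k) :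
    x * y ∈ D.J ^ (k + 1) := by
  rw [pow_succ']; exact Submodule.mul_mem_mul hx hy

theorem P_N : D.J ^ (D.N + 1) = ⊥ := by
  have key : ∀ k : ℕ, ∀ x ∈ D.J ^ (k + 1), x ∈ (RingHom.ker (D.π : Λ →+* F)) ^ (k + 1) := by
    intro k
    induction k with
    | zero =>
      intro x hx
      rw [zero_add, pow_one] at hx
      rw [zero_add, Submodule.pow_one, RingHom.mem_ker]
      exact D.mem_J.mp hx
    | succ k ih =>
      intro x hx
      rw [pow_succ] at hx
      rw [Submodule.pow_succ]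
      refine Submodule.mul_induction_on hx ?_ ?_
      · intro m hm n hn
        refine Ideal.mul_mem_mul (ih m hm) ?_
        rw [RingHom.mem_ker]
        exact D.mem_J.mp hn
      · intro u v hu hv
        exact add_mem hu hv
  rw [eq_bot_iff]
  intro x hx
  have h := key D.N x hx
  rw [Submodule.pow_succ, D.hN, Ideal.bot_mul] at h
  exact h

theorem P_stab (k : ℕ) (h : D.J ^ (k + 1) ≤ D.J ^ (k + 2)) : D.J ^ (k + 1) = ⊥ := by
  have key : ∀ j : ℕ, D.J ^ (k + 1) ≤ D.J ^ (k + 1 + j) := by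
    intro j
    induction j with
    | zero => exact le_rfl
    | succ j ih =>
      rw [← add_assoc, pow_succ]
      refine le_trans h ?_
      rw [show k + 2 = (k + 1) + 1 from rfl, pow_succ]
      exact mul_le_mul' ih le_rfl
  rw [eq_bot_iff]
  refine le_trans (key (D.N + 1)) ?_
  rw [pow_add, D.P_N, Submodule.mul_bot]

theorem comm_mem_K (x y : Λ) : x * y - y * x ∈ D.K :=
  Submodule.subset_span ⟨(x, y), rfl⟩

theorem K_le_P2 : D.K ≤ D.J ^ 2 := by
  rw [K, Submodule.span_le]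
  rintro _ ⟨⟨x, y⟩, rfl⟩
  have hx := D.sub_mem_J x
  have hy := D.sub_mem_J y
  have h1 : (x - D.π x • (1 : Λ)) * (y - D.π y • (1 : Λ)) ∈ D.J ^ 2 := by
    rw [pow_two]; exact Submodule.mul_mem_mul hx hy
  have h2 : (y - D.π y • (1 : Λ)) * (x - D.π x • (1 : Λ)) ∈ D.J ^ 2 := by
    rw [pow_two]; exact Submodule.mul_mem_mul hy hx
  have h3 := sub_mem h1 h2
  have e : (x - D.π x • (1 : Λ)) * (y - D.π y • (1 : Λ))
      - (y - D.π y • (1 : Λ)) * (x - D.π x • (1 : Λ)) = x * y - y * x := by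
    simp only [sub_mul, mul_sub, smul_mul_assoc, mul_smul_comm, one_mul, mul_one]
    module
  rw [e] at h3
  exact h3

theorem lam_K : ∀ k ∈ D.K, D.lam k = 0 := by
  have : D.K ≤ LinearMap.ker D.lam := by
    rw [K, Submodule.span_le]
    rintro _ ⟨⟨x, y⟩, rfl⟩
    show D.lam (x * y - y * x) = 0
    rw [map_sub, D.hsym x y, sub_self]
  intro k hk
  exact this hk

theorem mem_K_of_orth [FiniteDimensional F Λ] {x : Λ} (h : ∀ i, D.lam (D.c i * x) = 0) :
    x ∈ D.K := by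
  let B : LinearMap.BilinForm F Λ := (LinearMap.mul F Λ).compr₂ D.lam
  have hB : ∀ u v, B u v = D.lam (u * v) := fun u v => rfl
  have hBrefl : B.IsRefl := by
    intro u v huv
    rw [hB] at huv ⊢; rw [D.hsym]; exact huv
  have hBnd : B.Nondegenerate := by
    refine ⟨?_, ?_⟩
    · intro u hu
      by_contra hne
      obtain ⟨y, hy⟩ := D.hnd u hne
      exact hy (hu y)
    · intro u hu
      by_contra hne
      obtain ⟨y, hy⟩ := D.hnd u hne
      exact hy (by rw [D.hsym]; exact hu y)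
  rw [← LinearMap.BilinForm.orthogonal_orthogonal hBnd hBrefl D.K,
    LinearMap.BilinForm.mem_orthogonal_iff]
  intro w hw
  rw [LinearMap.BilinForm.mem_orthogonal_iff] at hw
  have hcen : ∀ z, w * z = z * w := by
    intro z
    by_contra hne
    have hne' : w * z - z * w ≠ 0 := sub_ne_zero.mpr hne
    obtain ⟨y, hy⟩ := D.hnd _ hne'
    apply hy
    have h1 : D.lam ((z * y - y * z) * w) = 0 := hw _ (D.comm_mem_K z y)
    have h2 : D.lam (z * (w * y)) = D.lam ((w * y) * z) := D.hsym _ _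
    have h3 : D.lam ((z * y) * w) = D.lam (w * (z * y)) := D.hsym _ _
    have h4 : D.lam ((y * z) * w) = D.lam (w * (y * z)) := D.hsym _ _
    rw [sub_mul, map_sub] at h1 ⊢
    rw [mul_assoc z w y, h2, mul_assoc w z y, mul_assoc w y z]
    rw [h3, h4] at h1
    exact h1
  obtain ⟨t, ht⟩ := D.hcen w hcen
  show D.lam (w * x) = 0
  rw [ht, Finset.sum_mul, map_sum]
  apply Finset.sum_eq_zero
  intro i _
  rw [smul_mul_assoc, map_smul, h i, smul_zero]

theorem exists_comb [FiniteDimensional F Λ] (v : Fin 5 → Λ) :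
    ∃ u : Fin 5 → F, (∃ i, u i ≠ 0) ∧ ∑ j, u j • v j ∈ D.K := by
  let Φ : Λ →ₗ[F] (Fin 4 → F) :=
    LinearMap.pi (fun i => D.lam.comp (LinearMap.mulLeft F (D.c i)))
  have hΦ : ∀ x i, Φ x i = D.lam (D.c i * x) := fun x i => rfl
  have hdep : ¬ LinearIndependent F (fun j => Φ (v j)) := by
    intro hli
    have := hli.fintype_card_le_finrank
    rw [Module.finrank_fin_fun] at this
    simp at this
  rw [Fintype.not_linearIndependent_iff] at hdep
  obtain ⟨u, hu, hne⟩ := hdep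
  refine ⟨u, hne, D.mem_K_of_orth ?_⟩
  intro i
  have h1 := congrFun hu i
  rw [← hΦ, map_sum]
  simp only [map_smul]
  exact h1

theorem exists_rep [FiniteDimensional F Λ] (e1 e2 e3 e4 : Λ)
    (hind : ∀ t1 t2 t3 t4 : F, t1 • e1 + t2 • e2 + t3 • e3 + t4 • e4 ∈ D.K →
      t1 = 0 ∧ t2 = 0 ∧ t3 = 0 ∧ t4 = 0) (x : Λ) :
    ∃ t1 t2 t3 t4 : F, x - (t1 • e1 + t2 • e2 + t3 • e3 + t4 • e4) ∈ D.K := by
  obtain ⟨u, hne, hu⟩ := D.exists_comb ![e1, e2, e3, e4, x]
  rw [Fin.sum_univ_five] at hu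
  have hu' : u 0 • e1 + u 1 • e2 + u 2 • e3 + u 3 • e4 + u 4 • x ∈ D.K := hu
  have hu4 : u 4 ≠ 0 := by
    intro h4
    rw [h4, zero_smul, add_zero] at hu'
    obtain ⟨h0, h1, h2, h3⟩ := hind _ _ _ _ hu'
    obtain ⟨i, hi⟩ := hne
    fin_cases i
    · exact hi h0
    · exact hi h1
    · exact hi h2
    · exact hi h3
    · exact hi h4
  refine ⟨-(u 4)⁻¹ * u 0, -(u 4)⁻¹ * u 1, -(u 4)⁻¹ * u 2, -(u 4)⁻¹ * u 3, ?_⟩
  have e : x - ((-(u 4)⁻¹ * u 0) • e1 + (-(u 4)⁻¹ * u 1) • e2 + (-(u 4)⁻¹ * u 2) • e3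
      + (-(u 4)⁻¹ * u 3) • e4)
      = (u 4)⁻¹ • (u 0 • e1 + u 1 • e2 + u 2 • e3 + u 3 • e4 + u 4 • x) := by
    have hw : (u 4)⁻¹ * u 4 = 1 := inv_mul_cancel₀ hu4
    generalize (u 4)⁻¹ = w at hw ⊢
    rw [← sub_eq_zero]
    have e2 : x - ((-w * u 0) • e1 + (-w * u 1) • e2 + (-w * u 2) • e3 + (-w * u 3) • e4)
        - w • (u 0 • e1 + u 1 • e2 + u 2 • e3 + u 3 • e4 + u 4 • x) = (1 - w * u 4) • x := by
      module
    rw [e2, hw, sub_self, zero_smul]
  rw [e]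
  exact D.K.smul_mem _ hu'

/-- If `J ^ 3 = 0` the algebra is commutative. -/
theorem comm_of_P3 (h3 : D.J ^ 3 = ⊥) : ∀ x y : Λ, x * y = y * x := by
  intro x y
  by_contra hne
  have hne' : x * y - y * x ≠ 0 := sub_ne_zero.mpr hne
  obtain ⟨z, hz⟩ := D.hnd _ hne'
  apply hz
  have hk : x * y - y * x ∈ D.K := D.comm_mem_K x y
  have hk2 : x * y - y * x ∈ D.J ^ 2 := D.K_le_P2 hk
  have h0 : (x * y - y * x) * (z - D.π z • (1 : Λ)) = 0 := by
    have := D.mul_mem_P_succ hk2 (D.sub_mem_J z)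
    rw [show 2 + 1 = 3 from rfl, h3] at this
    exact this
  have e : (x * y - y * x) * z = D.π z • (x * y - y * x)
      + (x * y - y * x) * (z - D.π z • (1 : Λ)) := by
    rw [mul_sub, mul_smul_comm, mul_one]; abel
  rw [e, h0, add_zero, map_smul, D.lam_K _ hk, smul_zero]

/-- A nonzero element of the last nonzero power of the radical. -/
theorem exists_socle (h3 : D.J ^ 3 ≠ ⊥) : ∃ s ∈ D.J ^ 3, D.lam s ≠ 0 := by
  classical
  have hex : ∃ n, D.J ^ (n + 1) = ⊥ := ⟨D.N, D.P_N⟩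
  have hn0 : D.J ^ (Nat.find hex + 1) = ⊥ := Nat.find_spec hex
  have hge : 3 ≤ Nat.find hex := by
    by_contra hlt
    push Not at hlt
    apply h3
    rw [eq_bot_iff, ← hn0]
    have := D.P_le (Nat.find hex) (2 - Nat.find hex)
    rwa [show Nat.find hex + 1 + (2 - Nat.find hex) = 3 by omega] at this
  obtain ⟨m, hm⟩ : ∃ m, Nat.find hex = m + 3 := ⟨Nat.find hex - 3, by omega⟩
  have hmin : D.J ^ (m + 2 + 1) ≠ ⊥ := Nat.find_min hex (by omega)
  obtain ⟨s, hs, hs0⟩ := (Submodule.ne_bot_iff _).mp hmin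
  have hs3 : s ∈ D.J ^ 3 := by
    have := D.P_le 2 m
    rw [show 2 + 1 + m = m + 2 + 1 by ring] at this
    exact this hs
  refine ⟨s, hs3, ?_⟩
  obtain ⟨z, hz⟩ := D.hnd s hs0
  have h0 : s * (z - D.π z • (1 : Λ)) = 0 := by
    have := D.mul_mem_P_succ hs (D.sub_mem_J z)
    rw [show m + 2 + 1 + 1 = Nat.find hex + 1 by omega, hn0] at this
    exact this
  have e : s * z = D.π z • s + s * (z - D.π z • (1 : Λ)) := by
    rw [mul_sub, mul_smul_comm, mul_one]; abel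
  rw [e, h0, add_zero, map_smul, smul_eq_mul] at hz
  exact right_ne_zero_of_mul hz

/-- If the radical is generated by one element modulo its square, the algebra is
commutative. -/
theorem comm_of_cyclic {a : Λ} (ha : a ∈ D.J)
    (h : ∀ x ∈ D.J, ∃ t : F, x - t • a ∈ D.J ^ 2) : ∀ x y : Λ, x * y = y * x := by
  have hapow : ∀ k : ℕ, a ^ k ∈ D.J ^ k := fun k => Submodule.pow_mem_pow _ ha k
  have claim1 : ∀ k : ℕ, ∀ x ∈ D.J ^ (k + 1), ∃ t : F, x - t • a ^ (k + 1) ∈ D.J ^ (k + 2) := by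
    intro k
    induction k with
    | zero =>
      intro x hx
      rw [zero_add, pow_one] at hx
      obtain ⟨t, ht⟩ := h x hx
      exact ⟨t, by rw [zero_add, pow_one]; exact ht⟩
    | succ k ih =>
      intro x hx
      rw [pow_succ] at hx
      refine Submodule.mul_induction_on hx ?_ ?_
      · intro m hm n hn
        obtain ⟨t, ht⟩ := ih m hm
        obtain ⟨u, hu⟩ := h n hn
        refine ⟨t * u, ?_⟩
        have h1 : (t • a ^ (k + 1)) * (n - u • a) ∈ D.J ^ (k + 1 + 2) :=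
          D.mul_mem_P_add ((D.J ^ (k + 1)).smul_mem t (hapow (k + 1))) hu
        have h2 : (m - t • a ^ (k + 1)) * n ∈ D.J ^ (k + 2 + 1) := D.mul_mem_P_succ ht hn
        have e : m * n - (t * u) • a ^ (k + 1 + 1)
            = (t • a ^ (k + 1)) * (n - u • a) + (m - t • a ^ (k + 1)) * n := by
          rw [pow_succ a (k + 1)]
          simp only [sub_mul, mul_sub, smul_mul_assoc, mul_smul_comm, smul_smul]
          module
        rw [e]
        exact add_mem h1 h2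
      · intro x y hx hy
        obtain ⟨t, ht⟩ := hx
        obtain ⟨u, hu⟩ := hy
        refine ⟨t + u, ?_⟩
        have := add_mem ht hu
        have e : x + y - (t + u) • a ^ (k + 1 + 1)
            = x - t • a ^ (k + 1 + 1) + (y - u • a ^ (k + 1 + 1)) := by module
        rw [e]
        exact this
  let A : Subalgebra F Λ := (Polynomial.aeval a : Polynomial F →ₐ[F] Λ).range
  have haA : ∀ k : ℕ, a ^ k ∈ A := by
    intro k
    exact ⟨Polynomial.X ^ k, by simp⟩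
  have claim2 : ∀ j k : ℕ, D.J ^ (k + 1 + j) = ⊥ → D.J ^ (k + 1) ≤ Subalgebra.toSubmodule A := by
    intro j
    induction j with
    | zero =>
      intro k hk
      rw [add_zero] at hk
      rw [hk]; exact bot_le
    | succ j ih =>
      intro k hk
      have h1 : D.J ^ (k + 1 + 1) ≤ Subalgebra.toSubmodule A := by
        apply ih (k + 1)
        rw [← hk]; congr 1; ring
      intro x hx
      obtain ⟨t, ht⟩ := claim1 k x hx
      have h2 : x - t • a ^ (k + 1) ∈ A := h1 ht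
      have h3 : t • a ^ (k + 1) ∈ A := A.smul_mem (haA _) t
      have := A.add_mem h2 h3
      rw [sub_add_cancel] at this
      exact this
  have hJA : D.J ≤ Subalgebra.toSubmodule A := by
    have := claim2 D.N 0 (by rw [show 0 + 1 + D.N = D.N + 1 by ring]; exact D.P_N)
    rwa [zero_add, pow_one] at this
  have hall : ∀ x : Λ, x ∈ A := by
    intro x
    have h1 : x - D.π x • (1 : Λ) ∈ A := hJA (D.sub_mem_J x)
    have h2 : D.π x • (1 : Λ) ∈ A := A.smul_mem A.one_mem _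
    have := A.add_mem h1 h2
    rw [sub_add_cancel] at this
    exact this
  intro x y
  obtain ⟨p, rfl⟩ := hall x
  obtain ⟨q, rfl⟩ := hall y
  show (Polynomial.aeval a) p * (Polynomial.aeval a) q
    = (Polynomial.aeval a) q * (Polynomial.aeval a) p
  rw [← map_mul, ← map_mul, mul_comm]

/-- A pair of elements of the radical, independent modulo its square. -/
def IsPair (a b : Λ) : Prop :=
  a ∈ D.J ∧ b ∈ D.J ∧ ∀ t1 t2 : F, t1 • a + t2 • b ∈ D.J ^ 2 → t1 = 0 ∧ t2 = 0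

theorem exists_pair (hB : ¬ ∃ a ∈ D.J, ∀ x ∈ D.J, ∃ t : F, x - t • a ∈ D.J ^ 2) :
    ∃ a b : Λ, D.IsPair a b := by
  push Not at hB
  obtain ⟨a, ha, ha2⟩ := hB 0 (D.J.zero_mem)
  have ha2' : a ∉ D.J ^ 2 := by
    have := ha2 0
    rwa [smul_zero, sub_zero] at this
  obtain ⟨b, hb, hb2⟩ := hB a ha
  refine ⟨a, b, ha, hb, ?_⟩
  intro t1 t2 h
  have ht2 : t2 = 0 := by
    by_contra hne
    apply hb2 (-(t2⁻¹ * t1))
    have := (D.J ^ 2).smul_mem t2⁻¹ h
    have e : b - (-(t2⁻¹ * t1)) • a = t2⁻¹ • (t1 • a + t2 • b) := by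
      rw [smul_add, smul_smul, smul_smul, inv_mul_cancel₀ hne, one_smul, neg_smul]
      abel
    rw [e]
    exact this
  subst ht2
  refine ⟨?_, rfl⟩
  by_contra hne
  apply ha2'
  rw [zero_smul, add_zero] at h
  have := (D.J ^ 2).smul_mem t1⁻¹ h
  rwa [smul_smul, inv_mul_cancel₀ hne, one_smul] at this

section Pair

variable [FiniteDimensional F Λ] {s a b : Λ}

theorem pair_ind (hs : s ∈ D.J ^ 3) (hls : D.lam s ≠ 0) (hp : D.IsPair a b) :
    ∀ t0 t1 t2 t3 : F, t0 • (1 : Λ) + t1 • a + t2 • b + t3 • s ∈ D.K →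
      t0 = 0 ∧ t1 = 0 ∧ t2 = 0 ∧ t3 = 0 := by
  intro t0 t1 t2 t3 h
  obtain ⟨ha, hb, hind⟩ := hp
  have hsJ : s ∈ D.J := D.P_le_J 2 hs
  have hs2 : s ∈ D.J ^ 2 := D.P_anti 1 hs
  have hπ : D.π (t0 • (1 : Λ) + t1 • a + t2 • b + t3 • s) = 0 :=
    D.mem_J.mp (D.P_le_J 1 (D.K_le_P2 h))
  rw [map_add, map_add, map_add, map_smul, map_smul, map_smul, map_smul, map_one,
    D.mem_J.mp ha, D.mem_J.mp hb, D.mem_J.mp hsJ, smul_zero, smul_zero, smul_zero, add_zero,
    add_zero, add_zero, smul_eq_mul, mul_one] at hπ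
  subst hπ
  have h2 : t1 • a + t2 • b ∈ D.J ^ 2 := by
    have := sub_mem (D.K_le_P2 h) ((D.J ^ 2).smul_mem t3 hs2)
    have e : (0 : F) • (1 : Λ) + t1 • a + t2 • b + t3 • s - t3 • s = t1 • a + t2 • b := by
      module
    rwa [e] at this
  obtain ⟨h1', h2'⟩ := hind t1 t2 h2
  subst h1'; subst h2'
  have h3 := D.lam_K _ h
  rw [zero_smul, zero_smul, zero_smul, zero_add, zero_add, zero_add, map_smul, smul_eq_mul]
    at h3
  exact ⟨rfl, rfl, rfl, (mul_eq_zero.mp h3).resolve_right hls⟩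

theorem pair_J (hs : s ∈ D.J ^ 3) (hls : D.lam s ≠ 0) (hp : D.IsPair a b) :
    ∀ x ∈ D.J, ∃ t1 t2 : F, x - (t1 • a + t2 • b) ∈ D.J ^ 2 := by
  intro x hx
  obtain ⟨t0, t1, t2, t3, h⟩ := D.exists_rep 1 a b s (D.pair_ind hs hls hp) x
  obtain ⟨ha, hb, hind⟩ := hp
  have hsJ : s ∈ D.J := D.P_le_J 2 hs
  have hs2 : s ∈ D.J ^ 2 := D.P_anti 1 hs
  have hπ : D.π (x - (t0 • (1 : Λ) + t1 • a + t2 • b + t3 • s)) = 0 :=
    D.mem_J.mp (D.P_le_J 1 (D.K_le_P2 h))
  rw [map_sub, map_add, map_add, map_add, map_smul, map_smul, map_smul, map_smul, map_one,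
    D.mem_J.mp ha, D.mem_J.mp hb, D.mem_J.mp hsJ, D.mem_J.mp hx, smul_zero, smul_zero,
    smul_zero, add_zero, add_zero, add_zero, smul_eq_mul, mul_one, zero_sub, neg_eq_zero] at hπ
  subst hπ
  refine ⟨t1, t2, ?_⟩
  have := add_mem (D.K_le_P2 h) ((D.J ^ 2).smul_mem t3 hs2)
  have e : x - ((0 : F) • (1 : Λ) + t1 • a + t2 • b + t3 • s) + t3 • s
      = x - (t1 • a + t2 • b) := by module
  rwa [e] at this

theorem pair_P2K (hs : s ∈ D.J ^ 3) (hls : D.lam s ≠ 0) (hp : D.IsPair a b) :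
    ∀ y ∈ D.J ^ 2, ∃ t : F, y - t • s ∈ D.K := by
  intro y hy
  obtain ⟨t0, t1, t2, t3, h⟩ := D.exists_rep 1 a b s (D.pair_ind hs hls hp) y
  obtain ⟨ha, hb, hind⟩ := hp
  have hsJ : s ∈ D.J := D.P_le_J 2 hs
  have hs2 : s ∈ D.J ^ 2 := D.P_anti 1 hs
  have hyJ : y ∈ D.J := D.P_le_J 1 hy
  have hπ : D.π (y - (t0 • (1 : Λ) + t1 • a + t2 • b + t3 • s)) = 0 :=
    D.mem_J.mp (D.P_le_J 1 (D.K_le_P2 h))
  rw [map_sub, map_add, map_add, map_add, map_smul, map_smul, map_smul, map_smul, map_one,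
    D.mem_J.mp ha, D.mem_J.mp hb, D.mem_J.mp hsJ, D.mem_J.mp hyJ, smul_zero, smul_zero,
    smul_zero, add_zero, add_zero, add_zero, smul_eq_mul, mul_one, zero_sub, neg_eq_zero] at hπ
  subst hπ
  have h2 : t1 • a + t2 • b ∈ D.J ^ 2 := by
    have := sub_mem (sub_mem hy ((D.J ^ 2).smul_mem t3 hs2)) (D.K_le_P2 h)
    have e : y - t3 • s - (y - ((0 : F) • (1 : Λ) + t1 • a + t2 • b + t3 • s))
        = t1 • a + t2 • b := by module
    rwa [e] at this
  obtain ⟨h1', h2'⟩ := hind t1 t2 h2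
  subst h1'; subst h2'
  refine ⟨t3, ?_⟩
  have e : y - ((0 : F) • (1 : Λ) + (0 : F) • a + (0 : F) • b + t3 • s) = y - t3 • s := by
    module
  rwa [e] at h

theorem pair_K (hs : s ∈ D.J ^ 3) (hls : D.lam s ≠ 0) (hp : D.IsPair a b) :
    ∀ k ∈ D.K, ∃ t : F, k - t • (a * b - b * a) ∈ D.J ^ 3 := by
  intro k hk
  unfold K at hk
  induction hk using Submodule.span_induction with
  | mem k hk =>
    obtain ⟨⟨x, y⟩, rfl⟩ := hk
    have hx' := D.sub_mem_J x
    have hy' := D.sub_mem_J y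
    obtain ⟨t1, t2, hx2⟩ := D.pair_J hs hls hp _ hx'
    obtain ⟨u1, u2, hy2⟩ := D.pair_J hs hls hp _ hy'
    obtain ⟨ha, hb, -⟩ := hp
    have hp1 : t1 • a + t2 • b ∈ D.J := add_mem (D.J.smul_mem _ ha) (D.J.smul_mem _ hb)
    refine ⟨t1 * u2 - t2 * u1, ?_⟩
    obtain ⟨x', hx'e⟩ : ∃ x', x' = x - D.π x • (1 : Λ) := ⟨_, rfl⟩
    obtain ⟨y', hy'e⟩ : ∃ y', y' = y - D.π y • (1 : Λ) := ⟨_, rfl⟩
    rw [← hx'e] at hx' hx2
    rw [← hy'e] at hy' hy2
    obtain ⟨x'', hx''e⟩ : ∃ x'', x'' = x' - (t1 • a + t2 • b) := ⟨_, rfl⟩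
    obtain ⟨y'', hy''e⟩ : ∃ y'', y'' = y' - (u1 • a + u2 • b) := ⟨_, rfl⟩
    rw [← hx''e] at hx2
    rw [← hy''e] at hy2
    have eA : x * y - y * x = x' * y' - y' * x' := by
      rw [hx'e, hy'e]
      simp only [sub_mul, mul_sub, smul_mul_assoc, mul_smul_comm, one_mul, mul_one]
      module
    have eB : x' * y' - y' * x' = ((t1 • a + t2 • b) * (u1 • a + u2 • b)
        - (u1 • a + u2 • b) * (t1 • a + t2 • b))
        + ((t1 • a + t2 • b) * y'' - y'' * (t1 • a + t2 • b)) + (x'' * y' - y' * x'') := by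
      have e1 : x' = (t1 • a + t2 • b) + x'' := by rw [hx''e]; abel
      have e2 : y' = (u1 • a + u2 • b) + y'' := by rw [hy''e]; abel
      generalize t1 • a + t2 • b = p at e1 ⊢
      generalize u1 • a + u2 • b = q at e2 ⊢
      rw [e1, e2]
      noncomm_ring
    have eC : (t1 • a + t2 • b) * (u1 • a + u2 • b) - (u1 • a + u2 • b) * (t1 • a + t2 • b)
        = (t1 * u2 - t2 * u1) • (a * b - b * a) := by
      simp only [add_mul, mul_add, smul_mul_assoc, mul_smul_comm]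
      module
    have e : (fun p : Λ × Λ => p.1 * p.2 - p.2 * p.1) (x, y)
        - (t1 * u2 - t2 * u1) • (a * b - b * a)
        = ((t1 • a + t2 • b) * y'' - y'' * (t1 • a + t2 • b)) + (x'' * y' - y' * x'') := by
      show x * y - y * x - _ = _
      rw [eA, eB, eC]; abel
    rw [e]
    exact add_mem (sub_mem (D.mul_mem_P_succ' hp1 hy2) (D.mul_mem_P_succ hy2 hp1))
      (sub_mem (D.mul_mem_P_succ hx2 hy') (D.mul_mem_P_succ' hy' hx2))
  | zero => exact ⟨0, by simp⟩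
  | add x y _ _ hx hy =>
    obtain ⟨t, ht⟩ := hx
    obtain ⟨u, hu⟩ := hy
    refine ⟨t + u, ?_⟩
    have := add_mem ht hu
    have e : x + y - (t + u) • (a * b - b * a)
        = x - t • (a * b - b * a) + (y - u • (a * b - b * a)) := by module
    rw [e]
    exact this
  | smul r x _ hx =>
    obtain ⟨t, ht⟩ := hx
    refine ⟨r * t, ?_⟩
    have := (D.J ^ 3).smul_mem r ht
    have e : r • x - (r * t) • (a * b - b * a) = r • (x - t • (a * b - b * a)) := by module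
    rw [e]
    exact this

theorem pair_P2 (hs : s ∈ D.J ^ 3) (hls : D.lam s ≠ 0) (hp : D.IsPair a b) :
    ∀ y ∈ D.J ^ 2, ∃ t : F, y - t • (a * b - b * a) ∈ D.J ^ 3 := by
  intro y hy
  obtain ⟨t3, h3⟩ := D.pair_P2K hs hls hp y hy
  obtain ⟨t, ht⟩ := D.pair_K hs hls hp _ h3
  refine ⟨t, ?_⟩
  have := add_mem ht ((D.J ^ 3).smul_mem t3 hs)
  have e : y - t3 • s - t • (a * b - b * a) + t3 • s = y - t • (a * b - b * a) := by abel
  rwa [e] at this

theorem pair_c0 (hs : s ∈ D.J ^ 3) (hls : D.lam s ≠ 0) (hp : D.IsPair a b)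
    (h3 : D.J ^ 3 ≠ ⊥) : a * b - b * a ∉ D.J ^ 3 := by
  intro hc
  apply h3
  have h23 : D.J ^ (1 + 1) ≤ D.J ^ (1 + 2) := by
    intro y hy
    obtain ⟨t, ht⟩ := D.pair_P2 hs hls hp y hy
    have := add_mem ht ((D.J ^ 3).smul_mem t hc)
    rwa [sub_add_cancel] at this
  have h2 : D.J ^ (1 + 1) = ⊥ := D.P_stab 1 h23
  rw [eq_bot_iff, ← h2]
  exact D.P_anti 1

/-- Normalisation: one may assume `a * a ∈ J ^ 3`. -/
theorem normalize [IsAlgClosed F] (hs : s ∈ D.J ^ 3) (hls : D.lam s ≠ 0) (hp : D.IsPair a b) :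
    ∃ a' b' : Λ, D.IsPair a' b' ∧ a' * a' ∈ D.J ^ 3 := by
  obtain ⟨ha, hb, hind⟩ := id hp
  have haa : a * a ∈ D.J ^ 2 := by rw [pow_two]; exact Submodule.mul_mem_mul ha ha
  have hab : a * b ∈ D.J ^ 2 := by rw [pow_two]; exact Submodule.mul_mem_mul ha hb
  have hba : b * a ∈ D.J ^ 2 := by rw [pow_two]; exact Submodule.mul_mem_mul hb ha
  have hbb : b * b ∈ D.J ^ 2 := by rw [pow_two]; exact Submodule.mul_mem_mul hb hb
  obtain ⟨α, hα⟩ := D.pair_P2 hs hls hp _ haa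
  obtain ⟨β1, hβ1⟩ := D.pair_P2 hs hls hp _ hab
  obtain ⟨β2, hβ2⟩ := D.pair_P2 hs hls hp _ hba
  obtain ⟨δ, hδ⟩ := D.pair_P2 hs hls hp _ hbb
  by_cases hα0 : α = 0
  · refine ⟨a, b, hp, ?_⟩
    rw [hα0, zero_smul, sub_zero] at hα
    exact hα
  · obtain ⟨r, hr⟩ := IsAlgClosed.exists_root
      (Polynomial.C α * Polynomial.X ^ 2 + Polynomial.C (β1 + β2) * Polynomial.X
        + Polynomial.C δ) (by rw [Polynomial.degree_quadratic hα0]; decide)
    have hr' : α * r ^ 2 + (β1 + β2) * r + δ = 0 := by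
      simpa [Polynomial.IsRoot] using hr
    refine ⟨r • a + b, a, ⟨add_mem (D.J.smul_mem _ ha) hb, ha, ?_⟩, ?_⟩
    · intro t1 t2 h
      have h' : (t1 * r + t2) • a + t1 • b ∈ D.J ^ 2 := by
        have e : (t1 * r + t2) • a + t1 • b = t1 • (r • a + b) + t2 • a := by module
        rw [e]; exact h
      obtain ⟨h1, h2⟩ := hind _ _ h'
      subst h2
      rw [zero_mul, zero_add] at h1
      exact ⟨rfl, h1⟩
    · have e : (r • a + b) * (r • a + b)
          = (r ^ 2) • (a * a - α • (a * b - b * a)) + r • (a * b - β1 • (a * b - b * a))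
            + r • (b * a - β2 • (a * b - b * a)) + (b * b - δ • (a * b - b * a))
            + (α * r ^ 2 + (β1 + β2) * r + δ) • (a * b - b * a) := by
        simp only [add_mul, mul_add, smul_mul_assoc, mul_smul_comm, smul_smul]
        module
      rw [e, hr', zero_smul, add_zero]
      exact add_mem (add_mem (add_mem ((D.J ^ 3).smul_mem _ hα) ((D.J ^ 3).smul_mem _ hβ1))
        ((D.J ^ 3).smul_mem _ hβ2)) hδ

/-- The final contradiction. -/
theorem final (hs : s ∈ D.J ^ 3) (hls : D.lam s ≠ 0) (hp : D.IsPair a b)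
    (haa : a * a ∈ D.J ^ 3) (h3 : D.J ^ 3 ≠ ⊥) : False := by
  obtain ⟨ha, hb, hind⟩ := id hp
  have hab : a * b ∈ D.J ^ 2 := by rw [pow_two]; exact Submodule.mul_mem_mul ha hb
  have hba : b * a ∈ D.J ^ 2 := by rw [pow_two]; exact Submodule.mul_mem_mul hb ha
  have hbb : b * b ∈ D.J ^ 2 := by rw [pow_two]; exact Submodule.mul_mem_mul hb hb
  obtain ⟨β1, hβ1⟩ := D.pair_P2 hs hls hp _ hab
  obtain ⟨β2, hβ2⟩ := D.pair_P2 hs hls hp _ hba
  obtain ⟨δ, hδ⟩ := D.pair_P2 hs hls hp _ hbb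
  have hc3 : a * b - b * a ∉ D.J ^ 3 := D.pair_c0 hs hls hp h3
  have hJ1 : ∀ x ∈ D.J, ∃ t1 t2 : F, x - (t1 • a + t2 • b) ∈ D.J ^ 2 := D.pair_J hs hls hp
  have hJ2 : ∀ y ∈ D.J ^ 2, ∃ t : F, y - t • (a * b - b * a) ∈ D.J ^ 3 := D.pair_P2 hs hls hp
  obtain ⟨c, hc⟩ : ∃ c, c = a * b - b * a := ⟨_, rfl⟩
  rw [← hc] at hβ1 hβ2 hδ hc3 hJ2
  have hβ : β1 - β2 = 1 := by
    by_contra hne
    apply hc3
    have h := sub_mem hβ1 hβ2
    have e : (a * b - β1 • c) - (b * a - β2 • c) = (1 - (β1 - β2)) • c := by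
      rw [hc]; module
    rw [e] at h
    have hne' : 1 - (β1 - β2) ≠ 0 := fun h0 => hne (by linear_combination -h0)
    have := (D.J ^ 3).smul_mem (1 - (β1 - β2))⁻¹ h
    rwa [smul_smul, inv_mul_cancel₀ hne', one_smul] at this
  have m4l : ∀ {x y : Λ}, x ∈ D.J → y ∈ D.J ^ 3 → x * y ∈ D.J ^ 4 :=
    fun hx hy => D.mul_mem_P_succ' hx hy
  have m4r : ∀ {x y : Λ}, x ∈ D.J ^ 3 → y ∈ D.J → x * y ∈ D.J ^ 4 :=
    fun hx hy => D.mul_mem_P_succ hx hy
  have E1 : β1 • (a * c) ∈ D.J ^ 4 := by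
    have h1 : (a * a) * b ∈ D.J ^ 4 := m4r haa hb
    have h2 : a * (a * b - β1 • c) ∈ D.J ^ 4 := m4l ha hβ1
    have e : β1 • (a * c) = (a * a) * b - a * (a * b - β1 • c) := by
      simp only [mul_sub, mul_smul_comm, mul_assoc]
      module
    rw [e]; exact sub_mem h1 h2
  have E2 : β2 • (c * a) ∈ D.J ^ 4 := by
    have h1 : b * (a * a) ∈ D.J ^ 4 := m4l hb haa
    have h2 : (b * a - β2 • c) * a ∈ D.J ^ 4 := m4r hβ2 ha
    have e : β2 • (c * a) = b * (a * a) - (b * a - β2 • c) * a := by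
      simp only [sub_mul, smul_mul_assoc, mul_assoc]
      module
    rw [e]; exact sub_mem h1 h2
  have E3 : β2 • (a * c) - β1 • (c * a) ∈ D.J ^ 4 := by
    have h1 : a * (b * a - β2 • c) ∈ D.J ^ 4 := m4l ha hβ2
    have h2 : (a * b - β1 • c) * a ∈ D.J ^ 4 := m4r hβ1 ha
    have e : β2 • (a * c) - β1 • (c * a) = (a * b - β1 • c) * a - a * (b * a - β2 • c) := by
      simp only [sub_mul, mul_sub, smul_mul_assoc, mul_smul_comm, mul_assoc]
      module
    rw [e]; exact sub_mem h2 h1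
  have hac_ca : a * c ∈ D.J ^ 4 ∧ c * a ∈ D.J ^ 4 := by
    by_cases h0 : β1 = 0
    · have hβ2' : β2 = -1 := by rw [h0] at hβ; linear_combination (-1 : F) * hβ
      have hca : c * a ∈ D.J ^ 4 := by
        rw [hβ2'] at E2
        have := (D.J ^ 4).neg_mem E2
        rwa [neg_smul, one_smul, neg_neg] at this
      have hac : a * c ∈ D.J ^ 4 := by
        rw [h0, hβ2', zero_smul, sub_zero] at E3
        have := (D.J ^ 4).neg_mem E3
        rwa [neg_smul, one_smul, neg_neg] at this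
      exact ⟨hac, hca⟩
    · have hac : a * c ∈ D.J ^ 4 := by
        have := (D.J ^ 4).smul_mem β1⁻¹ E1
        rwa [smul_smul, inv_mul_cancel₀ h0, one_smul] at this
      have hca : c * a ∈ D.J ^ 4 := by
        have h1 : β1 • (c * a) ∈ D.J ^ 4 := by
          have := sub_mem ((D.J ^ 4).smul_mem β2 hac) E3
          rwa [sub_sub_cancel] at this
        have := (D.J ^ 4).smul_mem β1⁻¹ h1
        rwa [smul_smul, inv_mul_cancel₀ h0, one_smul] at this
      exact ⟨hac, hca⟩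
  obtain ⟨hac, hca⟩ := hac_ca
  have E4 : β2 • (b * c) ∈ D.J ^ 4 := by
    have h1 : (b * b - δ • c) * a ∈ D.J ^ 4 := m4r hδ ha
    have h2 : b * (b * a - β2 • c) ∈ D.J ^ 4 := m4l hb hβ2
    have e : β2 • (b * c) = (b * b - δ • c) * a + δ • (c * a) - b * (b * a - β2 • c) := by
      simp only [sub_mul, mul_sub, smul_mul_assoc, mul_smul_comm, mul_assoc]
      module
    rw [e]; exact sub_mem (add_mem h1 ((D.J ^ 4).smul_mem _ hca)) h2
  have E5 : β1 • (c * b) ∈ D.J ^ 4 := by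
    have h1 : a * (b * b - δ • c) ∈ D.J ^ 4 := m4l ha hδ
    have h2 : (a * b - β1 • c) * b ∈ D.J ^ 4 := m4r hβ1 hb
    have e : β1 • (c * b) = a * (b * b - δ • c) + δ • (a * c) - (a * b - β1 • c) * b := by
      simp only [sub_mul, mul_sub, smul_mul_assoc, mul_smul_comm, mul_assoc]
      module
    rw [e]; exact sub_mem (add_mem h1 ((D.J ^ 4).smul_mem _ hac)) h2
  apply h3
  apply D.P_stab 2
  show D.J ^ 3 ≤ D.J ^ 4
  by_cases h0 : β2 = 0
  · have hβ1' : β1 = 1 := by rw [h0, sub_zero] at hβ; exact hβ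
    have hcb : c * b ∈ D.J ^ 4 := by rw [hβ1', one_smul] at E5; exact E5
    rw [show (3 : ℕ) = 2 + 1 from rfl, pow_succ, Submodule.mul_le]
    intro y hy x hx
    obtain ⟨t, ht⟩ := hJ2 y hy
    obtain ⟨t1, t2, hx2⟩ := hJ1 x hx
    have e : y * x = (t * t1) • (c * a) + (t * t2) • (c * b)
        + (y - t • c) * (t1 • a + t2 • b) + y * (x - (t1 • a + t2 • b)) := by
      simp only [sub_mul, mul_sub, mul_add, add_mul, smul_mul_assoc, mul_smul_comm, smul_smul]
      module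
    rw [e]
    refine add_mem (add_mem (add_mem ((D.J ^ 4).smul_mem _ hca) ((D.J ^ 4).smul_mem _ hcb))
      (m4r ht (add_mem (D.J.smul_mem _ ha) (D.J.smul_mem _ hb)))) ?_
    exact D.mul_mem_P_add hy hx2
  · have hbc : b * c ∈ D.J ^ 4 := by
      have := (D.J ^ 4).smul_mem β2⁻¹ E4
      rwa [smul_smul, inv_mul_cancel₀ h0, one_smul] at this
    rw [show (3 : ℕ) = 2 + 1 from rfl, pow_succ', Submodule.mul_le]
    intro x hx y hy
    obtain ⟨t, ht⟩ := hJ2 y hy
    obtain ⟨t1, t2, hx2⟩ := hJ1 x hx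
    have e : x * y = (t1 * t) • (a * c) + (t2 * t) • (b * c)
        + (t1 • a + t2 • b) * (y - t • c) + (x - (t1 • a + t2 • b)) * y := by
      simp only [sub_mul, mul_sub, mul_add, add_mul, smul_mul_assoc, mul_smul_comm, smul_smul]
      module
    rw [e]
    refine add_mem (add_mem (add_mem ((D.J ^ 4).smul_mem _ hac) ((D.J ^ 4).smul_mem _ hbc))
      (m4l (add_mem (D.J.smul_mem _ ha) (D.J.smul_mem _ hb)) ht)) ?_
    exact D.mul_mem_P_add hx2 hy

end Pair

end Ctx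

/-- A finite-dimensional symmetric local algebra over an algebraically closed field whose centre
is spanned by four elements is commutative. -/
theorem comm_of_center_le_four {F Λ : Type*} [Field F] [IsAlgClosed F] [Ring Λ] [Algebra F Λ]
    [FiniteDimensional F Λ] (lam : Λ →ₗ[F] F) (hsym : ∀ x y, lam (x * y) = lam (y * x))
    (hnd : ∀ x, x ≠ 0 → ∃ y, lam (x * y) ≠ 0)
    (π : Λ →ₐ[F] F) (hnil : ∃ N : ℕ, (RingHom.ker (π : Λ →+* F)) ^ N = ⊥)
    (c : Fin 4 → Λ) (hcen : ∀ w : Λ, (∀ x, w * x = x * w) → ∃ t : Fin 4 → F, w = ∑ i, t i • c i) :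
    ∀ x y : Λ, x * y = y * x := by
  obtain ⟨N, hN⟩ := hnil
  let D : Ctx F Λ := ⟨lam, π, c, N, hsym, hnd, hN, hcen⟩
  by_cases h3 : D.J ^ 3 = ⊥
  · exact D.comm_of_P3 h3
  by_cases hB : ∃ a ∈ D.J, ∀ x ∈ D.J, ∃ t : F, x - t • a ∈ D.J ^ 2
  · obtain ⟨a, ha, h⟩ := hB
    exact D.comm_of_cyclic ha h
  exfalso
  obtain ⟨s, hs, hls⟩ := D.exists_socle h3
  obtain ⟨a, b, hp⟩ := D.exists_pair hB
  obtain ⟨a', b', hp', haa⟩ := D.normalize hs hls hp
  exact D.final hs hls hp' haa h3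

end Cfsg.Agent.Lib.Helper87.SymLocal
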