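import Cfsg.Agent.Lib.Helper61.T2Stmt

/-!
# S2197, piece SMALL: a faithful action of a group of order `17971200` needs at least 14 points
-/

set_option autoImplicit false

namespace Cfsg.Agent.Lib.Helper87.T2SMALL

universe u v

theorem main : Cfsg.Agent.Lib.Helper61.T2Stmt.Small.{u, v} := by
  intro G _ _ Ω _ _ hf hcard
  by_contra hlt
  rw [not_le] at hlt
  have hinj : Function.Injective (MulAction.toPermHom G Ω) := MulAction.toPerm_injective
  have hdvd : Nat.card G ∣ Nat.card (Equiv.Perm Ω) :=
    Subgroup.card_dvd_of_injective (MulAction.toPermHom G Ω) hinj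
  classical
  rw [hcard, Nat.card_eq_fintype_card, Fintype.card_perm] at hdvd
  have h13 : (Fintype.card Ω).factorial ∣ (13).factorial :=
    Nat.factorial_dvd_factorial (by omega)
  have h := hdvd.trans h13
  revert h
  norm_num [Nat.factorial]

end Cfsg.Agent.Lib.Helper87.T2SMALL
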