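import Cfsg.Agent.Lib.Helper61.T2Stmt

/-!
# S2197, piece TRANSPORT: a faithful 2-transitive action transports along a group isomorphism
-/

set_option autoImplicit false

namespace Cfsg.Agent.Lib.Helper87.T2TRANSPORT

universe u v w

theorem main : Cfsg.Agent.Lib.Helper61.T2Stmt.Transport.{u, v, w} := by
  intro G G' _ _ e Ω _ _ hf h2
  refine ⟨MulAction.compHom Ω e.toMonoidHom, ?_, ?_⟩
  · letI : MulAction G' Ω := MulAction.compHom Ω e.toMonoidHom
    refine ⟨fun {g h} hgh => ?_⟩
    apply e.injective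
    apply hf.eq_of_smul_eq_smul
    intro ω
    exact hgh ω
  · letI : MulAction G' Ω := MulAction.compHom Ω e.toMonoidHom
    refine ⟨fun f f' => ?_⟩
    obtain ⟨g, hg⟩ := h2.exists_smul_eq f f'
    refine ⟨e.symm g, ?_⟩
    ext i
    have : (g • f) i = f' i := by rw [hg]
    have h1 : ((e.symm g) • f) i = (e.symm g) • f i := rfl
    have h2' : (e.symm g) • f i = e (e.symm g) • f i := rfl
    rw [h1, h2', e.apply_symm_apply]
    exact this

end Cfsg.Agent.Lib.Helper87.T2TRANSPORT
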