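import Mathlib
import Cfsg.Agent.Lib.Helper39.TLStmt

set_option autoImplicit false

/-!
# S4404 / PW5 (helper87, fourth seat)

A `p`-group `Y` (`p ≥ 5`, `p ≠ 7`) normalized by a reflection `x` centralizes `W`.
-/

namespace Cfsg.Agent.Lib.Helper87.TLPW5

open Cfsg Cfsg.Agent.Lib.Helper39.TLStmt

universe u

theorem arith (p k j : ℕ) (hp : p.Prime) (h2 : p ≠ 2) (h3 : p ≠ 3) (h7 : p ≠ 7) (hk : k ≤ 4)
    (hj : j ≤ k) (h : 2 ^ k ≡ 2 ^ j [MOD p]) : j = k ∨ (p = 5 ∧ k = 4 ∧ j = 0) := by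
  have hd : p ∣ 2 ^ k - 2 ^ j :=
    (Nat.modEq_iff_dvd' (Nat.pow_le_pow_right (by norm_num) hj)).mp h.symm
  rcases eq_or_lt_of_le hj with hjk | hjk
  · left; exact hjk
  · right
    have hpos : 0 < 2 ^ k - 2 ^ j := Nat.sub_pos_of_lt (Nat.pow_lt_pow_right (by norm_num) hjk)
    have hle : p ≤ 2 ^ k - 2 ^ j := Nat.le_of_dvd hpos hd
    have h16 : 2 ^ k ≤ 2 ^ 4 := Nat.pow_le_pow_right (by norm_num) hk
    have hp15 : p ≤ 15 := by
      have : 1 ≤ 2 ^ j := Nat.one_le_two_pow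
      omega
    have hp2 := hp.two_le
    interval_cases p
    all_goals first
      | exact absurd rfl h2
      | exact absurd rfl h3
      | exact absurd rfl h7
      | (exfalso; revert hp; norm_num; done)
      | (interval_cases k <;> interval_cases j <;>
          first
            | exact ⟨rfl, rfl, rfl⟩
            | (exfalso; revert hd; norm_num; done)
            | omega)

theorem grp {G : Type u} [Group G] (T C : G) (i : ℕ) (hi : i < 5) (hT : T ^ 3 = 1)
    (hC : C ^ 5 = 1) (hTC : T * C * T⁻¹ = C ^ i) (hCT : (C * T) ^ 3 = 1) : C = 1 := by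
  have h2 : T * C ^ i * T⁻¹ = (C ^ i) ^ i := by rw [← conj_pow, hTC]
  have h3 : T * (C ^ i) ^ i * T⁻¹ = ((C ^ i) ^ i) ^ i := by
    rw [← pow_mul, ← conj_pow, hTC, ← pow_mul, ← pow_mul, mul_assoc]
  have h4 : T ^ 3 * C * (T ^ 3)⁻¹ = ((C ^ i) ^ i) ^ i := by
    rw [← h3, ← h2, ← hTC]
    simp only [pow_succ, pow_zero, one_mul, mul_inv_rev, mul_assoc]
  rw [hT] at h4
  simp only [one_mul, inv_one, mul_one] at h4
  have h5 : orderOf C ∣ 5 := orderOf_dvd_of_pow_eq_one hC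
  have fin : ∀ n : ℕ, Nat.Coprime n 5 → C ^ n = 1 → C = 1 := by
    intro n hn hCn
    have h6 : orderOf C ∣ n := orderOf_dvd_of_pow_eq_one hCn
    have h7 : orderOf C ∣ 1 := by
      have := Nat.dvd_gcd h6 h5
      rwa [hn] at this
    exact orderOf_eq_one_iff.mp (Nat.dvd_one.mp h7)
  interval_cases i
  · simpa using h4
  · simp only [pow_one] at hTC
    have hcomm : Commute C T := by
      have : T * C = C * T := by
        calc T * C = T * C * T⁻¹ * T := by group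
          _ = C * T := by rw [hTC]
      exact this.symm
    rw [hcomm.mul_pow, hT, mul_one] at hCT
    exact fin 3 (by decide) hCT
  · refine fin 7 (by decide) ?_
    have : C ^ 7 * C = 1 * C := by
      rw [one_mul, ← pow_succ]; rw [← pow_mul, ← pow_mul] at h4; exact h4.symm
    exact mul_right_cancel this
  · refine fin 26 (by decide) ?_
    have : C ^ 26 * C = 1 * C := by
      rw [one_mul, ← pow_succ]; rw [← pow_mul, ← pow_mul] at h4; exact h4.symm
    exact mul_right_cancel this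
  · refine fin 63 (by decide) ?_
    have : C ^ 63 * C = 1 * C := by
      rw [one_mul, ← pow_succ]; rw [← pow_mul, ← pow_mul] at h4; exact h4.symm
    exact mul_right_cancel this

/-- the conjugation action of `D` on `U` -/
@[reducible] def act {S : Type u} [Group S] (U D : Subgroup S)
    (hDN : ∀ d ∈ D, ∀ u ∈ U, d * u * d⁻¹ ∈ U) : MulAction D U :=
  { smul := fun d u => ⟨(d : S) * u * (d : S)⁻¹, hDN d d.2 u u.2⟩
    one_smul := fun u => Subtype.ext (by
      show ((1 : D) : S) * u * ((1 : D) : S)⁻¹ = u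
      simp)
    mul_smul := fun a b u => Subtype.ext (by
      show ((a * b : D) : S) * u * ((a * b : D) : S)⁻¹ =
        (a : S) * ((b : S) * u * (b : S)⁻¹) * (a : S)⁻¹
      simp [mul_assoc]) }

theorem dich {S : Type u} [Group S] [Finite S] (U : Subgroup S) (k : ℕ) (hk : k ≤ 4)
    (hU : Nat.card U = 2 ^ k) (p : ℕ) (hp : p.Prime) (h2 : p ≠ 2) (h3 : p ≠ 3) (h7 : p ≠ 7)
    (D : Subgroup S) (hD : IsPGroup p D) (hDN : ∀ d ∈ D, ∀ u ∈ U, d * u * d⁻¹ ∈ U) :
    (∀ d ∈ D, ∀ u ∈ U, d * u * d⁻¹ = u) ∨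
      (p = 5 ∧ k = 4 ∧ ∀ u ∈ U, (∀ d ∈ D, d * u * d⁻¹ = u) → u = 1) := by
  haveI : Fact p.Prime := ⟨hp⟩
  letI : MulAction D U := act U D hDN
  let F : Subgroup S :=
    { carrier := {u | u ∈ U ∧ ∀ d ∈ D, d * u * d⁻¹ = u}
      one_mem' := ⟨U.one_mem, fun d _ => by simp⟩
      mul_mem' := by
        rintro a b ⟨ha, ha'⟩ ⟨hb, hb'⟩
        refine ⟨U.mul_mem ha hb, fun d hd => ?_⟩
        calc d * (a * b) * d⁻¹ = (d * a * d⁻¹) * (d * b * d⁻¹) := by group
          _ = a * b := by rw [ha' d hd, hb' d hd]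
      inv_mem' := by
        rintro a ⟨ha, ha'⟩
        refine ⟨U.inv_mem ha, fun d hd => ?_⟩
        calc d * a⁻¹ * d⁻¹ = (d * a * d⁻¹)⁻¹ := by group
          _ = a⁻¹ := by rw [ha' d hd] }
  have hFU : F ≤ U := fun u hu => hu.1
  have hcard : Nat.card (MulAction.fixedPoints D U) = Nat.card F := by
    refine Nat.card_congr ⟨fun v => ⟨(v.1 : S), ⟨v.1.2, fun d hd => ?_⟩⟩,
      fun w => ⟨⟨(w : S), w.2.1⟩, fun d => ?_⟩, fun v => rfl, fun w => rfl⟩
    · exact congrArg Subtype.val (v.2 ⟨d, hd⟩)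
    · exact Subtype.ext (w.2.2 d d.2)
  have hmod := hD.card_modEq_card_fixedPoints (α := U)
  rw [hcard, hU] at hmod
  have hdvd : Nat.card F ∣ 2 ^ k := by
    rw [← hU]; exact Subgroup.card_dvd_of_le hFU
  obtain ⟨j, hj, hFj⟩ := (Nat.dvd_prime_pow Nat.prime_two).mp hdvd
  rw [hFj] at hmod
  rcases arith p k j hp h2 h3 h7 hk hj hmod with h | ⟨h5, h4, h0⟩
  · left
    have hFU' : F = U := Subgroup.eq_of_le_of_card_ge hFU (by rw [hFj, hU, h])
    intro d hd u hu
    have hu' : u ∈ F := hFU' ▸ hu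
    exact hu'.2 d hd
  · right
    refine ⟨h5, h4, fun u hu hfix => ?_⟩
    have hu' : u ∈ F := ⟨hu, hfix⟩
    have hF1 : Nat.card F = 1 := by rw [hFj, h0]; rfl
    have hFb : F = ⊥ := Subgroup.card_eq_one.mp hF1
    rw [hFb] at hu'
    exact Subgroup.mem_bot.mp hu'

theorem mem_norm {S : Type u} [Group S] [Finite S] (U : Subgroup S) (g : S)
    (h : ∀ u ∈ U, g * u * g⁻¹ ∈ U) : g ∈ Subgroup.normalizer (U : Set S) := by
  rw [Subgroup.mem_normalizer_iff]
  intro n
  refine ⟨h n, fun hn => ?_⟩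
  let f : U → U := fun u => ⟨g * u * g⁻¹, h u u.2⟩
  have hf : Function.Injective f := by
    intro a b hab
    have h1 : g * (a : S) * g⁻¹ = g * (b : S) * g⁻¹ := congrArg Subtype.val hab
    exact Subtype.ext (by simpa using h1)
  obtain ⟨v, hv⟩ := (Finite.injective_iff_surjective.mp hf) ⟨g * n * g⁻¹, hn⟩
  have h1 : g * (v : S) * g⁻¹ = g * n * g⁻¹ := congrArg Subtype.val hv
  have hvn : (v : S) = n := by simpa using h1
  rw [← hvn]; exact v.2

theorem dich1 {S : Type u} [Group S] [Finite S] (U : Subgroup S) (k : ℕ) (hk : k ≤ 4)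
    (hU : Nat.card U = 2 ^ k) (p : ℕ) (hp : p.Prime) (h2 : p ≠ 2) (h3 : p ≠ 3) (h7 : p ≠ 7)
    (Y : Subgroup S) (hY : IsPGroup p Y) (d : S) (hd : d ∈ Y)
    (hdN : ∀ u ∈ U, d * u * d⁻¹ ∈ U) :
    (∀ u ∈ U, d * u * d⁻¹ = u) ∨ (p = 5 ∧ k = 4 ∧ ∀ u ∈ U, d * u * d⁻¹ = u → u = 1) := by
  have hdn := mem_norm U d hdN
  have hz : Subgroup.zpowers d ≤ Subgroup.normalizer (U : Set S) := Subgroup.zpowers_le.mpr hdn
  have hD : IsPGroup p (Subgroup.zpowers d) := hY.to_le (Subgroup.zpowers_le.mpr hd)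
  rcases dich U k hk hU p hp h2 h3 h7 (Subgroup.zpowers d) hD
      (fun e he u hu => (Subgroup.mem_normalizer_iff.mp (hz he) u).mp hu) with h | ⟨h5, h4, h⟩
  · left; exact fun u hu => h d (Subgroup.mem_zpowers d) u hu
  · right
    refine ⟨h5, h4, fun u hu hfix => h u hu (fun e he => ?_)⟩
    have hdc : d ∈ Subgroup.centralizer ({u} : Set S) := by
      rw [Subgroup.mem_centralizer_singleton_iff]
      calc d * u = d * u * d⁻¹ * d := by group
        _ = u * d := by rw [hfix]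
    have hec : e ∈ Subgroup.centralizer ({u} : Set S) := (Subgroup.zpowers_le.mpr hdc) he
    rw [Subgroup.mem_centralizer_singleton_iff] at hec
    calc e * u * e⁻¹ = u * e * e⁻¹ := by rw [hec]
      _ = u := by group

theorem main (hCop : Cop.{u}) (hC : Conj.{u}) (hE : ReflEq.{u}) : PW5.{u} := by
  intro S _ _ M _ hM p hp h2 h3 h7 Y Q hY hQ x W hxQ hR hxY
  intro y hy
  have hMc : ∀ a ∈ M, ∀ b ∈ M, a * b = b * a := fun a ha b hb =>
    congrArg Subtype.val (hM.1.is_comm.comm ⟨a, ha⟩ ⟨b, hb⟩)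
  have hM2 : ∀ a ∈ M, a ^ 2 = 1 := hM.2
  obtain ⟨x', hx'⟩ : ∃ x', x' = y * x * y⁻¹ := ⟨_, rfl⟩
  obtain ⟨W', hW'⟩ : ∃ W', W' = W.map (MulAut.conj y).toMonoidHom := ⟨_, rfl⟩
  have hR' : IsRefl M x' W' := by rw [hx', hW']; exact hC S M x W y hR
  obtain ⟨c, hc⟩ : ∃ c, c = x' * x⁻¹ := ⟨_, rfl⟩
  have hcY : c ∈ Y := by
    have h1 := hxY y⁻¹ (Y.inv_mem hy)
    have : c = y * (x * y⁻¹ * x⁻¹) := by rw [hc, hx']; group
    rw [this]; exact Y.mul_mem hy h1
  have hcx : c * x = x' := by rw [hc]; group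
  obtain ⟨U, hUdef⟩ : ∃ U : Subgroup S, ∀ u, u ∈ U ↔ ∃ a ∈ W, ∃ b ∈ W', u = a * b :=
    ⟨{ carrier := {u | ∃ a ∈ W, ∃ b ∈ W', u = a * b}
       one_mem' := ⟨1, W.one_mem, 1, W'.one_mem, by simp⟩
       mul_mem' := by
         rintro _ _ ⟨a, ha, b, hb, rfl⟩ ⟨a', ha', b', hb', rfl⟩
         refine ⟨a * a', W.mul_mem ha ha', b * b', W'.mul_mem hb hb', ?_⟩
         have := hMc b (hR'.le hb) a' (hR.le ha')
         calc a * b * (a' * b') = a * (b * a') * b' := by group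
           _ = a * (a' * b) * b' := by rw [this]
           _ = a * a' * (b * b') := by group
       inv_mem' := by
         rintro _ ⟨a, ha, b, hb, rfl⟩
         refine ⟨a⁻¹, W.inv_mem ha, b⁻¹, W'.inv_mem hb, ?_⟩
         have := hMc a (hR.le ha) b (hR'.le hb)
         calc (a * b)⁻¹ = (b * a)⁻¹ := by rw [this]
           _ = a⁻¹ * b⁻¹ := by group }, fun u => Iff.rfl⟩
  have hWU : W ≤ U := fun a ha => (hUdef a).mpr ⟨a, ha, 1, W'.one_mem, by simp⟩
  have hW'U : W' ≤ U := fun b hb => (hUdef b).mpr ⟨1, W.one_mem, b, hb, by simp⟩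
  have hUM : U ≤ M := by
    intro u hu
    obtain ⟨a, ha, b, hb, rfl⟩ := (hUdef u).mp hu
    exact M.mul_mem (hR.le ha) (hR'.le hb)
  have hxU : ∀ u ∈ U, x * u * x⁻¹ ∈ U := fun u hu => by
    have h := U.mul_mem (hWU (hR.comm u (hUM hu))) hu
    simpa using h
  have hcomm : ∀ m ∈ M, c * m * c⁻¹ * m⁻¹ ∈ U := by
    intro m hm
    have hm₁ : x⁻¹ * m * x ∈ M := by
      have := (inferInstance : M.Normal).conj_mem m hm x⁻¹
      simpa using this
    have h1 := hR.comm _ hm₁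
    have h2 := hR'.comm _ hm₁
    have e : c * m * c⁻¹ * m⁻¹ = (x' * (x⁻¹ * m * x) * x'⁻¹ * (x⁻¹ * m * x)⁻¹) *
        (x * (x⁻¹ * m * x) * x⁻¹ * (x⁻¹ * m * x)⁻¹)⁻¹ := by
      rw [hc]; group
    rw [e]
    exact U.mul_mem (hW'U h2) (U.inv_mem (hWU h1))
  have hcU : ∀ u ∈ U, c * u * c⁻¹ ∈ U := fun u hu => by
    have h := U.mul_mem (hcomm u (hUM hu)) hu
    simpa using h
  have hU2 : IsPGroup 2 U := by
    intro u
    refine ⟨1, ?_⟩
    apply Subtype.ext
    simpa using hM2 u (hUM u.2)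
  haveI : Fact (Nat.Prime 2) := ⟨Nat.prime_two⟩
  obtain ⟨k, hk⟩ := (IsPGroup.iff_card.mp hU2)
  have hk4 : k ≤ 4 := by
    have hsurj : Function.Surjective (fun ab : W × W' =>
        (⟨(ab.1 : S) * ab.2, (hUdef _).mpr ⟨ab.1, ab.1.2, ab.2, ab.2.2, rfl⟩⟩ : U)) := by
      rintro ⟨u, hu⟩
      obtain ⟨a, ha, b, hb, rfl⟩ := (hUdef u).mp hu
      exact ⟨(⟨a, ha⟩, ⟨b, hb⟩), rfl⟩
    have hle := Nat.card_le_card_of_surjective _ hsurj
    rw [Nat.card_prod, hR.card, hR'.card, hk] at hle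
    by_contra hcon
    have : 2 ^ 5 ≤ 2 ^ k := Nat.pow_le_pow_right (by norm_num) (by omega)
    omega
  have key : ∀ u ∈ U, c * u * c⁻¹ = u := by
    rcases dich1 U k hk4 hk p hp h2 h3 h7 Y hY c hcY hcU with h | ⟨h5, h4, hfpf⟩
    · exact h
    · exfalso
      subst h5
      subst h4
      haveI : Fact (Nat.Prime 5) := ⟨hp⟩
      have hxN : x ∈ Subgroup.normalizer (U : Set S) := mem_norm U x hxU
      have hcN : c ∈ Subgroup.normalizer (U : Set S) := mem_norm U c hcU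
      obtain ⟨D, hDdef⟩ : ∃ D : Subgroup S, D = Y ⊓ Subgroup.normalizer (U : Set S) := ⟨_, rfl⟩
      have hD : IsPGroup 5 D := hY.to_le (hDdef ▸ inf_le_left)
      have hDY : ∀ d ∈ D, d ∈ Y := fun d hd => (hDdef ▸ hd : d ∈ Y ⊓ _).1
      have hDNm : ∀ d ∈ D, d ∈ Subgroup.normalizer (U : Set S) :=
        fun d hd => (hDdef ▸ hd : d ∈ Y ⊓ _).2
      have hDmk : ∀ d, d ∈ Y → d ∈ Subgroup.normalizer (U : Set S) → d ∈ D :=
        fun d h1 h2 => by rw [hDdef]; exact ⟨h1, h2⟩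
      have hDN : ∀ d ∈ D, ∀ u ∈ U, d * u * d⁻¹ ∈ U := fun d hd u hu =>
        (Subgroup.mem_normalizer_iff.mp (hDNm d hd) u).mp hu
      have hcD : c ∈ D := hDmk c hcY hcN
      have hWne : W ≠ ⊥ := by
        intro h
        have := hR.card
        rw [h, Subgroup.card_bot] at this
        omega
      obtain ⟨⟨u₀, hu₀W⟩, hu₀'⟩ := Subgroup.ne_bot_iff_exists_ne_one.mp hWne
      have hu₀ : u₀ ≠ 1 := fun h => hu₀' (Subtype.ext h)
      have hu₀U : u₀ ∈ U := hWU hu₀W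
      obtain ⟨a, ha⟩ := hY ⟨c, hcY⟩
      have hca : c ^ 5 ^ a = 1 := by simpa using congrArg Subtype.val ha
      have hord : orderOf c ∣ 5 ^ a := orderOf_dvd_of_pow_eq_one hca
      have hpowfix : ∀ j, 0 < j → j < 5 → ∀ u ∈ U, c ^ j * u * (c ^ j)⁻¹ = u → u = 1 := by
        intro j hj0 hj5 u hu hfix
        apply hfpf u hu
        have hcop : Nat.Coprime j (orderOf c) := by
          apply Nat.Coprime.coprime_dvd_right hord
          apply Nat.Coprime.pow_right
          interval_cases j <;> decide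
        obtain ⟨t, ht⟩ := exists_pow_eq_self_of_coprime hcop
        have h1 : c ^ j ∈ Subgroup.centralizer ({u} : Set S) := by
          rw [Subgroup.mem_centralizer_singleton_iff]
          calc c ^ j * u = c ^ j * u * (c ^ j)⁻¹ * c ^ j := by group
            _ = u * c ^ j := by rw [hfix]
        have h2 : c ∈ Subgroup.centralizer ({u} : Set S) := by
          rw [← ht]; exact Subgroup.pow_mem _ h1 t
        rw [Subgroup.mem_centralizer_singleton_iff] at h2
        calc c * u * c⁻¹ = u * c * c⁻¹ := by rw [h2]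
          _ = u := by group
      have hdist : ∀ i j : ℕ, i < j → j < 5 →
          c ^ i * u₀ * (c ^ i)⁻¹ ≠ c ^ j * u₀ * (c ^ j)⁻¹ := by
        intro i j hij hj5 heq
        apply hu₀
        apply hpowfix (j - i) (by omega) (by omega) u₀ hu₀U
        have hj : c ^ j = c ^ i * c ^ (j - i) := by rw [← pow_add]; congr 1; omega
        rw [hj] at heq
        have : c ^ (j - i) * u₀ * (c ^ (j - i))⁻¹ = (c ^ i)⁻¹ *
            (c ^ i * c ^ (j - i) * u₀ * (c ^ i * c ^ (j - i))⁻¹) * c ^ i := by group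
        rw [this, ← heq]; group
      letI : MulAction D U := act U D hDN
      have hsm : ∀ (d : D) (v : U), ((d • v : U) : S) = (d : S) * v * (d : S)⁻¹ :=
        fun _ _ => rfl
      obtain ⟨n, hn⟩ := hD.card_orbit (⟨u₀, hu₀U⟩ : U)
      let g : Fin 5 → MulAction.orbit D (⟨u₀, hu₀U⟩ : U) := fun i =>
        ⟨(⟨c, hcD⟩ : D) ^ (i : ℕ) • (⟨u₀, hu₀U⟩ : U), MulAction.mem_orbit _ _⟩
      have hgval : ∀ i : Fin 5, (((g i : MulAction.orbit D (⟨u₀, hu₀U⟩ : U)) : U) : S) =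
          c ^ (i : ℕ) * u₀ * (c ^ (i : ℕ))⁻¹ := fun i => rfl
      have hg : Function.Injective g := by
        intro i j hij
        have h1 : c ^ (i : ℕ) * u₀ * (c ^ (i : ℕ))⁻¹ = c ^ (j : ℕ) * u₀ * (c ^ (j : ℕ))⁻¹ := by
          rw [← hgval, ← hgval, hij]
        by_contra hne
        rcases lt_or_gt_of_ne (fun h => hne (Fin.ext h)) with h | h
        · exact hdist _ _ h j.2 h1
        · exact hdist _ _ h i.2 h1.symm
      have h1not : (1 : U) ∉ MulAction.orbit D (⟨u₀, hu₀U⟩ : U) := by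
        rintro ⟨d, hd⟩
        have h' : (d : S) * u₀ * (d : S)⁻¹ = 1 := congrArg Subtype.val hd
        apply hu₀
        calc u₀ = (d : S)⁻¹ * ((d : S) * u₀ * (d : S)⁻¹) * (d : S) := by group
          _ = 1 := by rw [h']; group
      have hle15 : Nat.card (MulAction.orbit D (⟨u₀, hu₀U⟩ : U)) ≤ 15 := by
        have h1 : (insert (1 : U) (MulAction.orbit D (⟨u₀, hu₀U⟩ : U))).ncard =
            (MulAction.orbit D (⟨u₀, hu₀U⟩ : U)).ncard + 1 :=
          Set.ncard_insert_of_notMem h1not (Set.toFinite _)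
        have h2 : (insert (1 : U) (MulAction.orbit D (⟨u₀, hu₀U⟩ : U))).ncard ≤ Nat.card U :=
          Set.ncard_le_card _
        rw [Nat.card_coe_set_eq]
        rw [hk] at h2
        omega
      have h5le : 5 ≤ Nat.card (MulAction.orbit D (⟨u₀, hu₀U⟩ : U)) := by
        have := Nat.card_le_card_of_injective g hg
        simpa using this
      have hcard5 : Nat.card (MulAction.orbit D (⟨u₀, hu₀U⟩ : U)) = 5 := by
        rw [hn] at h5le hle15 ⊢
        have : n = 1 := by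
          rcases n with _ | _ | n
          · simp at h5le
          · rfl
          · exfalso
            have : 5 ^ 2 ≤ 5 ^ (n + 1 + 1) := Nat.pow_le_pow_right (by norm_num) (by omega)
            omega
        rw [this]; norm_num
      have hgsurj : Function.Surjective g :=
        (Function.Injective.bijective_of_nat_card_le hg (by simp [hcard5])).2
      have hstar : ∀ d ∈ D, ∃ i : ℕ, i < 5 ∧
          ∀ u ∈ U, d * u * d⁻¹ = c ^ i * u * (c ^ i)⁻¹ := by
        intro d hd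
        obtain ⟨i, hi⟩ := hgsurj ⟨(⟨d, hd⟩ : D) • (⟨u₀, hu₀U⟩ : U), MulAction.mem_orbit _ _⟩
        have h1 : c ^ (i : ℕ) * u₀ * (c ^ (i : ℕ))⁻¹ = d * u₀ * d⁻¹ := by
          rw [← hgval, hi]; rfl
        refine ⟨i, i.2, ?_⟩
        have heY : (c ^ (i : ℕ))⁻¹ * d ∈ Y :=
          Y.mul_mem (Y.inv_mem (Y.pow_mem hcY _)) (hDY d hd)
        have heN : (c ^ (i : ℕ))⁻¹ * d ∈ Subgroup.normalizer (U : Set S) :=
          Subgroup.mul_mem _ (Subgroup.inv_mem _ (Subgroup.pow_mem _ hcN _)) (hDNm d hd)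
        have heU : ∀ u ∈ U, ((c ^ (i : ℕ))⁻¹ * d) * u * ((c ^ (i : ℕ))⁻¹ * d)⁻¹ ∈ U :=
          fun u hu => (Subgroup.mem_normalizer_iff.mp heN u).mp hu
        rcases dich1 U _ hk4 hk _ hp h2 h3 h7 Y hY _ heY heU with h | ⟨_, _, h⟩
        · intro u hu
          have := h u hu
          calc d * u * d⁻¹ = c ^ (i : ℕ) * (((c ^ (i : ℕ))⁻¹ * d) * u *
                ((c ^ (i : ℕ))⁻¹ * d)⁻¹) * (c ^ (i : ℕ))⁻¹ := by group
            _ = _ := by rw [this]
        · exfalso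
          apply hu₀
          apply h u₀ hu₀U
          calc ((c ^ (i : ℕ))⁻¹ * d) * u₀ * ((c ^ (i : ℕ))⁻¹ * d)⁻¹ =
                (c ^ (i : ℕ))⁻¹ * (d * u₀ * d⁻¹) * c ^ (i : ℕ) := by group
            _ = u₀ := by rw [← h1]; group
      have hc5 : ∀ u ∈ U, c ^ 5 * u * (c ^ 5)⁻¹ = u := by
        obtain ⟨i, hi5, hi⟩ := hstar (c ^ 5) (D.pow_mem hcD 5)
        have hi0 : i = 0 := by
          by_contra hne
          apply hu₀
          apply hpowfix (5 - i) (by omega) (by omega) u₀ hu₀U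
          have h1 := hi u₀ hu₀U
          have hj : c ^ 5 = c ^ i * c ^ (5 - i) := by rw [← pow_add]; congr 1; omega
          rw [hj] at h1
          have : c ^ (5 - i) * u₀ * (c ^ (5 - i))⁻¹ = (c ^ i)⁻¹ *
              (c ^ i * c ^ (5 - i) * u₀ * (c ^ i * c ^ (5 - i))⁻¹) * c ^ i := by group
          rw [this, h1]; group
        intro u hu
        have := hi u hu
        rw [hi0] at this
        simpa using this
      have hc1D : x * c * x⁻¹ ∈ D := hDmk _ (hxY c hcY)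
        (Subgroup.mul_mem _ (Subgroup.mul_mem _ hxN hcN) (Subgroup.inv_mem _ hxN))
      obtain ⟨i, hi5, hi⟩ := hstar _ hc1D
      obtain ⟨ρ, hρ⟩ : ∃ ρ : Subgroup.normalizer (U : Set S) →* MulAut U,
          ∀ (g : Subgroup.normalizer (U : Set S)) (v : U),
            ((ρ g v : U) : S) = (g : S) * v * (g : S)⁻¹ :=
        ⟨U.normalizerMonoidHom, fun g v => rfl⟩
      have hext : ∀ g : Subgroup.normalizer (U : Set S),
          (∀ u ∈ U, (g : S) * u * (g : S)⁻¹ = u) → ρ g = 1 := by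
        intro g hg
        refine MulEquiv.ext fun v => Subtype.ext ?_
        rw [hρ]
        exact hg v v.2
      have hT : (ρ ⟨x, hxN⟩) ^ 3 = 1 := by
        rw [← map_pow]
        apply hext
        intro u hu
        have hx3 := hR.cube
        rw [Subgroup.mem_centralizer_iff] at hx3
        have h1 := hx3 u (hUM hu)
        show x ^ 3 * u * (x ^ 3)⁻¹ = u
        rw [← h1]; group
      have hCC : (ρ ⟨c, hcN⟩) ^ 5 = 1 := by
        rw [← map_pow]
        apply hext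
        intro u hu
        exact hc5 u hu
      have hTC : ρ ⟨x, hxN⟩ * ρ ⟨c, hcN⟩ * (ρ ⟨x, hxN⟩)⁻¹ = (ρ ⟨c, hcN⟩) ^ i := by
        rw [← map_inv, ← map_mul, ← map_mul, ← map_pow]
        refine MulEquiv.ext fun v => Subtype.ext ?_
        rw [hρ, hρ]
        exact hi v v.2
      have hCT : (ρ ⟨c, hcN⟩ * ρ ⟨x, hxN⟩) ^ 3 = 1 := by
        rw [← map_mul, ← map_pow]
        apply hext
        intro u hu
        have hx3 := hR'.cube
        rw [Subgroup.mem_centralizer_iff] at hx3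
        have h1 := hx3 u (hUM hu)
        show (c * x) ^ 3 * u * ((c * x) ^ 3)⁻¹ = u
        rw [hcx, ← h1]; group
      have hC1 := grp (ρ ⟨x, hxN⟩) (ρ ⟨c, hcN⟩) i hi5 hT hCC hTC hCT
      apply hu₀
      apply hfpf u₀ hu₀U
      have h1 := hρ ⟨c, hcN⟩ ⟨u₀, hu₀U⟩
      rw [hC1] at h1
      exact h1.symm
  have hodd : ∃ n, c ^ (2 * n + 1) = 1 := by
    obtain ⟨a, ha⟩ := hY ⟨c, hcY⟩
    have hca : c ^ p ^ a = 1 := by simpa using congrArg Subtype.val ha
    have hpodd : Odd (p ^ a) := (hp.odd_of_ne_two h2).pow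
    obtain ⟨n, hn⟩ := hpodd
    exact ⟨n, by rw [← hn]; exact hca⟩
  have hcM : ∀ m ∈ M, c * m * c⁻¹ = m := by
    intro m hm
    obtain ⟨v, hv⟩ : ∃ v, v = c * m * c⁻¹ * m⁻¹ := ⟨_, rfl⟩
    have hvU : v ∈ U := hv ▸ hcomm m hm
    have hcv : c * v * c⁻¹ = v := key v hvU
    have hcm : c * m * c⁻¹ = v * m := by rw [hv]; group
    have hpow : ∀ n : ℕ, c ^ n * m * (c ^ n)⁻¹ = v ^ n * m := by
      intro n
      induction n with
      | zero => simp
      | succ n ih =>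
        calc c ^ (n + 1) * m * (c ^ (n + 1))⁻¹ = c * (c ^ n * m * (c ^ n)⁻¹) * c⁻¹ := by
              simp only [pow_succ', mul_inv_rev, mul_assoc]
          _ = c * (v ^ n * m) * c⁻¹ := by rw [ih]
          _ = (c * v * c⁻¹) ^ n * (c * m * c⁻¹) := by
              rw [conj_pow]; simp only [mul_assoc, inv_mul_cancel_left]
          _ = v ^ (n + 1) * m := by rw [hcv, hcm, pow_succ, mul_assoc]
    obtain ⟨n, hn⟩ := hodd
    have h1 := hpow (2 * n + 1)
    rw [hn] at h1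
    simp only [one_mul, inv_one, mul_one] at h1
    have hv2 : v ^ 2 = 1 := hM2 v (hUM hvU)
    have hv1 : v ^ (2 * n + 1) = v := by rw [pow_succ, pow_mul, hv2, one_pow, one_mul]
    rw [hv1] at h1
    have hv0 : v = 1 := by
      have h2' : v * m = 1 * m := by rw [one_mul]; exact h1.symm
      exact mul_right_cancel h2'
    rw [hcm, hv0, one_mul]
  have hsame : ∀ m ∈ M, x * m * x⁻¹ = x' * m * x'⁻¹ := by
    intro m hm
    have hxm : x * m * x⁻¹ ∈ M := (inferInstance : M.Normal).conj_mem m hm x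
    have := hcM _ hxm
    rw [← hcx]
    calc x * m * x⁻¹ = c * (x * m * x⁻¹) * c⁻¹ := this.symm
      _ = c * x * m * (c * x)⁻¹ := by group
  have hWW : W = W' := hE S M hM x x' W W' hR hR' hsame
  have hyW : ∀ w ∈ W, y * w * y⁻¹ ∈ W := by
    intro w hw
    have h1 : y * w * y⁻¹ ∈ W' := by
      rw [hW']
      exact Subgroup.mem_map.mpr ⟨w, hw, by simp [MulAut.conj_apply]⟩
    rw [hWW]; exact h1
  have hW4 : Nat.card W = 2 ^ 2 := by rw [hR.card]; norm_num
  rcases dich1 W 2 (by norm_num) hW4 p hp h2 h3 h7 Y hY y hy hyW with h | ⟨_, h4, _⟩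
  · rw [Subgroup.mem_centralizer_iff]
    intro w hw
    have := h w hw
    calc w * y = y * w * y⁻¹ * y := by rw [this]
      _ = y * w := by group
  · omega

end Cfsg.Agent.Lib.Helper87.TLPW5
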