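import Mathlib
import Cfsg.Prelude.Def_FusionSystem
import Cfsg.Prelude.Def_FusionComponents
import Cfsg.Agent.H85.Basic
import Cfsg.Agent.H85.Aut
import Cfsg.Agent.H85.Sat
import Cfsg.Agent.Lib.Helper87.FSSat
import Cfsg.Agent.Lib.Helper88.Centric
import Cfsg.Agent.Lib.Helper88.PResStmt
import Cfsg.Agent.Lib.Helper88.WNStmt

/-! Piece STEP of S5141: if `α ∈ Aut_E(T)` is good on the `E`-centric subgroup `P ≠ T`, then
`α ^ |S|` is good on `N_T(P)`. -/

set_option autoImplicit false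

namespace Cfsg.Agent.Lib.Helper87.WNSTEP

open Cfsg Cfsg.FusionSystem Cfsg.Agent.Lib.Helper88.PResStmt Cfsg.Agent.Lib.Helper88.WNStmt

universe u

/-- Elements of the join of two elementwise commuting subgroups are products. -/
theorem exists_mul_of_mem_sup {G : Type*} [Group G] (A B : Subgroup G)
    (hcomm : ∀ a ∈ A, ∀ b ∈ B, a * b = b * a) {w : G} (hw : w ∈ A ⊔ B) :
    ∃ a ∈ A, ∃ b ∈ B, w = a * b := by
  rw [Subgroup.sup_eq_closure] at hw
  induction hw using Subgroup.closure_induction with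
  | mem x hx =>
    rcases hx with hx | hx
    · exact ⟨x, hx, 1, B.one_mem, (mul_one x).symm⟩
    · exact ⟨1, A.one_mem, x, hx, (one_mul x).symm⟩
  | one => exact ⟨1, A.one_mem, 1, B.one_mem, (mul_one 1).symm⟩
  | mul x y _ _ hx hy =>
    obtain ⟨a, ha, b, hb, rfl⟩ := hx
    obtain ⟨a', ha', b', hb', rfl⟩ := hy
    refine ⟨a * a', A.mul_mem ha ha', b * b', B.mul_mem hb hb', ?_⟩
    calc a * b * (a' * b') = a * (b * a') * b' := by group
      _ = a * (a' * b) * b' := by rw [hcomm a' ha' b hb]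
      _ = a * a' * (b * b') := by group
  | inv x _ hx =>
    obtain ⟨a, ha, b, hb, rfl⟩ := hx
    refine ⟨a⁻¹, A.inv_mem ha, b⁻¹, B.inv_mem hb, ?_⟩
    rw [mul_inv_rev, ← hcomm a⁻¹ (A.inv_mem ha) b⁻¹ (B.inv_mem hb)]

theorem main (hA : AutExt.{u}) (hTE : ThetaExt.{u}) : GoodStep.{u} := by
  intro Ω _ S _ p _ hS F hF T E hE α hα P hP hPne hgood
  have hinv := hE.2.2
  have hTcl : F.StronglyClosed T := hinv.2.1
  have hTS : T ≤ S := hTcl.1
  have hfinT : Finite T := H85.finite_of_le hTS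
  have hTp : IsPGroup p T := hS.to_le hTS
  have hPT : P ≤ T := hP.1
  have hCS : centralizerIn S T ≤ S := inf_le_left
  have hTCS : T ⊔ centralizerIn S T ≤ S := sup_le hTS hCS
  have hNT : normalizerIn T P ≤ T := inf_le_left
  have hPN : P ≤ normalizerIn T P := fun x hx => ⟨hPT hx, Subgroup.le_normalizer hx⟩
  have hNCS : normalizerIn T P ⊔ centralizerIn S T ≤ S := sup_le (hNT.trans hTS) hCS
  have hNCTC : normalizerIn T P ⊔ centralizerIn S T ≤ T ⊔ centralizerIn S T :=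
    sup_le_sup_right hNT _
  have hPCNC : P ⊔ centralizerIn S T ≤ normalizerIn T P ⊔ centralizerIn S T :=
    sup_le_sup_right hPN _
  have hfinNC : Finite ↥(normalizerIn T P ⊔ centralizerIn S T) := H85.finite_of_le hNCS
  have hcomm : ∀ t ∈ T, ∀ c ∈ centralizerIn S T, t * c = c * t := fun t ht c hc =>
    (Subgroup.mem_centralizer_iff.mp hc.2) t ht
  have hαE : T.subtype.comp α.toMonoidHom ∈ E.Hom T := (H85.mem_autGroup_iff E le_rfl α).mp hα
  have hαF : α ∈ F.autGroup T := (H85.mem_autGroup_iff F hTS α).mpr (hinv.1 T hαE)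
  obtain ⟨ρ, hρ, hρP, hρC⟩ := hgood
  obtain ⟨αh, hαh, hαhT⟩ := hA p hS F hF T hTcl α hαF
  -- facts on αh
  have hαhT' : ∀ x : T, αh (Subgroup.inclusion le_sup_left x) =
      Subgroup.inclusion le_sup_left (α x) := fun x => Subtype.ext (hαhT x)
  have hαhinvT : ∀ x : T, αh⁻¹ (Subgroup.inclusion le_sup_left x) =
      Subgroup.inclusion le_sup_left (α⁻¹ x) := by
    intro x
    have h1 := hαhT' (α⁻¹ x)
    rw [MulAut.apply_inv_self] at h1
    rw [← h1, MulAut.inv_apply_self]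
  have hαhpow : ∀ (j : ℕ) (x : T), (αh ^ j) (Subgroup.inclusion le_sup_left x) =
      Subgroup.inclusion le_sup_left ((α ^ j) x) := by
    intro j
    induction j with
    | zero => intro x; simp
    | succ j ih =>
      intro x
      rw [pow_succ', MulAut.mul_apply, ih x, hαhT', pow_succ', MulAut.mul_apply]
  have hαhpowT : ∀ (j : ℕ) (w : ↥(T ⊔ centralizerIn S T)), (w : Ω) ∈ T →
      (((αh ^ j) w : ↥(T ⊔ centralizerIn S T)) : Ω) ∈ T := by
    intro j w hw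
    have e : w = Subgroup.inclusion le_sup_left (⟨w, hw⟩ : T) := Subtype.ext rfl
    rw [e, hαhpow j]
    exact ((α ^ j) ⟨w, hw⟩).2
  have hαhinvC : ∀ c : ↥(T ⊔ centralizerIn S T), (c : Ω) ∈ centralizerIn S T →
      ((αh⁻¹ c : ↥(T ⊔ centralizerIn S T)) : Ω) ∈ centralizerIn S T := by
    intro c hc
    refine ⟨hTCS (αh⁻¹ c).2, Subgroup.mem_centralizer_iff.mpr fun t ht => ?_⟩
    have h1 := hαhinvT (α ⟨t, ht⟩)
    rw [MulAut.inv_apply_self] at h1
    have h2 : Subgroup.inclusion le_sup_left (α ⟨t, ht⟩) * c =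
        c * Subgroup.inclusion (le_sup_left : T ≤ T ⊔ centralizerIn S T) (α ⟨t, ht⟩) :=
      Subtype.ext (hcomm _ (α ⟨t, ht⟩).2 c hc)
    have h3 := congrArg (fun z => ((αh⁻¹ z : ↥(T ⊔ centralizerIn S T)) : Ω)) h2
    simp only [map_mul, Subgroup.coe_mul, h1] at h3
    exact h3
  -- facts on ρ
  have hρP' : ∀ x : P, ρ (Subgroup.inclusion le_sup_left x) = ((α ⟨x, hPT x.2⟩ : T) : Ω) :=
    fun x => by rw [hρP x, resAut_apply]
  have hρTC : ∀ y : ↥(P ⊔ centralizerIn S T), ρ y ∈ T ⊔ centralizerIn S T := by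
    have hle : P ⊔ centralizerIn S T ≤
        ((T ⊔ centralizerIn S T).comap ρ).map (P ⊔ centralizerIn S T).subtype := by
      refine sup_le ?_ ?_
      · intro x hx
        refine ⟨⟨x, Subgroup.mem_sup_left hx⟩, ?_, rfl⟩
        show ρ ⟨x, Subgroup.mem_sup_left hx⟩ ∈ T ⊔ centralizerIn S T
        have := hρP' ⟨x, hx⟩
        rw [show (⟨x, Subgroup.mem_sup_left hx⟩ : ↥(P ⊔ centralizerIn S T)) =
          Subgroup.inclusion le_sup_left (⟨x, hx⟩ : P) from rfl, this]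
        exact Subgroup.mem_sup_left (α _).2
      · intro c hc
        refine ⟨⟨c, Subgroup.mem_sup_right hc⟩, ?_, rfl⟩
        show ρ ⟨c, Subgroup.mem_sup_right hc⟩ ∈ T ⊔ centralizerIn S T
        have h1 := hρC ⟨c, Subgroup.mem_sup_right hc⟩ hc
        have e : ρ ⟨c, Subgroup.mem_sup_right hc⟩ =
            c * (c⁻¹ * ρ ⟨c, Subgroup.mem_sup_right hc⟩) := by group
        rw [e]
        exact Subgroup.mul_mem _ (Subgroup.mem_sup_right hc) (Subgroup.mem_sup_left h1)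
    intro y
    obtain ⟨z, hz, hzy⟩ := hle y.2
    have : z = y := Subtype.ext hzy
    rw [← this]
    exact hz
  -- the map θ = αh⁻¹ ∘ ρ
  have hαhinvF : (T ⊔ centralizerIn S T).subtype.comp (αh⁻¹).toMonoidHom ∈
      F.Hom (T ⊔ centralizerIn S T) :=
    (H85.mem_autGroup_iff F hTCS αh⁻¹).mp (Subgroup.inv_mem _ hαh)
  have hθ := F.comp_mem hρ hαhinvF hρTC
  obtain ⟨θ, hθdef⟩ : ∃ θ : ↥(P ⊔ centralizerIn S T) →* Ω,
      θ = ((T ⊔ centralizerIn S T).subtype.comp (αh⁻¹).toMonoidHom).comp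
        (ρ.codRestrict (T ⊔ centralizerIn S T) hρTC) := ⟨_, rfl⟩
  rw [← hθdef] at hθ
  have hθx : ∀ y : ↥(P ⊔ centralizerIn S T),
      θ y = ((αh⁻¹ ⟨ρ y, hρTC y⟩ : ↥(T ⊔ centralizerIn S T)) : Ω) := fun y => by
    rw [hθdef]; rfl
  have hθP : ∀ x : P, θ (Subgroup.inclusion le_sup_left x) = (x : Ω) := by
    intro x
    rw [hθx]
    have e : (⟨ρ (Subgroup.inclusion le_sup_left x), hρTC _⟩ : ↥(T ⊔ centralizerIn S T)) =
        Subgroup.inclusion le_sup_left (α ⟨x, hPT x.2⟩) := Subtype.ext (hρP' x)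
    rw [e, hαhinvT, MulAut.inv_apply_self]
    rfl
  -- α(P) contains its centralizer in T
  have hresE : resAut α P hPT ∈ E.Hom P :=
    H85.hom_congr E (H85.restrict_mem E hαE hPT) (fun x => rfl)
  have hcenαP := hP.2 (resAut α P hPT).range ⟨_, hresE, rfl⟩
  have hθC : ∀ (c : Ω) (hc : c ∈ centralizerIn S T),
      θ ⟨c, Subgroup.mem_sup_right hc⟩ ∈ P ⊔ centralizerIn S T := by
    intro c hc
    have hd : c⁻¹ * ρ ⟨c, Subgroup.mem_sup_right hc⟩ ∈ centralizerIn T (resAut α P hPT).range := by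
      refine ⟨hρC ⟨c, Subgroup.mem_sup_right hc⟩ hc, Subgroup.mem_centralizer_iff.mpr ?_⟩
      rintro _ ⟨x, rfl⟩
      rw [resAut_apply, ← hρP' x]
      have h1 : Subgroup.inclusion le_sup_left x * (⟨c, Subgroup.mem_sup_right hc⟩ :
          ↥(P ⊔ centralizerIn S T)) = ⟨c, Subgroup.mem_sup_right hc⟩ *
          Subgroup.inclusion le_sup_left x := Subtype.ext (hcomm x (hPT x.2) c hc)
      have h2 := congrArg ρ h1
      rw [map_mul, map_mul] at h2
      have h3 : ρ (Subgroup.inclusion le_sup_left x) * c = c * ρ (Subgroup.inclusion le_sup_left x) := by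
        rw [hρP' x]; exact hcomm _ (α _).2 c hc
      generalize ρ (Subgroup.inclusion le_sup_left x) = u at h2 h3 ⊢
      generalize ρ ⟨c, Subgroup.mem_sup_right hc⟩ = v at h2 ⊢
      have h4 : u * c⁻¹ = c⁻¹ * u := by
        calc u * c⁻¹ = c⁻¹ * (c * u) * c⁻¹ := by group
          _ = c⁻¹ * (u * c) * c⁻¹ := by rw [h3]
          _ = c⁻¹ * u := by group
      calc u * (c⁻¹ * v) = (u * c⁻¹) * v := by group
        _ = c⁻¹ * (u * v) := by rw [h4]; group
        _ = c⁻¹ * (v * u) := by rw [h2]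
        _ = c⁻¹ * v * u := by group
    obtain ⟨x₀, hx₀⟩ := hcenαP hd
    rw [resAut_apply] at hx₀
    rw [hθx]
    have e : (⟨ρ ⟨c, Subgroup.mem_sup_right hc⟩, hρTC _⟩ : ↥(T ⊔ centralizerIn S T)) =
        ⟨c, Subgroup.mem_sup_right hc⟩ * Subgroup.inclusion le_sup_left (α ⟨x₀, hPT x₀.2⟩) := by
      apply Subtype.ext
      show ρ ⟨c, Subgroup.mem_sup_right hc⟩ = c * ((α ⟨x₀, hPT x₀.2⟩ : T) : Ω)
      rw [hx₀]; group
    rw [e, map_mul, hαhinvT, MulAut.inv_apply_self]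
    exact Subgroup.mul_mem _ (Subgroup.mem_sup_right (hαhinvC _ hc)) (Subgroup.mem_sup_left x₀.2)
  have hθR : ∀ y : ↥(P ⊔ centralizerIn S T), θ y ∈ P ⊔ centralizerIn S T := by
    have hle : P ⊔ centralizerIn S T ≤
        ((P ⊔ centralizerIn S T).comap θ).map (P ⊔ centralizerIn S T).subtype := by
      refine sup_le ?_ ?_
      · intro x hx
        refine ⟨⟨x, Subgroup.mem_sup_left hx⟩, ?_, rfl⟩
        show θ ⟨x, Subgroup.mem_sup_left hx⟩ ∈ P ⊔ centralizerIn S T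
        have := hθP ⟨x, hx⟩
        rw [show (⟨x, Subgroup.mem_sup_left hx⟩ : ↥(P ⊔ centralizerIn S T)) =
          Subgroup.inclusion le_sup_left (⟨x, hx⟩ : P) from rfl, this]
        exact Subgroup.mem_sup_left hx
      · intro c hc
        exact ⟨⟨c, Subgroup.mem_sup_right hc⟩, hθC c hc, rfl⟩
    intro y
    obtain ⟨z, hz, hzy⟩ := hle y.2
    have : z = y := Subtype.ext hzy
    rw [← this]
    exact hz
  -- extension to N ⊔ C
  obtain ⟨θ₂, hθ₂, hθ₂ext, hθ₂N⟩ := hTE p hS F hF E hE P hP θ hθ hθP hθR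
  have hθ₂inj : Function.Injective
      (θ₂.codRestrict (normalizerIn T P ⊔ centralizerIn S T) hθ₂N) := by
    intro a b hab
    exact F.injective_of_mem hθ₂ (congrArg Subtype.val hab)
  obtain ⟨β₂, hβ₂⟩ : ∃ β₂ : MulAut ↥(normalizerIn T P ⊔ centralizerIn S T),
      ∀ y, ((β₂ y : ↥(normalizerIn T P ⊔ centralizerIn S T)) : Ω) = θ₂ y :=
    ⟨MulEquiv.ofBijective _ ⟨hθ₂inj, Finite.surjective_of_injective hθ₂inj⟩, fun y => rfl⟩
  have hβ₂F : β₂ ∈ F.autGroup (normalizerIn T P ⊔ centralizerIn S T) :=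
    (H85.mem_autGroup_iff F hNCS β₂).mpr (H85.hom_congr F hθ₂ (fun y => hβ₂ y))
  -- β₂ fixes P
  have hβ₂P : ∀ (x : Ω) (hx : x ∈ P),
      β₂ ⟨x, hPCNC (Subgroup.mem_sup_left hx)⟩ = ⟨x, hPCNC (Subgroup.mem_sup_left hx)⟩ := by
    intro x hx
    apply Subtype.ext
    rw [hβ₂]
    have h1 := hθ₂ext ⟨x, Subgroup.mem_sup_left hx⟩ (hPCNC (Subgroup.mem_sup_left hx))
    rw [h1]
    exact hθP ⟨x, hx⟩
  -- β₂ preserves T
  have hβ₂T : ∀ w : ↥(normalizerIn T P ⊔ centralizerIn S T), (w : Ω) ∈ T →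
      ((β₂ w : ↥(normalizerIn T P ⊔ centralizerIn S T)) : Ω) ∈ T := by
    intro w hw
    rw [hβ₂]
    exact hTcl.2 _ (inf_le_right : (normalizerIn T P ⊔ centralizerIn S T) ⊓ T ≤ T) _
      (H85.restrict_mem F hθ₂ inf_le_left) ⟨w, ⟨w.2, hw⟩⟩
  -- β₂ on N
  have hβ₂N : ∀ (g : Ω) (hg : g ∈ normalizerIn T P),
      ∃ (z : Ω) (hz : z ∈ P), β₂ ⟨g, Subgroup.mem_sup_left hg⟩ =
        ⟨g, Subgroup.mem_sup_left hg⟩ * ⟨z, hPCNC (Subgroup.mem_sup_left hz)⟩ := by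
    intro g hg
    have hbT := hβ₂T ⟨g, Subgroup.mem_sup_left hg⟩ hg.1
    have hz : g⁻¹ * ((β₂ ⟨g, Subgroup.mem_sup_left hg⟩ :
        ↥(normalizerIn T P ⊔ centralizerIn S T)) : Ω) ∈ centralizerIn T P := by
      refine ⟨T.mul_mem (T.inv_mem hg.1) hbT, Subgroup.mem_centralizer_iff.mpr fun x hx => ?_⟩
      have hw : g * x * g⁻¹ ∈ P := (Subgroup.mem_normalizer_iff.mp hg.2 x).mp hx
      have h1 := hβ₂P _ hw
      have e1 : (⟨g * x * g⁻¹, hPCNC (Subgroup.mem_sup_left hw)⟩ :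
          ↥(normalizerIn T P ⊔ centralizerIn S T)) =
          ⟨g, Subgroup.mem_sup_left hg⟩ * ⟨x, hPCNC (Subgroup.mem_sup_left hx)⟩ *
            ⟨g, Subgroup.mem_sup_left hg⟩⁻¹ := Subtype.ext rfl
      rw [e1, map_mul, map_mul, map_inv, hβ₂P x hx] at h1
      have h2 := congrArg (fun z : ↥(normalizerIn T P ⊔ centralizerIn S T) => (z : Ω)) h1
      simp only [Subgroup.coe_mul, Subgroup.coe_inv] at h2
      generalize ((β₂ ⟨g, Subgroup.mem_sup_left hg⟩ :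
        ↥(normalizerIn T P ⊔ centralizerIn S T)) : Ω) = b at h2 ⊢
      calc x * (g⁻¹ * b) = g⁻¹ * (g * x * g⁻¹) * b := by group
        _ = g⁻¹ * (b * x * b⁻¹) * b := by rw [← h2]
        _ = g⁻¹ * b * x := by group
    have hzP := hP.2 P (H85.isConj_refl E hPT) hz
    refine ⟨_, hzP, ?_⟩
    apply Subtype.ext
    show _ = g * (g⁻¹ * _)
    group
  have hβ₂pow : ∀ (j : ℕ) (g : ↥(normalizerIn T P ⊔ centralizerIn S T)) (z : Ω) (hz : z ∈ P),
      β₂ g = g * ⟨z, hPCNC (Subgroup.mem_sup_left hz)⟩ →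
      (β₂ ^ j) g = g * ⟨z, hPCNC (Subgroup.mem_sup_left hz)⟩ ^ j := by
    intro j
    induction j with
    | zero => intro g z hz _; simp
    | succ j ih =>
      intro g z hz hgz
      rw [pow_succ', MulAut.mul_apply, ih g z hz hgz, map_mul, map_pow, hgz, hβ₂P z hz,
        pow_succ', mul_assoc]
  have hβ₂card : ∀ (g : Ω) (hg : g ∈ normalizerIn T P),
      (β₂ ^ Nat.card S) ⟨g, Subgroup.mem_sup_left hg⟩ = ⟨g, Subgroup.mem_sup_left hg⟩ := by
    intro g hg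
    obtain ⟨z, hz, hgz⟩ := hβ₂N g hg
    rw [hβ₂pow _ _ z hz hgz]
    have h1 : (⟨z, hTS (hPT hz)⟩ : S) ^ Nat.card S = 1 := pow_card_eq_one'
    have h2 : z ^ Nat.card S = 1 := by
      have h3 : (((⟨z, hTS (hPT hz)⟩ : S) ^ Nat.card S : S) : Ω) = ((1 : S) : Ω) :=
        congrArg (fun t : S => (t : Ω)) h1
      rw [Subgroup.coe_pow, Subgroup.coe_one] at h3
      exact h3
    apply Subtype.ext
    show g * (((⟨z, hPCNC (Subgroup.mem_sup_left hz)⟩ :
      ↥(normalizerIn T P ⊔ centralizerIn S T)) ^ Nat.card S :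
      ↥(normalizerIn T P ⊔ centralizerIn S T)) : Ω) = g
    rw [Subgroup.coe_pow]
    show g * z ^ Nat.card S = g
    rw [h2, mul_one]
  -- (*) : αh (β₂ w) ≡ w mod T
  have hstar : ∀ w : ↥(normalizerIn T P ⊔ centralizerIn S T),
      (w : Ω)⁻¹ * ((αh (Subgroup.inclusion hNCTC (β₂ w)) : ↥(T ⊔ centralizerIn S T)) : Ω) ∈ T := by
    intro w
    obtain ⟨g, hg, c, hc, hw⟩ := exists_mul_of_mem_sup (normalizerIn T P) (centralizerIn S T)
      (fun a ha b hb => hcomm a ha.1 b hb) w.2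
    have e : w = ⟨g, Subgroup.mem_sup_left hg⟩ * ⟨c, Subgroup.mem_sup_right hc⟩ :=
      Subtype.ext hw
    rw [e, map_mul, map_mul, map_mul]
    -- the g part
    have hgT : ((αh (Subgroup.inclusion hNCTC (β₂ ⟨g, Subgroup.mem_sup_left hg⟩)) :
        ↥(T ⊔ centralizerIn S T)) : Ω) ∈ T := by
      have := hαhpowT 1 (Subgroup.inclusion hNCTC (β₂ ⟨g, Subgroup.mem_sup_left hg⟩))
        (hβ₂T _ hg.1)
      rwa [pow_one] at this
    -- the c part
    have hcρ : ((αh (Subgroup.inclusion hNCTC (β₂ ⟨c, Subgroup.mem_sup_right hc⟩)) :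
        ↥(T ⊔ centralizerIn S T)) : Ω) = ρ ⟨c, Subgroup.mem_sup_right hc⟩ := by
      have h1 : Subgroup.inclusion hNCTC (β₂ ⟨c, Subgroup.mem_sup_right hc⟩) =
          αh⁻¹ ⟨ρ ⟨c, Subgroup.mem_sup_right hc⟩, hρTC _⟩ := by
        apply Subtype.ext
        show ((β₂ ⟨c, Subgroup.mem_sup_right hc⟩ :
          ↥(normalizerIn T P ⊔ centralizerIn S T)) : Ω) = _
        rw [hβ₂, ← hθx]
        exact hθ₂ext ⟨c, Subgroup.mem_sup_right hc⟩ (Subgroup.mem_sup_right hc)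
      rw [h1, MulAut.apply_inv_self]
    have hcT := hρC ⟨c, Subgroup.mem_sup_right hc⟩ hc
    show (g * c)⁻¹ * (((αh (Subgroup.inclusion hNCTC (β₂ ⟨g, Subgroup.mem_sup_left hg⟩)) :
        ↥(T ⊔ centralizerIn S T)) : Ω) *
      ((αh (Subgroup.inclusion hNCTC (β₂ ⟨c, Subgroup.mem_sup_right hc⟩)) :
        ↥(T ⊔ centralizerIn S T)) : Ω)) ∈ T
    rw [hcρ]
    generalize ((αh (Subgroup.inclusion hNCTC (β₂ ⟨g, Subgroup.mem_sup_left hg⟩)) :
        ↥(T ⊔ centralizerIn S T)) : Ω) = k at hgT ⊢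
    generalize ρ ⟨c, Subgroup.mem_sup_right hc⟩ = r at hcT ⊢
    have ht₀ : g⁻¹ * k ∈ T := T.mul_mem (T.inv_mem hg.1) hgT
    have e2 : (g * c)⁻¹ * (k * r) = (g⁻¹ * k) * (c⁻¹ * r) := by
      have h3 : (g⁻¹ * k) * c = c * (g⁻¹ * k) := hcomm _ ht₀ c hc
      calc (g * c)⁻¹ * (k * r) = c⁻¹ * ((g⁻¹ * k) * c) * c⁻¹ * r := by group
        _ = c⁻¹ * (c * (g⁻¹ * k)) * c⁻¹ * r := by rw [h3]
        _ = (g⁻¹ * k) * (c⁻¹ * r) := by group
    rw [e2]
    exact T.mul_mem ht₀ hcT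
  -- (**)
  have hstar2 : ∀ (j : ℕ) (w : ↥(normalizerIn T P ⊔ centralizerIn S T)),
      (w : Ω)⁻¹ * (((αh ^ j) (Subgroup.inclusion hNCTC ((β₂ ^ j) w)) :
        ↥(T ⊔ centralizerIn S T)) : Ω) ∈ T := by
    intro j
    induction j with
    | zero =>
      intro w
      simp only [pow_zero, MulAut.one_apply]
      show (w : Ω)⁻¹ * (w : Ω) ∈ T
      rw [inv_mul_cancel]
      exact T.one_mem
    | succ j ih =>
      intro w
      have h1 := hstar ((β₂ ^ j) w)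
      obtain ⟨t₁, ht₁⟩ : ∃ t₁ : ↥(T ⊔ centralizerIn S T), (t₁ : Ω) =
          (((β₂ ^ j) w : ↥(normalizerIn T P ⊔ centralizerIn S T)) : Ω)⁻¹ *
          ((αh (Subgroup.inclusion hNCTC (β₂ ((β₂ ^ j) w))) : ↥(T ⊔ centralizerIn S T)) : Ω) :=
        ⟨⟨_, Subgroup.mem_sup_left h1⟩, rfl⟩
      have ht₁T : (t₁ : Ω) ∈ T := by rw [ht₁]; exact h1
      have e1 : αh (Subgroup.inclusion hNCTC (β₂ ((β₂ ^ j) w))) =
          Subgroup.inclusion hNCTC ((β₂ ^ j) w) * t₁ := by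
        apply Subtype.ext
        show _ = (((β₂ ^ j) w : ↥(normalizerIn T P ⊔ centralizerIn S T)) : Ω) * (t₁ : Ω)
        rw [ht₁]; group
      have e2 : (αh ^ (j + 1)) (Subgroup.inclusion hNCTC ((β₂ ^ (j + 1)) w)) =
          (αh ^ j) (Subgroup.inclusion hNCTC ((β₂ ^ j) w)) * (αh ^ j) t₁ := by
        rw [pow_succ αh j, MulAut.mul_apply, pow_succ' β₂ j, MulAut.mul_apply, e1, map_mul]
      rw [e2]
      show (w : Ω)⁻¹ * ((((αh ^ j) (Subgroup.inclusion hNCTC ((β₂ ^ j) w)) :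
        ↥(T ⊔ centralizerIn S T)) : Ω) * (((αh ^ j) t₁ : ↥(T ⊔ centralizerIn S T)) : Ω)) ∈ T
      rw [← mul_assoc]
      exact T.mul_mem (ih w) (hαhpowT j t₁ ht₁T)
  -- the final map
  have hNc : E.IsCentric (normalizerIn T P) := Helper88.Centric.isCentric_of_le E hP hPN hNT
  have hlt : Nat.card P < Nat.card (normalizerIn T P) :=
    Lib.Helper87.FSSat.card_lt_card_normalizerIn hTp hPT hPne
  refine ⟨normalizerIn T P, hNc, hlt, ?_⟩
  have hb : (normalizerIn T P ⊔ centralizerIn S T).subtype.comp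
      (β₂ ^ Nat.card S).toMonoidHom ∈ F.Hom (normalizerIn T P ⊔ centralizerIn S T) :=
    (H85.mem_autGroup_iff F hNCS _).mp (Subgroup.pow_mem _ hβ₂F _)
  have ha : (T ⊔ centralizerIn S T).subtype.comp (αh ^ Nat.card S).toMonoidHom ∈
      F.Hom (T ⊔ centralizerIn S T) :=
    (H85.mem_autGroup_iff F hTCS _).mp (Subgroup.pow_mem _ hαh _)
  have hbTC : ∀ w : ↥(normalizerIn T P ⊔ centralizerIn S T),
      ((normalizerIn T P ⊔ centralizerIn S T).subtype.comp (β₂ ^ Nat.card S).toMonoidHom) w ∈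
        T ⊔ centralizerIn S T := fun w => hNCTC ((β₂ ^ Nat.card S) w).2
  refine ⟨_, F.comp_mem hb ha hbTC, ?_, ?_⟩
  · intro x
    show (((αh ^ Nat.card S) (Subgroup.inclusion hNCTC
      ((β₂ ^ Nat.card S) (Subgroup.inclusion le_sup_left x))) :
        ↥(T ⊔ centralizerIn S T)) : Ω) = _
    have e1 : (Subgroup.inclusion le_sup_left x : ↥(normalizerIn T P ⊔ centralizerIn S T)) =
        ⟨x, Subgroup.mem_sup_left x.2⟩ := rfl
    rw [e1, hβ₂card x x.2]
    have e2 : Subgroup.inclusion hNCTC (⟨x, Subgroup.mem_sup_left x.2⟩ :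
        ↥(normalizerIn T P ⊔ centralizerIn S T)) =
        Subgroup.inclusion le_sup_left (⟨x, hNT x.2⟩ : T) := rfl
    rw [e2, hαhpow, resAut_apply]
    rfl
  · intro c _
    exact hstar2 (Nat.card S) c

end Cfsg.Agent.Lib.Helper87.WNSTEP
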